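import Cfsg.Agent.H527.RC.Defs
import Cfsg.Agent.Lib.Cores
import Cfsg.Agent.H527.RC.Stmts
import Cfsg.Agent.H822.Cls.Parts
import Cfsg.Agent.Lib.FieldAutCard
import Cfsg.Agent.Lib.SolvableNormalP
import Cfsg.Agent.SmallSimple.KleinFourAut
import Mathlib
import Cfsg.Agent.S0044
import Cfsg.Agent.Lib.ElemAbGL
import Cfsg.Agent.S0043
import Cfsg.Agent.S0547
import Cfsg.Agent.S0548
import Cfsg.Agent.S4374
import Cfsg.Agent.H553.SolvPerm
import Cfsg.Agent.Lib.MinNormal
import Cfsg.Agent.SolvableStructure.MinimalNormal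
import Cfsg.Agent.SolvableStructure.PrimitiveSolvable
import Cfsg.Agent.Omega.EH3.Irr.Alg_m3
import Cfsg.Agent.H578.Base3
import Cfsg.Agent.Classification.NormalCyclic
import Cfsg.Agent.Transfer.PGroupNormal
import Cfsg.Agent.H351.HalfTransConf
import Cfsg.Agent.S0126
import Cfsg.Agent.H933.CommDim
import Cfsg.Agent.H855.RC.Small
import Cfsg.Agent.Transfer.ElemAbAut
import Cfsg.Agent.S3360
import Cfsg.Agent.S0014
import Cfsg.Agent.FastGrp
import Cfsg.Agent.Prune
set_option linter.all false

section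
prune_inst 0x7ff0fef82fb8addffdfe7e7fa6f0cffc19d49ffff6dff94bbfe0a3ff8b9f03022bc5ab8d0de040fe0ec6601410b87803f97eca3fa06bdc7ffffd5ff41ffbee1f9566b58851d488340fbc0ff6e3f0778e7f3fffffffffffffffffffffffffffbeffbfffffffff

-- part: H527/RC/FHB
section
set_option linter.all false
open scoped Cfsg.Agent.FastGrp

/-!
# Fitting height: basic lemmas (helper527)
-/

set_option autoImplicit false

namespace Cfsg.Agent.H527.RC

open scoped Pointwise commutatorElement

universe u v w

theorem isNilpotent_of_injective {G : Type u} {H : Type v} [Group G] [Group H] (f : H →* G)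
    (hf : Function.Injective f) (h : Group.IsNilpotent G) : Group.IsNilpotent H := by
  refine Subgroup.isNilpotent_of_ker_le_center f ?_
  rw [(MonoidHom.ker_eq_bot_iff f).2 hf]
  exact bot_le

theorem FH.zero_iff {G : Type u} [Group G] : FH 0 G ↔ Subsingleton G := Iff.rfl

/-- **Families**: a group embedded in a finite product of groups of Fitting height at most `t`. -/
theorem FH.of_family {t : ℕ} : ∀ {G : Type u} [Group G] {ι : Type w} [Finite ι] {Hs : ι → Type v}
    [∀ i, Group (Hs i)] (f : ∀ i, G →* Hs i) (_ : ∀ g : G, (∀ i, f i g = 1) → g = 1) (_ : ∀ i, FH t (Hs i)),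
    FH t G := by
  induction t with
  | zero =>
    intro G _ ι _ Hs _ f hf h
    refine ⟨fun a b => ?_⟩
    have h1 : ∀ g : G, g = 1 := fun g => hf g fun i => (h i).elim _ _
    rw [h1 a, h1 b]
  | succ t IH =>
    intro G _ ι _ Hs _ f hf h
    choose N hN hnil hFH using h
    have hMn : (⨅ i, (N i).comap (f i)).Normal := by
      have : ∀ i, ((N i).comap (f i)).Normal := fun i => (hN i).comap (f i)
      exact Subgroup.normal_iInf_normal this
    refine ⟨⨅ i, (N i).comap (f i), hMn, ?_, ?_⟩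
    · have h1 : ∀ i, ∀ x : (⨅ i, (N i).comap (f i) : Subgroup G), f i (x : G) ∈ N i := by
        intro i x
        have := (Subgroup.mem_iInf.1 x.2) i
        exact this
      let g : (⨅ i, (N i).comap (f i) : Subgroup G) →* (∀ i, N i) := MonoidHom.pi fun i =>
        ((f i).comp (Subgroup.subtype _)).codRestrict (N i) (h1 i)
      refine isNilpotent_of_injective g ?_ inferInstance
      rw [injective_iff_map_eq_one]
      intro x hx
      apply Subtype.ext
      apply hf
      intro i
      have := congrFun hx i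
      exact congrArg Subtype.val this
    · refine IH (ι := ι) (Hs := fun i => Hs i ⧸ N i) (fun i => QuotientGroup.map _ (N i) (f i) (iInf_le _ i)) ?_ hFH
      intro x
      induction x using QuotientGroup.induction_on with
      | H x =>
        intro hx
        rw [QuotientGroup.eq_one_iff, Subgroup.mem_iInf]
        intro i
        have := hx i
        rw [QuotientGroup.map_mk, QuotientGroup.eq_one_iff] at this
        exact this

/-- subgroups -/
theorem FH.of_injective {t : ℕ} {G : Type u} {H : Type v} [Group G] [Group H] (f : H →* G)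
    (hf : Function.Injective f) (h : FH t G) : FH t H :=
  FH.of_family (ι := Unit) (Hs := fun _ => G) (fun _ => f)
    (fun g hg => hf (by rw [map_one]; exact hg ())) (fun _ => h)

theorem FH.congr {t : ℕ} {G : Type u} {H : Type v} [Group G] [Group H] (e : G ≃* H) (h : FH t G) : FH t H :=
  FH.of_injective e.symm.toMonoidHom e.symm.injective h

theorem FH.subgroup {t : ℕ} {G : Type u} [Group G] (h : FH t G) (H : Subgroup G) : FH t H :=
  FH.of_injective H.subtype H.subtype_injective h

theorem FH.of_le {t : ℕ} {G : Type u} [Group G] {H K : Subgroup G} (hHK : H ≤ K) (h : FH t K) : FH t H :=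
  FH.of_injective (Subgroup.inclusion hHK) (Subgroup.inclusion_injective hHK) h

theorem FH.prod {t : ℕ} : ∀ {G : Type u} {H : Type v} [Group G] [Group H] (_ : FH t G) (_ : FH t H),
    FH t (G × H) := by
  induction t with
  | zero =>
    intro G H _ _ h1 h2
    have h3 : Subsingleton G := h1
    have h4 : Subsingleton H := h2
    exact (inferInstance : Subsingleton (G × H))
  | succ t IH =>
    intro G H _ _ h1 h2
    obtain ⟨M, hM, hMn, hMq⟩ := h1
    obtain ⟨N, hN, hNn, hNq⟩ := h2
    refine ⟨M.prod N, inferInstance, ?_, ?_⟩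
    · exact isNilpotent_of_injective (M.prodEquiv N).toMonoidHom (M.prodEquiv N).injective inferInstance
    · refine FH.of_injective (G := (G ⧸ M) × (H ⧸ N)) (QuotientGroup.lift (M.prod N)
        (((QuotientGroup.mk' M).comp (MonoidHom.fst G H)).prod ((QuotientGroup.mk' N).comp (MonoidHom.snd G H)))
        ?_) ?_ (IH hMq hNq)
      · rintro ⟨x, y⟩ ⟨hx, hy⟩
        exact Prod.ext ((QuotientGroup.eq_one_iff x).2 hx) ((QuotientGroup.eq_one_iff y).2 hy)
      · rw [injective_iff_map_eq_one]
        intro x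
        induction x using QuotientGroup.induction_on with
        | H x =>
          intro hx
          rw [QuotientGroup.lift_mk] at hx
          rw [QuotientGroup.eq_one_iff]
          exact ⟨(QuotientGroup.eq_one_iff x.1).1 (congrArg Prod.fst hx),
            (QuotientGroup.eq_one_iff x.2).1 (congrArg Prod.snd hx)⟩

/-- two maps -/
theorem FH.of_two {t : ℕ} {G : Type u} {H K : Type v} [Group G] [Group H] [Group K] (f : G →* H) (g : G →* K)
    (hfg : ∀ x : G, f x = 1 → g x = 1 → x = 1) (h1 : FH t H) (h2 : FH t K) : FH t G :=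
  FH.of_injective (f.prod g) (by
    rw [injective_iff_map_eq_one]
    intro x hx
    exact hfg x (congrArg Prod.fst hx) (congrArg Prod.snd hx)) (h1.prod h2)

/-- quotients -/
theorem FH.of_surjective {t : ℕ} : ∀ {G : Type u} {H : Type v} [Group G] [Group H] (f : G →* H)
    (_ : Function.Surjective f) (_ : FH t G), FH t H := by
  induction t with
  | zero =>
    intro G H _ _ f hf h
    have : Subsingleton G := h
    exact hf.subsingleton
  | succ t IH =>
    intro G H _ _ f hf h
    obtain ⟨N, hN, hnil, hq⟩ := h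
    have hNm : (N.map f).Normal := hN.map f hf
    refine ⟨N.map f, hNm, ?_, ?_⟩
    · exact Group.nilpotent_of_surjective (f.subgroupMap N) (f.subgroupMap_surjective N)
    · refine IH (QuotientGroup.map N (N.map f) f (Subgroup.le_comap_map f N)) ?_ hq
      intro y
      induction y using QuotientGroup.induction_on with
      | H y =>
        obtain ⟨x, rfl⟩ := hf y
        exact ⟨(x : G ⧸ N), rfl⟩

theorem FH.quotient {t : ℕ} {G : Type u} [Group G] (h : FH t G) (N : Subgroup G) [N.Normal] : FH t (G ⧸ N) :=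
  FH.of_surjective (QuotientGroup.mk' N) (QuotientGroup.mk'_surjective N) h

theorem FH.map {t : ℕ} {G : Type u} {H : Type v} [Group G] [Group H] (f : G →* H) {K : Subgroup G} (h : FH t K) :
    FH t (K.map f) :=
  FH.of_surjective (f.subgroupMap K) (f.subgroupMap_surjective K) h

theorem FH.of_map {t : ℕ} {G : Type u} {H : Type v} [Group G] [Group H] (f : G →* H) (hf : Function.Injective f)
    {K : Subgroup G} (h : FH t (K.map f)) : FH t K :=
  FH.of_injective (f.subgroupMap K) (fun a b hab => by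
    apply Subtype.ext
    apply hf
    exact congrArg Subtype.val hab) h

theorem FH.one_iff {G : Type u} [Group G] : FH 1 G ↔ Group.IsNilpotent G := by
  constructor
  · rintro ⟨N, hN, hnil, h⟩
    have h1 : N = ⊤ := by
      rw [eq_top_iff]
      intro x _
      have h2 : Subsingleton (G ⧸ N) := h
      exact (QuotientGroup.eq_one_iff x).1 (h2.elim _ _)
    rw [h1] at hnil
    exact Group.isNilpotent_top.1 hnil
  · intro h
    refine ⟨⊤, inferInstance, Group.isNilpotent_top.2 h, ?_⟩
    exact ⟨fun a b => by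
      induction a using QuotientGroup.induction_on
      induction b using QuotientGroup.induction_on
      rw [QuotientGroup.eq]
      exact Subgroup.mem_top _⟩

theorem FH.of_subsingleton {t : ℕ} : ∀ (G : Type u) [Group G] [Subsingleton G], FH t G := by
  induction t with
  | zero => intro G _ h; exact h
  | succ t IH =>
    intro G _ _
    exact ⟨⊥, inferInstance, inferInstance, IH _⟩

theorem FH.succ {t : ℕ} {G : Type u} [Group G] (h : FH t G) : FH (t + 1) G :=
  ⟨⊥, inferInstance, inferInstance, h.quotient ⊥⟩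

theorem FH.mono {s t : ℕ} (hst : s ≤ t) {G : Type u} [Group G] (h : FH s G) : FH t G := by
  induction hst with
  | refl => exact h
  | step _ IH => exact IH.succ

theorem FH.of_isNilpotent {t : ℕ} (ht : 1 ≤ t) {G : Type u} [Group G] (h : Group.IsNilpotent G) : FH t G :=
  (FH.one_iff.2 h).mono ht

theorem FH.isSolvable {t : ℕ} : ∀ {G : Type u} [Group G] (_ : FH t G), Group.IsSolvable G := by
  induction t with
  | zero =>
    intro G _ h
    have : Subsingleton G := h
    infer_instance
  | succ t IH =>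
    intro G _ h
    obtain ⟨N, hN, hnil, hq⟩ := h
    have h1 : Group.IsSolvable (G ⧸ N) := IH hq
    have h2 : Group.IsSolvable N := inferInstance
    exact Group.isSolvable_of_ker_le_range N.subtype (QuotientGroup.mk' N) (by simp)

section Finite

variable {G : Type u} [Group G]

/-- The Fitting height via the Fitting subgroup. -/
theorem FH.fitting {t : ℕ} (h : FH (t + 1) G) (hn : (Cfsg.fittingSubgroup G).Normal :=
    Lib.Cores.fittingSubgroup_normal) : FH t (G ⧸ Cfsg.fittingSubgroup G) := by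
  obtain ⟨N, hN, hnil, hq⟩ := h
  refine FH.of_surjective (QuotientGroup.map N (Cfsg.fittingSubgroup G) (MonoidHom.id G)
    (Lib.Cores.le_fittingSubgroup hN hnil)) ?_ hq
  intro y
  induction y using QuotientGroup.induction_on with
  | H y => exact ⟨(y : G ⧸ N), rfl⟩

end Finite

/-- **Extensions**. -/
theorem FH.extension {s t : ℕ} : ∀ {G : Type u} [Group G] [Finite G] (N : Subgroup G) [N.Normal]
    (_ : FH s N) (_ : FH t (G ⧸ N)), FH (s + t) G := by
  induction s with
  | zero =>
    intro G _ _ N _ h1 h2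
    have h3 : N = ⊥ := by
      rw [eq_bot_iff]
      intro x hx
      have : Subsingleton N := h1
      exact congrArg Subtype.val (this.elim ⟨x, hx⟩ 1)
    subst h3
    rw [zero_add]
    exact h2.congr QuotientGroup.quotientBot
  | succ s IH =>
    intro G _ _ N hN h1 h2
    have hFn : (Cfsg.fittingSubgroup N).Normal := Lib.Cores.fittingSubgroup_normal
    have hFc : (Cfsg.fittingSubgroup N).Characteristic := Lib.Cores.fittingSubgroup_characteristic
    set F := (Cfsg.fittingSubgroup N).map N.subtype with hF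
    have hFG : F.Normal := by
      rw [hF]
      infer_instance
    have hnil : Group.IsNilpotent F := by
      have := Lib.Cores.fittingSubgroup_isNilpotent (G := N)
      exact Group.nilpotent_of_surjective (N.subtype.subgroupMap (Cfsg.fittingSubgroup N))
        (N.subtype.subgroupMap_surjective _)
    have h3 : FH s (N.map (QuotientGroup.mk' F)) := by
      have h4 : FH s (N ⧸ Cfsg.fittingSubgroup N) := h1.fitting
      let g : N →* N.map (QuotientGroup.mk' F) := (QuotientGroup.mk' F).subgroupMap N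
      have hg : Function.Surjective g := (QuotientGroup.mk' F).subgroupMap_surjective N
      have hker : Cfsg.fittingSubgroup N ≤ g.ker := by
        intro x hx
        rw [MonoidHom.mem_ker]
        apply Subtype.ext
        change (QuotientGroup.mk' F) (x : G) = 1
        rw [QuotientGroup.mk'_apply, QuotientGroup.eq_one_iff]
        exact ⟨x, hx, rfl⟩
      refine FH.of_surjective (QuotientGroup.lift (Cfsg.fittingSubgroup N) g hker) ?_ h4
      intro y
      obtain ⟨x, rfl⟩ := hg y
      exact ⟨(x : N ⧸ Cfsg.fittingSubgroup N), rfl⟩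
    have hNm : (N.map (QuotientGroup.mk' F)).Normal := hN.map _ (QuotientGroup.mk'_surjective F)
    have hFN : F ≤ N := by
      rw [hF]
      exact Subgroup.map_subtype_le _
    have h5 : FH t ((G ⧸ F) ⧸ (N.map (QuotientGroup.mk' F))) :=
      h2.congr (QuotientGroup.quotientQuotientEquivQuotient F N hFN).symm
    have h6 := IH (N.map (QuotientGroup.mk' F)) h3 h5
    rw [Nat.add_right_comm]
    exact ⟨F, hFG, hnil, h6⟩

/-- Extensions, in terms of a homomorphism. -/
theorem FH.of_hom {s t : ℕ} {G : Type u} {H : Type v} [Group G] [Finite G] [Group H] (f : G →* H)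
    (h1 : FH s f.ker) (h2 : FH t f.range) : FH (s + t) G :=
  FH.extension f.ker h1 (h2.congr (QuotientGroup.quotientKerEquivRange f).symm)

end Cfsg.Agent.H527.RC
end

-- part: H699/RC/PR7
section
prune_inst 0xf0007904750000201000059051001e62b6000090000b0001800007440e894c4205020620bb800202108a028440390068134c04b002000000200006004118068910a330822010a800200080001885000000000000000000000000000000000004000000000
set_option linter.all false
open scoped Cfsg.Agent.FastGrp

-- part: H699/RC/Bad
section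
/-!
# TEAM RC (S4191), task PR7, part 1: bad elements of primitive solvable linear groups

* `comm_of_irr` : the centraliser of an irreducible group is commutative;
* `not_mem` : `p` does not divide `|S / A|`;
* `bad_dim` : if `[L, y]` is not nilpotent for some `p`-element `y` then some `m q` is large.
-/

set_option autoImplicit false
set_option linter.unusedSectionVars false

namespace Cfsg.Agent.H699.RC

open Cfsg.Agent.H527.RC Cfsg.Agent.H822.Cls Cfsg.Agent.H668.Dim
open scoped Pointwise commutatorElement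

universe u

/-- the centraliser of an irreducible group is commutative -/
theorem comm_of_irr {H W : Type*} [Group H] [AddCommGroup W] [Finite W] [Nontrivial W] [DistribMulAction H W]
    (L : Subgroup H) (hirr : ∀ X : AddSubgroup W, (∀ g ∈ L, ∀ w ∈ X, g • w ∈ X) → X = ⊥ ∨ X = ⊤)
    (hfaith : ∀ h : H, (∀ w : W, h • w = w) → h = 1) {x y : H} (hx : ∀ l ∈ L, l * x = x * l)
    (hy : ∀ l ∈ L, l * y = y * l) : x * y = y * x := by
  classical
  let φ : H →* AddMonoid.End W := DistribMulAction.toAddMonoidEnd H W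
  have hφ : ∀ (h : H) (w : W), φ h w = h • w := fun h w => rfl
  let R : Subring (AddMonoid.End W) := Subring.centralizer (φ '' (L : Set H))
  have hR : ∀ r ∈ R, ∀ l ∈ L, ∀ w : W, l • r w = r (l • w) := by
    intro r hr l hl w
    have h1 := Subring.mem_centralizer_iff.1 hr (φ l) ⟨l, hl, rfl⟩
    exact congrArg (fun k : AddMonoid.End W => k w) h1
  have hfin : Finite (AddMonoid.End W) :=
    Finite.of_injective (fun f : AddMonoid.End W => (f : W → W)) DFunLike.coe_injective
  have hinj : ∀ r ∈ R, r ≠ 0 → ∀ w : W, r w = 0 → w = 0 := by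
    intro r hr hr0 w hw
    let Z : AddSubgroup W :=
      { carrier := {w | r w = 0}
        zero_mem' := map_zero r
        add_mem' := fun {a b} ha hb => by
          show r (a + b) = 0
          rw [map_add, show r a = 0 from ha, show r b = 0 from hb, add_zero]
        neg_mem' := fun {a} ha => by
          show r (-a) = 0
          rw [map_neg, show r a = 0 from ha, neg_zero] }
    rcases hirr Z (by
      intro g hg w hw
      show r (g • w) = 0
      rw [← hR r hr g hg, show r w = 0 from hw, smul_zero]) with h | h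
    · have h1 : w ∈ Z := hw
      rw [h] at h1
      exact h1
    · exfalso
      apply hr0
      ext v
      have h1 : v ∈ Z := by rw [h]; trivial
      exact h1
  have hdom : IsDomain R := by
    have h1 : NoZeroDivisors R := by
      refine ⟨fun {a b} hab => ?_⟩
      by_contra hcon
      push Not at hcon
      apply hcon.2
      apply Subtype.ext
      ext v
      refine hinj a.1 a.2 (fun h => hcon.1 (Subtype.ext h)) _ ?_
      exact congrArg (fun k : R => (k : AddMonoid.End W) v) hab
    have h2 : Nontrivial R := by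
      refine ⟨⟨0, 1, fun h => ?_⟩⟩
      obtain ⟨w, hw⟩ := exists_ne (0 : W)
      exact hw (congrArg (fun k : R => (k : AddMonoid.End W) w) h).symm
    exact NoZeroDivisors.to_isDomain R
  have hmem : ∀ z : H, (∀ l ∈ L, l * z = z * l) → φ z ∈ R := by
    intro z hz
    rw [Subring.mem_centralizer_iff]
    rintro _ ⟨l, hl, rfl⟩
    rw [← map_mul, ← map_mul, hz l hl]
  have hfld := Finite.isDomain_to_isField R
  have h3 := hfld.mul_comm ⟨φ x, hmem x hx⟩ ⟨φ y, hmem y hy⟩
  have h4 : φ (x * y) = φ (y * x) := by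
    rw [map_mul, map_mul]
    exact congrArg Subtype.val h3
  have h5 : ∀ w : W, ((y * x)⁻¹ * (x * y)) • w = w := by
    intro w
    rw [mul_smul, inv_smul_eq_iff]
    exact congrArg (fun k : AddMonoid.End W => k w) h4
  have h6 := hfaith _ h5
  rw [inv_mul_eq_one] at h6
  exact h6.symm

section

variable {p : ℕ} {H : Type*} [Group H] [Finite H] {L : Subgroup H}

theorem isPGroup_quotient (hL : LP p L) [L.Normal] : IsPGroup p (H ⧸ L) := by
  intro g
  obtain ⟨x, rfl⟩ := QuotientGroup.mk_surjective g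
  obtain ⟨k, hk⟩ := hL.isP x
  exact ⟨k, (QuotientGroup.eq_one_iff _).2 hk⟩

theorem sup_sylow (hp : p.Prime) (hL : LP p L) (P : Sylow p H) : L ⊔ (P : Subgroup H) = ⊤ := by
  have : Fact p.Prime := ⟨hp⟩
  have hn := hL.normal
  rw [← Subgroup.index_eq_one]
  obtain ⟨k, hk⟩ := IsPGroup.iff_card.1 (isPGroup_quotient hL)
  have h1 : (L ⊔ (P : Subgroup H)).index ∣ p ^ k := by
    rw [← hk]
    exact Subgroup.index_dvd_of_le le_sup_left
  have h2 : (L ⊔ (P : Subgroup H)).index ∣ (P : Subgroup H).index := Subgroup.index_dvd_of_le le_sup_right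
  obtain ⟨j, -, hj⟩ := (Nat.dvd_prime_pow hp).1 h1
  rcases Nat.eq_zero_or_pos j with rfl | hj0
  · rw [hj, pow_zero]
  · exfalso
    rw [hj] at h2
    exact P.not_dvd_index ((dvd_pow_self p (by omega)).trans h2)

theorem commutator_normal (hp : p.Prime) (hL : LP p L) (P : Sylow p H) :
    (⁅L, (P : Subgroup H)⁆ : Subgroup H).Normal := by
  rw [← Subgroup.normalizer_eq_top_iff, eq_top_iff, ← sup_sylow hp hL P]
  exact sup_le (Cfsg.Agent.Lib.CoprimeCommutator.left_le_normalizer_commutator _ _)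
    (Cfsg.Agent.Lib.CoprimeCommutator.right_le_normalizer_commutator _ _)

theorem commutator_le (hL : LP p L) (P : Subgroup H) : ⁅L, P⁆ ≤ L := by
  have := hL.normal
  exact Subgroup.commutator_le_left L P

theorem commutator_commutator (hp : p.Prime) (hL : LP p L) (P : Sylow p H) :
    ⁅⁅L, (P : Subgroup H)⁆, (P : Subgroup H)⁆ = ⁅L, (P : Subgroup H)⁆ := by
  have : Fact p.Prime := ⟨hp⟩
  refine Cfsg.Agent.Lib.CoprimeCommutator.commutator_commutator_eq (P : Subgroup H) L ?_ ?_
  · have := hL.normal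
    rw [Subgroup.normalizer_eq_top]
    exact le_top
  · obtain ⟨n, hn⟩ := IsPGroup.iff_card.1 P.isPGroup'
    rw [hn]
    exact Nat.Coprime.pow_left n ((Nat.Prime.coprime_iff_not_dvd hp).2 hL.cop)

/-- a `p`-element of order prime to `p` is trivial -/
theorem eq_one_of_mem (hp : p.Prime) (hL : LP p L) {x : H} (hx : PEl p x) (hxL : x ∈ L) : x = 1 := by
  obtain ⟨k, hk⟩ := hx
  rw [← orderOf_eq_one_iff]
  refine Nat.eq_one_of_dvd_coprimes (a := p ^ k) (b := Nat.card L) ?_ (orderOf_dvd_of_pow_eq_one hk)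
    (Subgroup.orderOf_dvd_natCard L hxL)
  exact Nat.Coprime.pow_left k ((Nat.Prime.coprime_iff_not_dvd hp).2 hL.cop)

theorem exists_sylow_mem (hp : p.Prime) {y : H} (hy : PEl p y) : ∃ P : Sylow p H, y ∈ (P : Subgroup H) := by
  have : Fact p.Prime := ⟨hp⟩
  obtain ⟨k, hk⟩ := hy
  have h1 : IsPGroup p (Subgroup.zpowers y) := by
    rintro ⟨x, i, rfl⟩
    refine ⟨k, Subtype.ext ?_⟩
    show (y ^ i) ^ p ^ k = 1
    rw [← zpow_natCast, ← zpow_mul, mul_comm i, zpow_mul, zpow_natCast, hk, one_zpow]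
  obtain ⟨P, hP⟩ := h1.exists_le_sylow
  exact ⟨P, hP (Subgroup.mem_zpowers y)⟩

end

section

variable {H W F : Type u} [Group H] [Finite H] [AddCommGroup W] [Finite W] [Nontrivial W]
  [DistribMulAction H W] [Field F] [Finite F] [Module F W] (D : Prim H W F)

/-- `p`-elements of `S` are in `A` -/
theorem mem_A_of_pEl {p : ℕ} (hp : p.Prime) {L : Subgroup H} (hL : LP p L)
    (hirr : ∀ X : AddSubgroup W, (∀ g ∈ L, ∀ w ∈ X, g • w ∈ X) → X = ⊥ ∨ X = ⊤)
    (hfaith : ∀ h : H, (∀ w : W, h • w = w) → h = 1) {t : H} (ht : t ∈ D.S) (htp : PEl p t) : t ∈ D.A := by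
  have : Fact p.Prime := ⟨hp⟩
  have hSn := D.S_normal
  have hLn := hL.normal
  have hnil : Group.IsNilpotent D.S := D.isNilpotent_of_le D.S le_rfl
  -- the Sylow subgroup of `S` is normal in `H`
  obtain ⟨T, hT⟩ := exists_sylow_mem (H := D.S) hp (y := ⟨t, ht⟩) (by
    obtain ⟨k, hk⟩ := htp
    exact ⟨k, Subtype.ext hk⟩)
  have hTn : (T : Subgroup D.S).Normal := ((Group.isNilpotent_of_finite_tfae (G := D.S)).out 0 3 rfl rfl).mp hnil p inferInstance T
  have hTc : (T : Subgroup D.S).Characteristic := T.characteristic_of_normal hTn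
  have hTH : ((T : Subgroup D.S).map D.S.subtype).Normal := inferInstance
  have hcomm : ∀ x ∈ (T : Subgroup D.S), ∀ l ∈ L, l * (x : H) = x * l := by
    intro x hx l hl
    have h1 : ⁅l, (x : H)⁆ ∈ L := by
      rw [commutatorElement_def, mul_assoc, mul_assoc]
      refine L.mul_mem hl ?_
      have := hLn.conj_mem l⁻¹ (L.inv_mem hl) (x : H)
      rwa [mul_assoc] at this
    have h2 : ⁅l, (x : H)⁆ ∈ (T : Subgroup D.S).map D.S.subtype := by
      rw [commutatorElement_def]
      refine Subgroup.mul_mem _ (hTH.conj_mem _ ⟨x, hx, rfl⟩ l) (Subgroup.inv_mem _ ⟨x, hx, rfl⟩)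
    obtain ⟨z, hz, hz1⟩ := h2
    obtain ⟨k, hk⟩ := T.isPGroup' ⟨z, hz⟩
    have h3 : ⁅l, (x : H)⁆ = 1 := by
      refine eq_one_of_mem hp hL ⟨k, ?_⟩ h1
      rw [← hz1]
      exact congrArg (fun w : (T : Subgroup D.S) => ((w : D.S) : H)) hk
    rw [commutatorElement_eq_one_iff_mul_comm] at h3
    exact h3
  apply D.cent_le
  rw [Subgroup.mem_centralizer_iff]
  intro s hs
  -- split off the `p'`-part
  obtain ⟨n, hn, k, hk⟩ := exists_pow_eq s hp
  obtain ⟨j, hj⟩ := htp
  have h1 : ⁅t, s ^ n⁆ = 1 := by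
    obtain ⟨T', hT'⟩ := exists_sylow_mem (H := D.S) hp (y := ⟨s ^ n, D.S.pow_mem hs n⟩) ⟨k, Subtype.ext hk⟩
    have hTT : T' = T := by
      obtain ⟨g, hg⟩ := MulAction.exists_smul_eq D.S T T'
      rw [← hg]
      exact Sylow.smul_eq_of_normal
    rw [hTT] at hT'
    rw [commutatorElement_eq_one_iff_mul_comm]
    exact comm_of_irr L hirr hfaith (hcomm _ hT) (hcomm _ hT')
  have h2 : ⁅t, s⁆ ^ n = 1 := by rw [← cm_pow_right D ht hs, h1]
  have h3 : ⁅t, s⁆ ^ p ^ j = 1 := by rw [← cm_pow_left D ht hs, hj, commutatorElement_one_left]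
  have h4 : ⁅t, s⁆ = 1 := by
    rw [← orderOf_eq_one_iff]
    exact Nat.eq_one_of_dvd_coprimes (Nat.Coprime.pow_left j hn) (orderOf_dvd_of_pow_eq_one h3)
      (orderOf_dvd_of_pow_eq_one h2)
  exact (commutatorElement_eq_one_iff_mul_comm.1 h4).symm

/-- `p` does not divide `|S / A|` -/
theorem not_mem {p : ℕ} (hp : p.Prime) {L : Subgroup H} (hL : LP p L)
    (hirr : ∀ X : AddSubgroup W, (∀ g ∈ L, ∀ w ∈ X, g • w ∈ X) → X = ⊥ ∨ X = ⊤)
    (hfaith : ∀ h : H, (∀ w : W, h • w = w) → h = 1) {Q : Finset ℕ} {m : ℕ → ℕ} (hD : D.Num Q m) : p ∉ Q := by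
  intro hpQ
  have h1 := card_XQ D hD hpQ
  have h2 : ∀ x : XQ D p, x = 1 := by
    intro x
    obtain ⟨s, hs, rfl⟩ := exists_cl D x
    rw [cl_eq_one_iff]
    obtain ⟨n, hn, k, hk⟩ := exists_pow_eq s hp
    exact pow_mem_iff D hn hs.2 (mem_A_of_pEl D hp hL hirr hfaith (D.S.pow_mem hs.1 n) ⟨k, hk⟩)
  have h3 : Nat.card (XQ D p) = 1 := by
    rw [Nat.card_eq_one_iff_unique]
    exact ⟨⟨fun a b => by rw [h2 a, h2 b]⟩, ⟨1⟩⟩
  rw [h1] at h3
  have h4 := hD.one_le p hpQ
  have h5 : 1 < p ^ (2 * m p) := Nat.one_lt_pow (by omega) hp.one_lt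
  omega

/-- the group `[L, y]` acts nontrivially on some `X_q` if it is not nilpotent -/
theorem exists_not_triv {Q : Finset ℕ} {m : ℕ → ℕ} (hD : D.Num Q m) (X Y : Subgroup H)
    (h : ¬ Group.IsNilpotent (⁅X, Y⁆ : Subgroup H)) : ∃ q ∈ Q, ¬ ∀ x ∈ ⁅X, Y⁆, D.Triv q x := by
  by_contra hcon
  push Not at hcon
  apply h
  refine D.isNilpotent_of_le _ fun x hx => ?_
  exact mem_of_triv D hD (D.commutator_le X Y hx) fun q hq => hcon q hq x hx

variable [Group.IsSolvable H]

/-- **bad elements**: the dimension bound -/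
theorem dim_of_not_triv {p : ℕ} (hp : p.Prime) {L : Subgroup H} (hL : LP p L) {Q : Finset ℕ} {m : ℕ → ℕ}
    (hD : D.Num Q m) (P : Sylow p H) {q : ℕ} (hqQ : q ∈ Q) (hqp : q ≠ p)
    (hne : ¬ ∀ x ∈ ⁅L, (P : Subgroup H)⁆, D.Triv q x) :
    (q = 2 → p ≤ m 2) ∧ (q ≠ 2 → p ≤ 2 * m q + 1 ∧ (p = 7 → 4 ≤ m q)) := by
  have hq := hD.prime q hqQ
  have hEn : (⁅L, (P : Subgroup H)⁆ : Subgroup H).Normal := commutator_normal hp hL P
  have hEP := commutator_commutator hp hL P
  have hpE : ¬ p ∣ Nat.card (⁅L, (P : Subgroup H)⁆ : Subgroup H) := fun h =>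
    hL.cop (h.trans (Subgroup.card_dvd_of_le (commutator_le hL _)))
  obtain ⟨K, hKs, hqK, P', hP'⟩ := exists_section (rho D q).rangeRestrict (rho D q).rangeRestrict_surjective
    hp hq hqp ⁅L, (P : Subgroup H)⁆ hEn P hpE hEP
    (by
      intro E' hE'n _ h x hx
      have h3 := D.ss q hq E' hE'n (by
        intro y hy
        obtain ⟨k, hk⟩ := h y hy
        refine ⟨k, ?_⟩
        have h4 : rho D q (y ^ q ^ k) = 1 := by
          rw [map_pow]
          exact congrArg Subtype.val hk
        exact (rho_eq_one_iff D _).1 h4) x hx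
      exact Subtype.ext ((rho_eq_one_iff D x).2 h3))
    (by
      intro h
      apply hne
      intro x hx
      exact (rho_eq_one_iff D x).1 (congrArg Subtype.val (h x hx)))
  let _ := act ((rho D q).range.subtype.comp K.subtype)
  have hXf : Finite (Additive (XQ D q)) := inferInstanceAs (Finite (XQ D q))
  have hcard : Nat.card (Additive (XQ D q)) = q ^ (2 * m q) := card_XQ D hD hqQ
  have hX : ∀ x : Additive (XQ D q), q • x = 0 := fun x => cl_pow D q x.toMul
  have hfaith : ∀ g : K, (∀ x : Additive (XQ D q), g • x = x) → g = 1 := by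
    intro g hg
    refine Subtype.ext (Subtype.ext ?_)
    ext x
    exact congrArg Subtype.val (hg (Additive.ofMul x))
  constructor
  · rintro rfl
    have hodd : Odd (Nat.card K) := by
      rw [← Nat.not_even_iff_odd, even_iff_two_dvd]
      exact hqK
    have h3 := lemDTwo' p hp K hodd (Additive (XQ D 2)) hX hfaith (H668.Dim.beta D) (beta_add D)
      (beta_add' D) (beta_nondeg D)
      (by
        rintro ⟨⟨_, g, rfl⟩, hg⟩ x y
        exact beta_inv D g x y) P' hP' _ hcard
    omega
  · intro hq2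
    have h3 := lemD' q p hq hp K hqK (Additive (XQ D q)) hX hfaith P' hP' _ hcard
    have hm := hD.one_le q hqQ
    constructor
    · rcases h3 with h3 | ⟨h3, _⟩ <;> omega
    · rintro rfl
      rcases h3 with h3 | ⟨h3, k, hk⟩
      · omega
      · exfalso
        have h6 : 2 ^ k = 6 := by omega
        have h7 : k < 3 := by
          by_contra h
          have : 2 ^ 3 ≤ 2 ^ k := Nat.pow_le_pow_right (by norm_num) (by omega)
          omega
        interval_cases k <;> omega

/-- **bad elements**: if `[L, y]` is not nilpotent for some `p`-element `y` then some `m q` is large -/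
theorem bad_dim {p : ℕ} (hp : p.Prime) {L : Subgroup H} (hL : LP p L)
    (hirr : ∀ X : AddSubgroup W, (∀ g ∈ L, ∀ w ∈ X, g • w ∈ X) → X = ⊥ ∨ X = ⊤)
    (hfaith : ∀ h : H, (∀ w : W, h • w = w) → h = 1) {Q : Finset ℕ} {m : ℕ → ℕ} (hD : D.Num Q m) {y : H}
    (hy : PEl p y) (hbad : ¬ FH 1 (⁅L, Subgroup.zpowers y⁆ : Subgroup H)) :
    ∃ q ∈ Q, q ≠ p ∧ (¬ ∀ x ∈ ⁅L, Subgroup.zpowers y⁆, D.Triv q x) ∧ (q = 2 → p ≤ m 2) ∧
      (q ≠ 2 → p ≤ 2 * m q + 1 ∧ (p = 7 → 4 ≤ m q)) := by
  rw [FH.one_iff] at hbad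
  obtain ⟨P, hP⟩ := exists_sylow_mem hp hy
  obtain ⟨q, hqQ, hq⟩ := exists_not_triv D hD L (Subgroup.zpowers y) hbad
  have hqp : q ≠ p := by
    rintro rfl
    exact not_mem D hp hL hirr hfaith hD hqQ
  refine ⟨q, hqQ, hqp, hq, dim_of_not_triv D hp hL hD P hqQ hqp ?_⟩
  intro h
  apply hq
  intro x hx
  refine h x (Subgroup.commutator_mono le_rfl ?_ hx)
  rw [Subgroup.zpowers_le]
  exact hP

end

end Cfsg.Agent.H699.RC
end

-- part: H699/RC/PR7
section
/-!
# TEAM RC (S4191), task PR7: primitive linear groups, `p ≥ 7`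

* `card_bad_le` : the number of bad vectors;
* `orbs_two_of_card` : more than `|H|` good vectors give two orbits;
* `corePrim_ge_of` : `CorePrim p 1 0 2` for `p ≥ 7` from the bound `|C(A) : S| ≤ e ^ 6`.
-/

set_option autoImplicit false
set_option linter.unusedSectionVars false

namespace Cfsg.Agent.H699.RC

open Cfsg.Agent.H527.RC Cfsg.Agent.H822.Cls Cfsg.Agent.H668.Dim
open scoped Pointwise commutatorElement

universe u

/-- the bound for `C(A) / S` (task ORDP) -/
def OrdCA : Prop := ∀ (H W F : Type u) [Group H] [Finite H] [Group.IsSolvable H] [AddCommGroup W] [Finite W]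
    [Nontrivial W] [DistribMulAction H W] [Field F] [Finite F] [Module F W] (D : Prim H W F) (Q : Finset ℕ)
    (m : ℕ → ℕ), D.Num Q m → (∀ h : H, (∀ w : W, h • w = w) → h = 1) →
    D.S.relIndex (Subgroup.centralizer (D.A : Set H)) ≤ (∏ q ∈ Q, q ^ m q) ^ 6

/-! ### Numbers -/

theorem pow_step {e : ℕ} (he : 81 ≤ e) : (e + 1) ^ 16 ≤ 3 * e ^ 16 := by
  have h1 : (e + 1) * 81 ≤ 82 * e := by omega
  have h2 : (e + 1) ^ 16 * 81 ^ 16 ≤ 82 ^ 16 * e ^ 16 := by
    rw [← mul_pow, ← mul_pow]
    exact Nat.pow_le_pow_left h1 16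
  have h3 : 82 ^ 16 * e ^ 16 ≤ 3 * 81 ^ 16 * e ^ 16 := Nat.mul_le_mul_right _ (by norm_num)
  have h4 : (e + 1) ^ 16 * 81 ^ 16 ≤ (3 * e ^ 16) * 81 ^ 16 := by
    calc _ ≤ _ := h2.trans h3
      _ = _ := by ring
  exact Nat.le_of_mul_le_mul_right h4 (by norm_num)

theorem key_four {e : ℕ} (he : 81 ≤ e) : 16 * e ^ 16 ≤ 4 ^ (e - 2) := by
  induction e, he using Nat.le_induction with
  | base => norm_num
  | succ e he ih =>
    have h1 : e + 1 - 2 = (e - 2) + 1 := by omega
    rw [h1, pow_succ]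
    have h2 := pow_step he
    calc 16 * (e + 1) ^ 16 ≤ 16 * (3 * e ^ 16) := Nat.mul_le_mul_left _ h2
      _ = 3 * (16 * e ^ 16) := by ring
      _ ≤ 3 * 4 ^ (e - 2) := Nat.mul_le_mul_left _ ih
      _ ≤ 4 ^ (e - 2) * 4 := by omega

theorem key_three {e : ℕ} (he : 128 ≤ e) : 16 * e ^ 16 ≤ 3 ^ (e - 2) := by
  induction e, he using Nat.le_induction with
  | base => norm_num
  | succ e he ih =>
    have h1 : e + 1 - 2 = (e - 2) + 1 := by omega
    rw [h1, pow_succ]
    have h2 := pow_step (show 81 ≤ e by omega)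
    calc 16 * (e + 1) ^ 16 ≤ 16 * (3 * e ^ 16) := Nat.mul_le_mul_left _ h2
      _ = 3 * (16 * e ^ 16) := by ring
      _ ≤ 3 * 3 ^ (e - 2) := Nat.mul_le_mul_left _ ih
      _ = 3 ^ (e - 2) * 3 := by ring

theorem key {f e : ℕ} (h : (4 ≤ f ∧ 81 ≤ e) ∨ (3 ≤ f ∧ 128 ≤ e)) : 16 * e ^ 16 ≤ f ^ (e - 2) := by
  rcases h with ⟨hf, he⟩ | ⟨hf, he⟩
  · exact (key_four he).trans (Nat.pow_le_pow_left hf _)
  · exact (key_three he).trans (Nat.pow_le_pow_left hf _)

theorem count_ineq {f e d a h s t : ℕ} (hf : (4 ≤ f ∧ 81 ≤ e) ∨ (3 ≤ f ∧ 128 ≤ e)) (hed : e ≤ d)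
    (ha : a ≤ f * e ^ 8) (hh : h ≤ f * (f * e ^ 8)) (hs : s ^ 2 ≤ f ^ d) (ht : t ^ 7 ≤ f ^ d) (ht1 : 1 ≤ t) :
    a * s + h * t + h < f ^ d := by
  have hk := key hf
  have hf3 : 3 ≤ f := by omega
  have he81 : 81 ≤ e := by omega
  have hfe : f ^ e = f ^ (e - 2) * f ^ 2 := by rw [← pow_add]; congr 1; omega
  have hV : f ^ e ≤ f ^ d := Nat.pow_le_pow_right (by omega) hed
  set V := f ^ d with hVdef
  have hVpos : 0 < V := pow_pos (by omega) _
  -- `16 N ^ 2 ≤ V`
  have h1 : 16 * (f * e ^ 8) ^ 2 ≤ V := by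
    calc 16 * (f * e ^ 8) ^ 2 = (16 * e ^ 16) * f ^ 2 := by ring
      _ ≤ f ^ (e - 2) * f ^ 2 := Nat.mul_le_mul_right _ hk
      _ ≤ V := by rw [← hfe]; exact hV
  -- the first summand
  have h2 : 4 * (a * s) ≤ V := by
    have h3 : (4 * (a * s)) ^ 2 ≤ V ^ 2 := by
      calc (4 * (a * s)) ^ 2 ≤ (4 * ((f * e ^ 8) * s)) ^ 2 :=
            Nat.pow_le_pow_left (Nat.mul_le_mul_left _ (Nat.mul_le_mul_right _ ha)) 2
        _ = (16 * (f * e ^ 8) ^ 2) * s ^ 2 := by ring
        _ ≤ V * V := Nat.mul_le_mul h1 hs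
        _ = V ^ 2 := by ring
    exact (Nat.pow_le_pow_iff_left two_ne_zero).1 h3
  -- the second summand
  have h4 : 4 * (h * t) ≤ V := by
    have h5 : (4 * (h * t)) ^ 7 ≤ V ^ 7 := by
      have h6 : 4 ^ 7 * (f * (f * e ^ 8)) ^ 7 ≤ V ^ 6 := by
        have h7 : (16 * e ^ 16) ^ 4 ≤ (f ^ (e - 2)) ^ 4 := Nat.pow_le_pow_left hk 4
        have h8 : 4 ^ 7 * e ^ 56 ≤ (16 * e ^ 16) ^ 4 := by
          calc 4 ^ 7 * e ^ 56 ≤ 16 ^ 4 * e ^ 64 :=
                Nat.mul_le_mul (by norm_num) (Nat.pow_le_pow_right (by omega) (by norm_num))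
            _ = (16 * e ^ 16) ^ 4 := by ring
        calc 4 ^ 7 * (f * (f * e ^ 8)) ^ 7 = f ^ 14 * (4 ^ 7 * e ^ 56) := by ring
          _ ≤ f ^ 14 * (f ^ (e - 2)) ^ 4 := Nat.mul_le_mul_left _ (h8.trans h7)
          _ = f ^ (14 + (e - 2) * 4) := by rw [← pow_mul, ← pow_add]
          _ ≤ f ^ (d * 6) := Nat.pow_le_pow_right (by omega) (by omega)
          _ = V ^ 6 := by rw [hVdef, ← pow_mul]
      calc (4 * (h * t)) ^ 7 ≤ (4 * ((f * (f * e ^ 8)) * t)) ^ 7 :=
            Nat.pow_le_pow_left (Nat.mul_le_mul_left _ (Nat.mul_le_mul_right _ hh)) 7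
        _ = (4 ^ 7 * (f * (f * e ^ 8)) ^ 7) * t ^ 7 := by ring
        _ ≤ V ^ 6 * V := Nat.mul_le_mul h6 ht
        _ = V ^ 7 := by ring
    exact (Nat.pow_le_pow_iff_left (by norm_num)).1 h5
  have h9 : h ≤ h * t := Nat.le_mul_of_pos_right _ ht1
  omega

/-! ### Orbits and bad vectors -/

theorem orbs_two_of_card {H W : Type*} [Group H] [Finite H] [Finite W] [MulAction H W] (Q : W → Prop)
    (h : Nat.card H < Nat.card {w : W // Q w}) : Orbs H 2 Q := by
  classical
  have hne : Nonempty {w : W // Q w} := by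
    rw [← not_isEmpty_iff]
    intro h1
    have h2 : Nat.card {w : W // Q w} = 0 := Nat.card_of_isEmpty
    omega
  obtain ⟨w0, hw0⟩ := hne
  have h1 : ∃ w1 : W, Q w1 ∧ w1 ∉ MulAction.orbit H w0 := by
    by_contra hcon
    push Not at hcon
    have h2 : ∀ w : {w : W // Q w}, ∃ g : H, g • w0 = w.1 := fun w => hcon w.1 w.2
    choose g hg using h2
    have h3 : Nat.card {w : W // Q w} ≤ Nat.card H := by
      refine Nat.card_le_card_of_injective g fun a b hab => ?_
      apply Subtype.ext
      rw [← hg a, ← hg b, hab]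
    omega
  obtain ⟨w1, hw1, hw1'⟩ := h1
  refine ⟨![w0, w1], ?_, ?_⟩
  · intro i
    fin_cases i
    · exact hw0
    · exact hw1
  · intro i j g hg
    fin_cases i <;> fin_cases j
    · rfl
    · exact absurd ⟨g, hg⟩ hw1'
    · exfalso
      apply hw1'
      refine ⟨g⁻¹, ?_⟩
      have h2 : g • w1 = w0 := hg
      show g⁻¹ • w0 = w1
      rw [← h2, inv_smul_smul]
    · rfl

theorem card_iUnion_le {ι W : Type*} [Finite ι] [Finite W] (B : ι → Set W) (c : ℕ)
    (h : ∀ i, Nat.card (B i) ≤ c) : Nat.card {w : W // ∃ i, w ∈ B i} ≤ Nat.card ι * c := by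
  classical
  have := Fintype.ofFinite ι
  have := Fintype.ofFinite W
  have h1 : Nat.card {w : W // ∃ i, w ∈ B i} = (Finset.univ.biUnion fun i => (B i).toFinset).card := by
    rw [Nat.card_eq_fintype_card, Fintype.card_subtype]
    congr 1
    ext w
    simp
  rw [h1, Nat.card_eq_fintype_card, ← Finset.card_univ]
  refine Finset.card_biUnion_le_card_mul _ _ _ fun i _ => ?_
  have h2 := h i
  rw [Nat.card_eq_fintype_card, ← Set.toFinset_card] at h2
  exact h2

/-- the number of bad vectors -/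
theorem card_bad_le {H W : Type*} [Group H] [Finite H] [Finite W] [MulAction H W] (C : Subgroup H) (Y : Set H)
    {s t : ℕ} (hs : ∀ y ∈ Y, y ∈ C → Nat.card {w : W // y • w = w} ≤ s)
    (ht : ∀ y ∈ Y, y ∉ C → Nat.card {w : W // y • w = w} ≤ t) :
    Nat.card {w : W // ∃ y ∈ Y, y • w = w} ≤ Nat.card C * s + Nat.card H * t := by
  classical
  have h1 : Nat.card {w : W // ∃ y : C, w ∈ {w : W | (y : H) ∈ Y ∧ (y : H) • w = w}} ≤ Nat.card C * s := by
    refine card_iUnion_le _ s fun y => ?_
    by_cases hy : (y : H) ∈ Y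
    · refine le_trans (Nat.card_le_card_of_injective (fun w => ⟨w.1, w.2.2⟩) ?_) (hs y hy y.2)
      intro a b hab
      simp only [Subtype.mk.injEq] at hab
      exact Subtype.ext hab
    · have : IsEmpty ({w : W | (y : H) ∈ Y ∧ (y : H) • w = w} : Set W) := ⟨fun w => hy w.2.1⟩
      rw [Nat.card_of_isEmpty]
      exact Nat.zero_le _
  have h2 : Nat.card {w : W // ∃ y : H, w ∈ {w : W | y ∈ Y ∧ y ∉ C ∧ y • w = w}} ≤ Nat.card H * t := by
    refine card_iUnion_le _ t fun y => ?_
    by_cases hy : y ∈ Y ∧ y ∉ C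
    · refine le_trans (Nat.card_le_card_of_injective (fun w => ⟨w.1, w.2.2.2⟩) ?_) (ht y hy.1 hy.2)
      intro a b hab
      simp only [Subtype.mk.injEq] at hab
      exact Subtype.ext hab
    · have : IsEmpty ({w : W | y ∈ Y ∧ y ∉ C ∧ y • w = w} : Set W) := ⟨fun w => hy ⟨w.2.1, w.2.2.1⟩⟩
      rw [Nat.card_of_isEmpty]
      exact Nat.zero_le _
  refine le_trans ?_ (Nat.add_le_add h1 h2)
  rw [← Nat.card_sum]
  refine Nat.card_le_card_of_injective (fun w =>
    if h : ∃ y : C, w.1 ∈ {w : W | (y : H) ∈ Y ∧ (y : H) • w = w} then Sum.inl ⟨w.1, h⟩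
    else Sum.inr ⟨w.1, by
      obtain ⟨y, hy, hyw⟩ := w.2
      exact ⟨y, hy, fun hyC => h ⟨⟨y, hyC⟩, hy, hyw⟩, hyw⟩⟩) ?_
  intro a b hab
  dsimp only at hab
  split_ifs at hab with h3 h4 h4
  · simp only [Sum.inl.injEq, Subtype.mk.injEq] at hab
    exact Subtype.ext hab
  · simp only [Sum.inr.injEq, Subtype.mk.injEq] at hab
    exact Subtype.ext hab

/-- the automorphisms of a finite field -/
theorem card_aut_le (F : Type*) [Field F] [Finite F] : Nat.card (F ≃+* F) ≤ Nat.card F := by
  obtain ⟨u, hu⟩ := IsCyclic.exists_generator (α := Fˣ)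
  refine Nat.card_le_card_of_injective (fun σ : F ≃+* F => σ u) fun σ τ h => ?_
  ext x
  by_cases hx : x = 0
  · rw [hx, map_zero, map_zero]
  · obtain ⟨k, hk⟩ := Subgroup.mem_zpowers_iff.1 (hu (Units.mk0 x hx))
    have h1 : x = (u : F) ^ k := by
      rw [← Units.val_zpow_eq_zpow_val, hk]
      rfl
    have h2 : σ u = τ u := h
    rw [h1, map_zpow₀, map_zpow₀, h2]

section

variable {H W F : Type u} [Group H] [Finite H] [AddCommGroup W] [Finite W] [Nontrivial W]
  [DistribMulAction H W] [Field F] [Finite F] [Module F W] (D : Prim H W F)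

theorem card_A_le : Nat.card D.A ≤ Nat.card F - 1 := by
  have h1 : Nat.card D.A ≤ Nat.card Fˣ := Nat.card_le_card_of_injective _ D.ι_inj
  rwa [Nat.card_units] at h1

/-- `|C(A)| = |A| |S : A| |C(A) : S|` -/
theorem card_cent : Nat.card (Subgroup.centralizer (D.A : Set H)) =
    Nat.card D.A * D.A.relIndex D.S * D.S.relIndex (Subgroup.centralizer (D.A : Set H)) := by
  have h1 : Nat.card D.A * D.A.relIndex D.S = Nat.card D.S := by
    rw [← Subgroup.relIndex_bot_left, ← Subgroup.relIndex_bot_left (H := D.S)]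
    exact Subgroup.relIndex_mul_relIndex _ _ _ bot_le D.A_le
  have h2 : Nat.card D.S * D.S.relIndex (Subgroup.centralizer (D.A : Set H)) =
      Nat.card (Subgroup.centralizer (D.A : Set H)) := by
    rw [← Subgroup.relIndex_bot_left, ← Subgroup.relIndex_bot_left (H := Subgroup.centralizer (D.A : Set H))]
    exact Subgroup.relIndex_mul_relIndex _ _ _ bot_le D.S_le
  rw [h1, h2]

/-- `|H| ≤ |F| |C(A)|` -/
theorem card_le_cent : Nat.card H ≤ Nat.card F * Nat.card (Subgroup.centralizer (D.A : Set H)) := by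
  have h1 : (Subgroup.centralizer (D.A : Set H)).index ≤ Nat.card F := by
    rw [← D.σ_ker, Subgroup.index_ker]
    have : Finite (F ≃+* F) := Finite.of_injective (fun σ : F ≃+* F => (σ : F → F)) DFunLike.coe_injective
    exact (Subgroup.card_le_card_group _).trans (card_aut_le F)
  rw [← Subgroup.card_mul_index (Subgroup.centralizer (D.A : Set H)), mul_comm]
  exact Nat.mul_le_mul_right _ h1

/-- a `p`-element `y` with `[L, y]` not nilpotent acts nontrivially on `S / A` -/
theorem exists_moved {L : Subgroup H} {y : H} {q : ℕ} (h : ¬ ∀ x ∈ ⁅L, Subgroup.zpowers y⁆, D.Triv q x) :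
    ∃ s ∈ D.S, y * s * y⁻¹ * s⁻¹ ∉ D.A := by
  by_contra hcon
  push Not at hcon
  apply h
  intro x hx
  rw [← rho_eq_one_iff]
  have h1 : Subgroup.zpowers y ≤ (rho D q).ker := by
    rw [Subgroup.zpowers_le, MonoidHom.mem_ker, rho_eq_one_iff]
    exact fun s hs _ => hcon s hs
  have h2 : ⁅L, Subgroup.zpowers y⁆ ≤ (rho D q).ker :=
    (Subgroup.commutator_mono le_rfl h1).trans (Subgroup.commutator_le_right _ _)
  exact h2 hx

end

/-- **PR7**: primitive linear groups, `p ≥ 7` -/
theorem corePrim_ge_of (hO : OrdCA.{u}) {p : ℕ} (hp : p.Prime) (h7 : 7 ≤ p) : CorePrim.{u} p 1 0 2 := by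
  classical
  intro H W _ _ _ _ _ _ _ L r hL hr hrp hrW hfaith hirr hI
  right
  by_cases hbad : ∃ y : H, PEl p y ∧ ¬ FH 1 (⁅L, Subgroup.zpowers y⁆ : Subgroup H)
  swap
  · -- all vectors are good
    push Not at hbad
    have hg : ∀ w : W, Gd p 1 L w := fun w y hy _ => hbad y hy
    obtain ⟨w, hw⟩ := exists_ne (0 : W)
    refine ⟨![0, w], fun i => hg _, ?_⟩
    intro i j g hgij
    fin_cases i <;> fin_cases j
    · rfl
    · exfalso
      have h1 : g • (0 : W) = w := hgij
      rw [smul_zero] at h1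
      exact hw h1.symm
    · exfalso
      have h1 : g • w = (0 : W) := hgij
      apply hw
      rw [← inv_smul_smul g w, h1, smul_zero]
    · rfl
  -- the primitive data
  have hirr' : Irr H W := fun X hX => hirr X fun g _ => hX g
  obtain ⟨F, _, _, _, ⟨D⟩⟩ := existsPrim H W r hr hrW hfaith hirr' hI
  obtain ⟨Q, m, hD⟩ := Cfsg.Agent.H308.ClsNum.exists_num H W F D
  have hpQ := not_mem D hp hL hirr hfaith hD
  have hfin : Module.Finite F W := Module.Finite.of_finite
  set f := Nat.card F with hf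
  set d := Module.finrank F W with hd
  have hWcard : Nat.card W = f ^ d := Module.natCard_eq_pow_finrank (K := F) (V := W)
  have hf2 : 2 ≤ f := Finite.one_lt_card
  set e := ∏ q ∈ Q, q ^ m q with he
  have hed : e ≤ d := hD.le_finrank
  -- the bound for `e`
  have hfe : (4 ≤ f ∧ 81 ≤ e) ∨ (3 ≤ f ∧ 128 ≤ e) := by
    obtain ⟨y, hy, hyb⟩ := hbad
    obtain ⟨q, hqQ, hqp, hq, h2, h3⟩ := bad_dim D hp hL hirr hfaith hD hy hyb
    have hqpr := hD.prime q hqQ
    have hqe : q ^ m q ≤ e := by
      refine Nat.le_of_dvd (Finset.prod_pos fun q hq => pow_pos (hD.prime q hq).pos _) ?_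
      exact Finset.dvd_prod_of_mem (fun q => q ^ m q) hqQ
    have hqf : q ∣ f - 1 := hD.dvd q hqQ
    have hqf' : q ≤ f - 1 := Nat.le_of_dvd (by omega) hqf
    by_cases hq2 : q = 2
    · right
      subst hq2
      refine ⟨by omega, le_trans ?_ hqe⟩
      calc 128 = 2 ^ 7 := by norm_num
        _ ≤ 2 ^ m 2 := Nat.pow_le_pow_right (by norm_num) (by have := h2 rfl; omega)
    · left
      have h4 := h3 hq2
      have hq3 : 3 ≤ q := by
        have := hqpr.two_le
        omega
      have hm4 : 4 ≤ m q := by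
        rcases Nat.lt_or_ge 7 p with h5 | h5
        · by_contra h6
          have h8 : p = 8 ∨ p ≤ 7 := by omega
          rcases h8 with h8 | h8
          · rw [h8] at hp
            exact absurd hp (by norm_num)
          · omega
        · exact h4.2 (by omega)
      refine ⟨by omega, le_trans ?_ hqe⟩
      calc 81 = 3 ^ 4 := by norm_num
        _ ≤ q ^ 4 := Nat.pow_le_pow_left hq3 4
        _ ≤ q ^ m q := Nat.pow_le_pow_right (by omega) hm4
  -- orders
  set C := Subgroup.centralizer (D.A : Set H) with hC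
  have hCcard : Nat.card C ≤ f * e ^ 8 := by
    have h1 := card_cent D
    have h2 := hO H W F D Q m hD hfaith
    rw [← hC, ← he] at h2
    rw [← hC, hD.relIndex, ← he] at h1
    rw [h1]
    have h3 := card_A_le D
    calc Nat.card D.A * e ^ 2 * D.S.relIndex C ≤ f * e ^ 2 * e ^ 6 :=
          Nat.mul_le_mul (Nat.mul_le_mul_right _ (by omega)) h2
      _ = f * e ^ 8 := by ring
  have hHcard : Nat.card H ≤ f * (f * e ^ 8) := (card_le_cent D).trans (Nat.mul_le_mul_left _ hCcard)
  -- bad vectors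
  set Y : Set H := {y | PEl p y ∧ ¬ FH 1 (⁅L, Subgroup.zpowers y⁆ : Subgroup H)} with hY
  set s := Nat.sqrt (Nat.card W) with hs
  set t := Nat.findGreatest (fun t => t ^ 7 ≤ Nat.card W) (Nat.card W) with ht
  have hs2 : s ^ 2 ≤ Nat.card W := Nat.sqrt_le' _
  have ht7 : t ^ 7 ≤ Nat.card W := by
    refine Nat.findGreatest_spec (P := fun t => t ^ 7 ≤ Nat.card W) (m := 0) (Nat.zero_le _) ?_
    show 0 ^ 7 ≤ _
    exact Nat.zero_le _
  have htmax : ∀ c : ℕ, c ^ 7 ≤ Nat.card W → c ≤ t := by
    intro c hc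
    exact Nat.le_findGreatest ((Nat.le_self_pow (by norm_num) c).trans hc) hc
  have ht1 : 1 ≤ t := htmax 1 (by rw [one_pow]; exact Nat.card_pos)
  have hb := card_bad_le (W := W) C Y (s := s) (t := t)
    (by
      intro y hy hyC
      obtain ⟨q, hqQ, hqp, hq, -, -⟩ := bad_dim D hp hL hirr hfaith hD hy.1 hy.2
      obtain ⟨k, hk⟩ := hy.1
      obtain ⟨j, -, hj⟩ := (Nat.dvd_prime_pow hp).1 (orderOf_dvd_of_pow_eq_one hk)
      have h1 := fixedSq H W F D y hyC
        (by rw [hj]; exact (hp.odd_of_ne_two (by omega)).pow)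
        (by
          rw [hj, hD.relIndex]
          refine Nat.Coprime.pow_left _ (Nat.Coprime.pow_right _ ?_)
          refine Nat.Coprime.prod_right fun q hq => Nat.Coprime.pow_right _ ?_
          rw [Nat.coprime_primes hp (hD.prime q hq)]
          rintro rfl
          exact hpQ hq) (exists_moved D hq)
      rw [hs, Nat.le_sqrt']
      exact h1)
    (by
      intro y hy hyC
      have h1 := fixedPow H W F D p hp y hy.1 hyC
      apply htmax
      rcases Nat.eq_zero_or_pos (Nat.card {w : W // y • w = w}) with h2 | h2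
      · rw [h2]
        simp
      · exact (Nat.pow_le_pow_right h2 h7).trans h1)
  -- the good vectors
  have hcomp : Nat.card W ≤ Nat.card {w : W // Gd p 1 L w} + Nat.card {w : W // ∃ y ∈ Y, y • w = w} := by
    rw [← Nat.card_sum]
    refine Nat.card_le_card_of_injective (fun w =>
      if h : Gd p 1 L w then Sum.inl ⟨w, h⟩ else Sum.inr ⟨w, by
        unfold Gd at h
        push Not at h
        obtain ⟨y, hy, hyw, hyb⟩ := h
        exact ⟨y, ⟨hy, hyb⟩, hyw⟩⟩) ?_
    intro a b hab
    dsimp only at hab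
    split_ifs at hab with h3 h4 h4
    · exact congrArg Subtype.val (Sum.inl.inj hab)
    · exact congrArg Subtype.val (Sum.inr.inj hab)
  apply orbs_two_of_card
  rw [hWcard] at hs2 ht7
  have h5 := count_ineq hfe hed hCcard hHcard hs2 ht7 ht1
  rw [← hWcard] at h5
  omega

end Cfsg.Agent.H699.RC
end
end

-- part: H273/RC/FHS
section
prune_inst 0xf00039047500002010000590c1001e62b6000090000b0400048007460e894c4205022620bbb000031828008400350048134c04b00000000020000400411806a990a350023334ac00360091000884000000000000000000000000000000000004000000000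
set_option linter.all false
open scoped Cfsg.Agent.FastGrp

-- part: H273/RC/Prim
section
/-!
# S4191 (FHS): small solvable linear groups, the primitive case (helper273)
-/

set_option autoImplicit false
set_option linter.unusedSectionVars false

namespace Cfsg.Agent.H273.RC

open scoped Pointwise commutatorElement
open Cfsg.Agent.H527.RC Cfsg.Agent.H822.Cls

universe u

theorem fh_one_of_comm {G : Type u} [Group G] (h : ∀ a b : G, a * b = b * a) : FH 1 G := by
  rw [FH.one_iff]
  let _ : CommGroup G := { (inferInstance : Group G) with mul_comm := h }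
  infer_instance

/-- sizes of the field and of the module -/
theorem field_facts (U F : Type u) [AddCommGroup U] [Finite U] [Nontrivial U] [Field F] [Finite F] [Module F U]
    {q n : ℕ} (hq : q.Prime) (hU : ∀ u : U, q • u = 0) (hn : Nat.card U = q ^ n) :
    ∃ s, 1 ≤ s ∧ Nat.card F = q ^ s ∧ s * Module.finrank F U = n ∧ 1 ≤ Module.finrank F U := by
  have hfq : Fact q.Prime := ⟨hq⟩
  obtain ⟨u, hu⟩ := exists_ne (0 : U)
  have h0 : (q : F) = 0 := by
    by_contra h
    have h1 : (q : F) • u = 0 := by rw [Nat.cast_smul_eq_nsmul]; exact hU u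
    rcases smul_eq_zero.1 h1 with h2 | h2
    · exact h h2
    · exact hu h2
  have hchar : CharP F q := by
    obtain ⟨p, hp⟩ := CharP.exists F
    have hpp : p.Prime := CharP.char_is_prime F p
    have h1 : p ∣ q := (CharP.cast_eq_zero_iff F p q).1 h0
    have h2 : p = q := (Nat.prime_dvd_prime_iff_eq hpp hq).1 h1
    rwa [← h2]
  let _ : Fintype F := Fintype.ofFinite F
  obtain ⟨s, _, hs⟩ := FiniteField.card F q
  have hs' : Nat.card F = q ^ (s : ℕ) := by rw [Nat.card_eq_fintype_card]; exact hs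
  have hfin : Module.Finite F U := Module.Finite.of_finite
  have hU' : Nat.card U = Nat.card F ^ Module.finrank F U := Module.natCard_eq_pow_finrank
  rw [hs', ← pow_mul, hn] at hU'
  refine ⟨s, s.2, hs', (Nat.pow_right_injective hq.two_le hU').symm, ?_⟩
  exact Module.finrank_pos

section

variable {L U F : Type u} [Group L] [AddCommGroup U]
  [DistribMulAction L U] [Field F] [Finite F] [Module F U] (D : Prim L U F)

/-- if `S = A` then `C(A) = A` -/
theorem cent_le_A (hS : D.S ≤ D.A) : Subgroup.centralizer (D.A : Set L) ≤ D.A := by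
  intro c hc
  apply hS
  apply D.dual c hc
  intro s hs
  have h1 := Subgroup.mem_centralizer_iff.1 hc s (hS hs)
  have h2 : c * s * c⁻¹ * s⁻¹ = 1 := by rw [← h1]; group
  rw [h2]
  exact D.A.one_mem

/-- the quotient by `C(A)` is commutative -/
theorem fh_quot (N : Subgroup L) [N.Normal] (hN : Subgroup.centralizer (D.A : Set L) ≤ N) : FH 1 (L ⧸ N) := by
  apply fh_one_of_comm
  intro a b
  obtain ⟨x, rfl⟩ := QuotientGroup.mk_surjective a
  obtain ⟨y, rfl⟩ := QuotientGroup.mk_surjective b
  rw [← QuotientGroup.mk_mul, ← QuotientGroup.mk_mul, QuotientGroup.eq]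
  apply hN
  rw [← D.σ_ker, MonoidHom.mem_ker, map_mul, map_inv, map_mul, map_mul, ringEquiv_comm (D.σ x) (D.σ y)]
  exact inv_mul_cancel _

theorem fh_two_of_le [Finite L] [Finite U] [Nontrivial U] (hS : D.S ≤ D.A) : FH 2 L := by
  have hn := D.A_normal
  exact ⟨D.A, hn, D.isNilpotent_of_le D.A D.A_le, fh_quot D D.A (cent_le_A D hS)⟩

theorem S_le_of_empty {Q : Finset ℕ} {m : ℕ → ℕ} (hN : D.Num Q m) (hQ : Q = ∅) : D.S ≤ D.A := by
  have h1 := hN.relIndex
  rw [hQ, Finset.prod_empty, one_pow] at h1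
  exact Subgroup.relIndex_eq_one.1 h1

/-- facts on the primes in `Q` -/
theorem num_facts [Finite L] {Q : Finset ℕ} {m : ℕ → ℕ} (hN : D.Num Q m) {r : ℕ} (hr : r ∈ Q) :
    r.Prime ∧ r ∣ Nat.card F - 1 ∧ r ^ m r ≤ Module.finrank F U ∧ r ≤ Module.finrank F U ∧ r ∣ Nat.card L := by
  have h1 := hN.prime r hr
  have h2 : r ^ m r ∣ ∏ q ∈ Q, q ^ m q := Finset.dvd_prod_of_mem (fun q => q ^ m q) hr
  have hpos : 0 < ∏ q ∈ Q, q ^ m q := Finset.prod_pos fun q hq => pow_pos (hN.prime q hq).pos _
  have h3 : r ^ m r ≤ Module.finrank F U := (Nat.le_of_dvd hpos h2).trans hN.le_finrank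
  have h4 : r ≤ r ^ m r := Nat.le_self_pow (by have := hN.one_le r hr; omega) r
  refine ⟨h1, hN.dvd r hr, h3, h4.trans h3, ?_⟩
  have h5 : r ∣ r ^ m r := dvd_pow_self r (by have := hN.one_le r hr; omega)
  have h6 : r ∣ D.A.relIndex D.S := by
    rw [hN.relIndex]
    exact (h5.trans h2).trans (dvd_pow_self _ two_ne_zero)
  exact h6.trans ((Subgroup.relIndex_dvd_card _ _).trans (Subgroup.card_subgroup_dvd_card _))

end

/-- the primitive case for groups of odd order -/
theorem prim_odd {L U : Type u} [Group L] [Finite L] [Group.IsSolvable L] [AddCommGroup U] [Finite U]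
    [Nontrivial U] [DistribMulAction L U] {q n : ℕ} (hq : q.Prime) (hU : ∀ u : U, q • u = 0)
    (hn : Nat.card U = q ^ n) (hf : ∀ g : L, (∀ u : U, g • u = u) → g = 1) (hirr : Irr L U) (hI : ¬ Imprim L U)
    (hodd : Odd (Nat.card L)) (h : (q = 3 ∧ n ≤ 8) ∨ (q = 5 ∧ n ≤ 4) ∨ n ≤ 2) : FH 2 L := by
  obtain ⟨F, hF1, hF2, hF3, ⟨D⟩⟩ := existsPrim L U q hq hU hf hirr hI
  obtain ⟨Q, m, hN⟩ := Cfsg.Agent.H308.ClsNum.exists_num L U F D
  obtain ⟨s, hs1, hs2, hs3, hs4⟩ := field_facts U F hq hU hn
  apply fh_two_of_le D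
  apply S_le_of_empty D hN
  rw [Finset.eq_empty_iff_forall_notMem]
  intro r hr
  obtain ⟨r1, r2, _, r3, r4⟩ := num_facts D hN hr
  have r5 : r ≠ 2 := by
    rintro rfl
    exact (Nat.not_even_iff_odd.2 hodd) (even_iff_two_dvd.2 r4)
  have r6 : 3 ≤ r := by
    have := r1.two_le
    omega
  rw [hs2] at r2
  generalize Module.finrank F U = d at *
  rcases h with ⟨rfl, h⟩ | ⟨rfl, h⟩ | h
  · have r7 : r ≠ 3 := by
      rintro rfl
      have h1 : 3 ∣ 3 ^ s := dvd_pow_self 3 (by omega)
      have h2 : 1 ≤ 3 ^ s := Nat.one_le_pow _ _ (by norm_num)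
      omega
    have r8 : r ≠ 4 := by
      rintro rfl
      exact absurd r1 (by norm_num)
    have h5 : 5 ≤ d := by omega
    have h6 : s = 1 := by
      by_contra h7
      have : 2 ≤ s := by omega
      have : 2 * 5 ≤ s * d := Nat.mul_le_mul this h5
      omega
    rw [h6] at r2
    have := Nat.le_of_dvd (by norm_num) r2
    omega
  · have h5 : 3 ≤ d := by omega
    have h6 : s = 1 := by
      by_contra h7
      have : 2 ≤ s := by omega
      have : 2 * 3 ≤ s * d := Nat.mul_le_mul this h5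
      omega
    rw [h6] at r2
    have h8 := Nat.le_of_dvd (by norm_num) r2
    have h9 : r = 3 ∨ r = 4 := by omega
    rcases h9 with rfl | rfl
    · omega
    · exact absurd r1 (by norm_num)
  · have : 1 * d ≤ s * d := Nat.mul_le_mul_right d hs1
    omega

/-- the primitive case in characteristic two for `3'`-groups -/
theorem prim_three {L U : Type u} [Group L] [Finite L] [Group.IsSolvable L] [AddCommGroup U] [Finite U]
    [Nontrivial U] [DistribMulAction L U] {n : ℕ} (hU : ∀ u : U, 2 • u = 0)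
    (hn : Nat.card U = 2 ^ n) (hf : ∀ g : L, (∀ u : U, g • u = u) → g = 1) (hirr : Irr L U) (hI : ¬ Imprim L U)
    (h3 : ¬ 3 ∣ Nat.card L) (h : n ≤ 12) : FH 2 L ∧ (n ≤ 3 → FH 1 L) := by
  obtain ⟨F, hF1, hF2, hF3, ⟨D⟩⟩ := existsPrim L U 2 Nat.prime_two hU hf hirr hI
  obtain ⟨Q, m, hN⟩ := Cfsg.Agent.H308.ClsNum.exists_num L U F D
  obtain ⟨s, hs1, hs2, hs3, hs4⟩ := field_facts U F Nat.prime_two hU hn
  have hSA : D.S ≤ D.A := by
    apply S_le_of_empty D hN
    rw [Finset.eq_empty_iff_forall_notMem]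
    intro r hr
    obtain ⟨r1, r2, _, r3, r4⟩ := num_facts D hN hr
    have r6 : r ≠ 3 := by
      rintro rfl
      exact h3 r4
    have r8 : r ≠ 4 := by
      rintro rfl
      exact absurd r1 (by norm_num)
    rw [hs2] at r2
    generalize Module.finrank F U = d at *
    have r5 : r ≠ 2 := by
      rintro rfl
      have h1 : 2 ∣ 2 ^ s := dvd_pow_self 2 (by omega)
      have h2 : 1 ≤ 2 ^ s := Nat.one_le_pow _ _ (by norm_num)
      omega
    have r7 := r1.two_le
    have h5 : 5 ≤ d := by omega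
    have h6 : s ≤ 2 := by
      by_contra h7
      have : 3 ≤ s := by omega
      have : 3 * 5 ≤ s * d := Nat.mul_le_mul this h5
      omega
    have h7 : s = 1 ∨ s = 2 := by omega
    rcases h7 with rfl | rfl
    · have := Nat.le_of_dvd (by norm_num) r2
      omega
    · have := Nat.le_of_dvd (by norm_num) r2
      omega
  refine ⟨fh_two_of_le D hSA, fun hn3 => ?_⟩
  have hcA := cent_le_A D hSA
  have hAn := D.A_normal
  -- the order of `A` divides `2 ^ s - 1`
  have hA : Nat.card D.A ∣ 2 ^ s - 1 := by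
    have h1 : Nat.card D.A ∣ Nat.card Fˣ := Subgroup.card_dvd_of_injective D.ι D.ι_inj
    rwa [Nat.card_units, hs2] at h1
  -- the order of `L / A` divides `s`
  have hker : D.σ.ker ≤ D.A := by rw [D.σ_ker]; exact hcA
  have hker' : D.σ.ker = D.A := by
    apply le_antisymm hker
    rw [D.σ_ker]
    exact D.A_le.trans D.S_le
  have hσ : Nat.card D.σ.range ∣ s := by
    let _ : Fintype F := Fintype.ofFinite F
    have : Fact (Nat.Prime 2) := ⟨Nat.prime_two⟩
    have h1 : Nat.card (F ≃+* F) = s :=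
      Lib.FieldAutCard.card_ringAut (p := 2) hs1 (by rw [← Nat.card_eq_fintype_card]; exact hs2)
    rw [← h1]
    exact Subgroup.card_subgroup_dvd_card _
  have hdiv : Nat.card D.A ∣ Nat.card L := Subgroup.card_subgroup_dvd_card _
  have hdiv' : Nat.card D.σ.range ∣ Nat.card L := Subgroup.card_range_dvd _
  have hsn : s ∣ n := ⟨_, hs3.symm⟩
  have h13 : s = 1 ∨ s = 2 ∨ s = 3 := by
    have : n ≠ 0 := by
      rintro rfl
      rcases Nat.mul_eq_zero.1 hs3 with h1 | h1 <;> omega
    have := Nat.le_of_dvd (by omega) hsn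
    omega
  have hcase : Nat.card D.A = 1 ∨ Nat.card D.σ.range = 1 := by
    rcases h13 with rfl | rfl | rfl
    · exact Or.inr (Nat.dvd_one.1 hσ)
    · left
      have h1 : Nat.card D.A ∣ 3 := hA
      rcases (Nat.dvd_prime Nat.prime_three).1 h1 with h2 | h2
      · exact h2
      · exact absurd (h2 ▸ hdiv) h3
    · right
      rcases (Nat.dvd_prime Nat.prime_three).1 hσ with h2 | h2
      · exact h2
      · exact absurd (h2 ▸ hdiv') h3
  rcases hcase with h1 | h1
  · have h2 : D.σ.ker = ⊥ := by rw [hker']; exact Subgroup.card_eq_one.1 h1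
    have h3 : Function.Injective D.σ := (MonoidHom.ker_eq_bot_iff _).1 h2
    apply fh_one_of_comm
    intro a b
    apply h3
    rw [map_mul, map_mul, ringEquiv_comm]
  · have h2 : D.σ.range = ⊥ := Subgroup.card_eq_one.1 h1
    have h4 : ∀ g : L, g ∈ D.A := by
      intro g
      apply hker
      rw [MonoidHom.mem_ker]
      have : D.σ g ∈ D.σ.range := ⟨g, rfl⟩
      rwa [h2, Subgroup.mem_bot] at this
    apply fh_one_of_comm
    intro a b
    have h5 := D.S_le (D.A_le (h4 b))
    exact Subgroup.mem_centralizer_iff.1 h5 a (h4 a)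

/-- elements act on `S / A` with order at most two if this group has order four -/
theorem sq_triv {L U F : Type u} [Group L] [Finite L] [AddCommGroup U]
    [DistribMulAction L U] [Field F] [Module F U] (D : Prim L U F) (h3 : ¬ 3 ∣ Nat.card L)
    (h4 : D.A.relIndex D.S = 4) (x : L) (s : L) (hs : s ∈ D.S) : x ^ 2 * s * (x ^ 2)⁻¹ * s⁻¹ ∈ D.A := by
  have hAn := D.A_normal
  have hSn := D.S_normal
  set N := D.S.map (QuotientGroup.mk' D.A) with hN
  have hNn : N.Normal := hSn.map _ (QuotientGroup.mk'_surjective _)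
  have hcard : Nat.card N = 4 := by
    rw [hN, ← Subgroup.relIndex_ker, QuotientGroup.ker_mk']
    exact h4
  let φ : L →* MulAut N := (MulAut.conjNormal).comp (QuotientGroup.mk' D.A)
  have h6 : Nat.card (MulAut N) ∣ 6 := by
    have := SmallSimple.KleinFourAut.card_mulAut_dvd N
    rw [hcard] at this
    exact this
  have h7 : orderOf (φ x) ∣ 6 := (orderOf_dvd_natCard _).trans h6
  have h8 : orderOf (φ x) ∣ Nat.card L := (orderOf_map_dvd φ x).trans (orderOf_dvd_natCard x)
  have h9 : orderOf (φ x) ∣ 2 := by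
    have h10 : (orderOf (φ x)).Coprime 3 := by
      rw [Nat.coprime_comm, Nat.prime_three.coprime_iff_not_dvd]
      exact fun h => h3 (h.trans h8)
    exact h10.dvd_of_dvd_mul_right (by exact h7 : orderOf (φ x) ∣ 2 * 3)
  have h10 : φ (x ^ 2) = 1 := by rw [map_pow, orderOf_dvd_iff_pow_eq_one.1 h9]
  have h11 := congrArg Subtype.val (DFunLike.congr_fun h10 (⟨_, Subgroup.mem_map_of_mem _ hs⟩ : N))
  have h12 : ((x ^ 2 : L) : L ⧸ D.A) * (s : L ⧸ D.A) * ((x ^ 2 : L) : L ⧸ D.A)⁻¹ = (s : L ⧸ D.A) := by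
    have := MulAut.conjNormal_apply ((x ^ 2 : L) : L ⧸ D.A) (⟨_, Subgroup.mem_map_of_mem _ hs⟩ : N)
    exact this.symm.trans h11
  rw [← QuotientGroup.eq_one_iff]
  rw [QuotientGroup.mk_mul, QuotientGroup.mk_mul, QuotientGroup.mk_mul, QuotientGroup.mk_inv, QuotientGroup.mk_inv, h12,
    mul_inv_cancel]

/-- the primitive case in dimension two for `3'`-groups -/
theorem prim_three_two {L U : Type u} [Group L] [Finite L] [Group.IsSolvable L] [AddCommGroup U] [Finite U]
    [Nontrivial U] [DistribMulAction L U] {q n : ℕ} (hq : q.Prime) (hU : ∀ u : U, q • u = 0)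
    (hn : Nat.card U = q ^ n) (hf : ∀ g : L, (∀ u : U, g • u = u) → g = 1) (hirr : Irr L U) (hI : ¬ Imprim L U)
    (h3 : ¬ 3 ∣ Nat.card L) (h : n ≤ 2) : FH 3 L := by
  obtain ⟨F, hF1, hF2, hF3, ⟨D⟩⟩ := existsPrim L U q hq hU hf hirr hI
  obtain ⟨Q, m, hN⟩ := Cfsg.Agent.H308.ClsNum.exists_num L U F D
  obtain ⟨s, hs1, hs2, hs3, hs4⟩ := field_facts U F hq hU hn
  have hd : Module.finrank F U ≤ 2 := by
    have : 1 * Module.finrank F U ≤ s * Module.finrank F U := Nat.mul_le_mul_right _ hs1
    omega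
  have hQ2 : ∀ r ∈ Q, r = 2 := by
    intro r hr
    obtain ⟨r1, r2, _, r3, r4⟩ := num_facts D hN hr
    have := r1.two_le
    omega
  by_cases h2Q : 2 ∈ Q
  · obtain ⟨r1, r2, r5, r3, r4⟩ := num_facts D hN h2Q
    have hm : m 2 = 1 := by
      have h1 := hN.one_le 2 h2Q
      have h2 : 2 ^ m 2 ≤ 2 ^ 1 := r5.trans hd
      have h3 := (Nat.pow_le_pow_iff_right (by norm_num : 1 < 2)).1 h2
      omega
    have hQ : Q = {2} := by
      ext r
      rw [Finset.mem_singleton]
      exact ⟨hQ2 r, fun h => h ▸ h2Q⟩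
    have h4 : D.A.relIndex D.S = 4 := by
      rw [hN.relIndex, hQ, Finset.prod_singleton, hm]
      norm_num
    have hCn : (Subgroup.centralizer (D.A : Set L)).Normal := by
      rw [← D.σ_ker]
      infer_instance
    have hq1 : FH 1 (L ⧸ Subgroup.centralizer (D.A : Set L)) := fh_quot D _ le_rfl
    have hSn := D.S_normal
    have hC : FH 2 (Subgroup.centralizer (D.A : Set L)) := by
      refine ⟨D.S.subgroupOf _, inferInstance, ?_, ?_⟩
      · have hSnil := D.isNilpotent_of_le D.S le_rfl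
        exact isNilpotent_of_injective (Subgroup.subgroupOfEquivOfLe D.S_le).toMonoidHom
          (Subgroup.subgroupOfEquivOfLe D.S_le).injective hSnil
      · have hsq : ∀ y : (Subgroup.centralizer (D.A : Set L)) ⧸ D.S.subgroupOf (Subgroup.centralizer (D.A : Set L)),
            y ^ 2 = 1 := by
          intro y
          obtain ⟨x, rfl⟩ := QuotientGroup.mk_surjective y
          rw [← QuotientGroup.mk_pow, QuotientGroup.eq_one_iff, Subgroup.mem_subgroupOf]
          apply D.dual _ (Subgroup.pow_mem _ x.2 2)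
          intro s hs
          exact sq_triv D h3 h4 _ s hs
        apply fh_one_of_comm
        intro a b
        have ha : a⁻¹ = a := by rw [inv_eq_iff_mul_eq_one, ← pow_two]; exact hsq a
        have hb : b⁻¹ = b := by rw [inv_eq_iff_mul_eq_one, ← pow_two]; exact hsq b
        have hab : (a * b)⁻¹ = a * b := by rw [inv_eq_iff_mul_eq_one, ← pow_two]; exact hsq _
        rw [← hab, mul_inv_rev, ha, hb]
    exact FH.extension (s := 2) (t := 1) _ hC hq1
  · have hQ : Q = ∅ := by
      rw [Finset.eq_empty_iff_forall_notMem]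
      intro r hr
      exact h2Q (hQ2 r hr ▸ hr)
    exact (fh_two_of_le D (S_le_of_empty D hN hQ)).succ

end Cfsg.Agent.H273.RC
end

-- part: H273/RC/ImpData
section
/-!
# S4191 (FHS): small solvable linear groups, the imprimitive data (helper273)
-/

set_option autoImplicit false
set_option linter.unusedSectionVars false

namespace Cfsg.Agent.H273.RC

open scoped Pointwise commutatorElement
open Cfsg.Agent.H527.RC Cfsg.Agent.H822.Cls Cfsg.Agent.H158.Cls7

universe u

/-- A solvable faithful irreducible group of order prime to `|V| - 1` is trivial. -/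
theorem trivial_of_cop {G V : Type u} [Group G] [Finite G] [Group.IsSolvable G] [AddCommGroup V] [Finite V]
    [DistribMulAction G V] (hf : ∀ g : G, (∀ v : V, g • v = v) → g = 1) (hirr : Irr G V)
    (h : ∀ r : ℕ, r.Prime → r ∣ Nat.card V - 1 → ¬ r ∣ Nat.card G) : Subsingleton G := by
  by_contra hG
  have hG' : Nontrivial G := not_subsingleton_iff_nontrivial.1 hG
  obtain ⟨r, N, hr, hN, hrN, _, hne⟩ := Lib.SolvableNormalP.exists_normal_pSubgroup G
  have hfr : Fact r.Prime := ⟨hr⟩
  let W : AddSubgroup V :=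
    { carrier := {v | ∀ g ∈ N, g • v = v}
      zero_mem' := fun g _ => smul_zero g
      add_mem' := fun {a b} ha hb g hg => by rw [smul_add, ha g hg, hb g hg]
      neg_mem' := fun {a} ha g hg => by rw [smul_neg, ha g hg] }
  have hW : ∀ g : G, ∀ w ∈ W, g • w ∈ W := by
    intro g w hw x hx
    have h1 := hw _ (hN.conj_mem x hx g⁻¹)
    rw [inv_inv, mul_smul, mul_smul] at h1
    exact (inv_smul_eq_iff.1 h1)
  rcases hirr W hW with h1 | h1
  · -- no fixed points
    have h2 : Nat.card V ≡ Nat.card (MulAction.fixedPoints N V) [MOD r] := hrN.card_modEq_card_fixedPoints V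
    have h3 : Nat.card (MulAction.fixedPoints N V) = 1 := by
      rw [Nat.card_eq_one_iff_unique]
      refine ⟨⟨fun a b => ?_⟩, ⟨⟨0, fun g => smul_zero g⟩⟩⟩
      have h4 : ∀ a : MulAction.fixedPoints N V, (a : V) = 0 := by
        intro a
        have : (a : V) ∈ W := fun g hg => a.2 ⟨g, hg⟩
        rwa [h1, AddSubgroup.mem_bot] at this
      exact Subtype.ext ((h4 a).trans (h4 b).symm)
    rw [h3] at h2
    have h4 : r ∣ Nat.card V - 1 := (Nat.modEq_iff_dvd' Nat.card_pos).1 h2.symm
    apply h r hr h4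
    obtain ⟨k, hk⟩ := IsPGroup.iff_card.1 hrN
    have hk0 : k ≠ 0 := by
      rintro rfl
      exact hne (Subgroup.card_eq_one.1 (by rw [hk, pow_zero]))
    exact ((dvd_pow_self r hk0).trans (hk ▸ dvd_rfl)).trans (Subgroup.card_subgroup_dvd_card N)
  · apply hne
    rw [eq_bot_iff]
    intro x hx
    rw [Subgroup.mem_bot]
    apply hf
    intro v
    have : v ∈ W := by rw [h1]; trivial
    exact this x hx

section

variable {L U : Type u} [Group L] [AddCommGroup U] [DistribMulAction L U] {X : Subgroup L} [Fintype (L ⧸ X)]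

theorem pi_out_self (S : Sys L U (L ⧸ X)) {v : U} (hv : v ∈ S.V) (i : L ⧸ X) :
    S.π i (i.out • v) = i.out • v := by
  have h1 : i.out • ((1 : L) : L ⧸ X) = i := by
    show ((i.out * 1 : L) : L ⧸ X) = i
    rw [mul_one]
    exact QuotientGroup.out_eq' i
  have h2 : i.out • v = S.π i (i.out • v) := by
    conv_lhs => rw [← (S.mem_V_iff v).1 hv]
    rw [S.eqv, h1]
  exact h2.symm

theorem pi_out_ne (S : Sys L U (L ⧸ X)) {v : U} (hv : v ∈ S.V) {i j : L ⧸ X} (h : j ≠ i) :
    S.π j (i.out • v) = 0 := by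
  rw [← pi_out_self S hv i]
  exact S.orth _ _ _ h

theorem card_sys [Finite U] (S : Sys L U (L ⧸ X)) : Nat.card U = Nat.card S.V ^ X.index := by
  classical
  let e : U → (L ⧸ X → S.V) := fun u i => ⟨(i.out)⁻¹ • S.π i u, S.out_inv_smul_mem i u⟩
  have he : Function.Bijective e := by
    constructor
    · intro a b hab
      rw [← S.sum a, ← S.sum b]
      apply Finset.sum_congr rfl
      intro i _
      have h1 := congrArg Subtype.val (congrFun hab i)
      exact smul_left_cancel _ h1
    · intro f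
      refine ⟨∑ i, i.out • (f i : U), ?_⟩
      funext j
      apply Subtype.ext
      show (j.out)⁻¹ • S.π j (∑ i, i.out • (f i : U)) = f j
      rw [map_sum, Finset.sum_eq_single j]
      · rw [pi_out_self S (f j).2, inv_smul_smul]
      · intro i _ hij
        rw [pi_out_ne S (f i).2 hij.symm]
      · intro h
        exact absurd (Finset.mem_univ j) h
  rw [Nat.card_congr (Equiv.ofBijective e he), Nat.card_fun, Subgroup.index]

theorem V_ne_bot [Nontrivial U] (S : Sys L U (L ⧸ X)) : Nontrivial S.V := by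
  obtain ⟨u, hu⟩ := S.ne_zero ((1 : L) : L ⧸ X)
  exact ⟨⟨⟨_, ⟨u, rfl⟩⟩, 0, fun h => hu (congrArg Subtype.val h)⟩⟩

/-- if the block stabiliser acts trivially on the block, then the module has prime order -/
theorem card_of_trivial [Finite U] [Nontrivial U] {q : ℕ} (hq : q.Prime) (hU : ∀ u : U, q • u = 0)
    (S : Sys L U (L ⧸ X)) (hirr : Irr L U) (h : ∀ x ∈ X, ∀ v ∈ S.V, x • v = v) : Nat.card U = q := by
  classical
  obtain ⟨v, hv0⟩ := @exists_ne _ (V_ne_bot S) (0 : S.V)
  have hv0' : (v : U) ≠ 0 := fun h => hv0 (Subtype.ext h)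
  set w : U := ∑ i : L ⧸ X, i.out • (v : U) with hw
  have hfix : ∀ g : L, g • w = w := by
    intro g
    rw [hw, Finset.smul_sum]
    apply Fintype.sum_equiv (MulAction.toPerm g)
    intro i
    have h1 : (g • i).out⁻¹ * (g * i.out) ∈ X := by
      rw [← QuotientGroup.eq, QuotientGroup.out_eq']
      show g • i = g • ((i.out : L) : L ⧸ X)
      rw [QuotientGroup.out_eq']
    have h2 := h _ h1 v v.2
    rw [mul_smul, inv_smul_eq_iff, mul_smul] at h2
    exact h2
  have hw0 : w ≠ 0 := by
    intro h0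
    have h1 : S.π ((1 : L) : L ⧸ X) w = 0 := by rw [h0, map_zero]
    rw [hw, map_sum, Finset.sum_eq_single ((1 : L) : L ⧸ X)] at h1
    · rw [pi_out_self S v.2] at h1
      exact hv0' ((smul_eq_zero_iff_eq _).1 h1)
    · intro i _ hi
      rw [pi_out_ne S v.2 hi.symm]
    · intro h
      exact absurd (Finset.mem_univ _) h
  have hz : AddSubgroup.zmultiples w = ⊤ := by
    rcases hirr (AddSubgroup.zmultiples w) (by
      rintro g _ ⟨n, rfl⟩
      refine ⟨n, ?_⟩
      show n • w = g • n • w
      rw [smul_comm g n w, hfix]) with h1 | h1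
    · exact absurd ((AddSubgroup.zmultiples_eq_bot).1 h1) hw0
    · exact h1
  have h1 : addOrderOf w = q := by
    have h2 : addOrderOf w ∣ q := addOrderOf_dvd_iff_nsmul_eq_zero.2 (hU w)
    rcases (Nat.dvd_prime hq).1 h2 with h3 | h3
    · exact absurd (AddMonoid.addOrderOf_eq_one_iff.1 h3) hw0
    · exact h3
  rw [← h1, ← Nat.card_zmultiples, hz]
  exact (Nat.card_congr AddSubgroup.topEquiv.toEquiv).symm

end

/-- The data of an imprimitive irreducible faithful module. -/
theorem imprim_data {L U : Type u} [Group L] [Finite L] [Group.IsSolvable L] [AddCommGroup U] [Finite U]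
    [Nontrivial U] [DistribMulAction L U] {q n : ℕ} (hq : q.Prime) (hU : ∀ u : U, q • u = 0)
    (hn : Nat.card U = q ^ n) (hf : ∀ g : L, (∀ u : U, g • u = u) → g = 1) (hirr : Irr L U) (hI : Imprim L U) :
    ∃ (m k : ℕ) (V : Type u) (_ : AddCommGroup V) (G : Type u) (_ : Group G) (_ : DistribMulAction G V),
      Finite V ∧ Nontrivial V ∧ Finite G ∧ Group.IsSolvable G ∧ (∀ v : V, q • v = 0) ∧ Nat.card V = q ^ k ∧
      m * k = n ∧ 2 ≤ m ∧ 1 ≤ k ∧ (∀ g : G, (∀ v : V, g • v = v) → g = 1) ∧ Irr G V ∧ m ∣ Nat.card L ∧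
      Nat.card G ∣ Nat.card L ∧ ¬ Subsingleton G ∧
      ∃ (Y : Type u) (_ : Group Y) (f : L →* Y), Nat.card f.range ∣ m.factorial ∧ ∀ t, FH t G → FH t f.ker := by
  classical
  obtain ⟨X, hX, hS⟩ := exists_coatom_sys hirr hI
  let _ : Fintype (L ⧸ X) := Fintype.ofFinite _
  obtain ⟨S⟩ := hS inferInstance
  let _ := S.act
  have hVn : Nontrivial S.V := V_ne_bot S
  have hcard := card_sys S
  have hm2 : 2 ≤ X.index := by
    have h1 : X.index ≠ 1 := fun h => hX.1 (Subgroup.index_eq_one.1 h)
    have h2 : X.index ≠ 0 := Subgroup.FiniteIndex.index_ne_zero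
    omega
  have hVq : ∀ v : S.V, q • v = 0 := fun v => Subtype.ext (hU v)
  obtain ⟨k, hk⟩ : ∃ k, Nat.card S.V = q ^ k := by
    have h1 : Nat.card S.V ∣ q ^ n := by rw [← hn]; exact AddSubgroup.card_addSubgroup_dvd_card _
    obtain ⟨k, _, hk⟩ := (Nat.dvd_prime_pow hq).1 h1
    exact ⟨k, hk⟩
  have hk1 : 1 ≤ k := by
    rcases Nat.eq_zero_or_pos k with h | h
    · exfalso
      rw [h, pow_zero] at hk
      have := Finite.one_lt_card (α := S.V)
      omega
    · exact h
  have hmk : X.index * k = n := by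
    rw [hk, ← pow_mul, hn] at hcard
    rw [mul_comm]
    exact (Nat.pow_right_injective hq.two_le hcard).symm
  have hfin : Finite (rng X S.V) := Finite.of_surjective _ pr_surjective
  have hsol : Group.IsSolvable (rng X S.V) := Group.isSolvable_of_surjective pr_surjective
  refine ⟨X.index, k, S.V, inferInstance, rng X S.V, inferInstance, inferInstance, inferInstance, hVn, hfin, hsol,
    hVq, hk, hmk, hm2, hk1, ?_, ?_, Subgroup.index_dvd_card X, ?_, ?_, ?_⟩
  · intro g hg
    apply Subtype.ext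
    apply Equiv.ext
    intro u
    exact hg u
  · intro W hW
    exact S.irr hirr W fun g w hw => hW (pr X S.V g) w hw
  · exact (Subgroup.card_dvd_of_surjective _ pr_surjective).trans (Subgroup.card_subgroup_dvd_card X)
  · intro hs
    have h1 : ∀ x ∈ X, ∀ v ∈ S.V, x • v = v := by
      intro x hx v hv
      have h2 : pr X S.V ⟨x, hx⟩ = 1 := hs.elim _ _
      have h3 : pr X S.V ⟨x, hx⟩ • (⟨v, hv⟩ : S.V) = ⟨v, hv⟩ := by rw [h2, one_smul]
      exact congrArg Subtype.val h3
    have h2 := card_of_trivial hq hU S hirr h1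
    rw [hn] at h2
    have h3 : n = 1 := by
      have : q ^ n = q ^ 1 := by rw [h2, pow_one]
      exact Nat.pow_right_injective hq.two_le this
    have h4 : 2 * 1 ≤ X.index * k := Nat.mul_le_mul hm2 hk1
    omega
  · refine ⟨ULift (Equiv.Perm (L ⧸ X)), inferInstance,
      MulEquiv.ulift.symm.toMonoidHom.comp (MulAction.toPermHom L (L ⧸ X)), ?_, ?_⟩
    · refine (Subgroup.card_subgroup_dvd_card _).trans ?_
      rw [Nat.card_congr Equiv.ulift, Nat.card_perm, Subgroup.index]
    · intro t ht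
      have hker : ∀ x, x ∈ (MulEquiv.ulift.symm.toMonoidHom.comp (MulAction.toPermHom L (L ⧸ X))).ker →
          ∀ g : L, g⁻¹ * x * g ∈ X := by
        intro x hx g
        have h1 : MulAction.toPermHom L (L ⧸ X) x = 1 := by
          have h2 : MulEquiv.ulift.symm (MulAction.toPermHom L (L ⧸ X) x) = 1 := hx
          exact (MulEquiv.map_eq_one_iff _).1 h2
        have h2 : x • ((g : L) : L ⧸ X) = ((g : L) : L ⧸ X) := Equiv.congr_fun h1 ((g : L) : L ⧸ X)
        have h3 : ((x * g : L) : L ⧸ X) = ((g : L) : L ⧸ X) := h2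
        rw [eq_comm, QuotientGroup.eq] at h3
        rwa [mul_assoc]
      refine FH.of_family (ι := L) (Hs := fun _ => rng X S.V) (fun g => (pr X S.V).comp
        (MonoidHom.mk' (fun x => ⟨g⁻¹ * x * g, hker x x.2 g⟩) ?_)) ?_ (fun _ => ht)
      · intro a b
        apply Subtype.ext
        show g⁻¹ * ((a : L) * (b : L)) * g = g⁻¹ * (a : L) * g * (g⁻¹ * (b : L) * g)
        group
      · intro x hx
        apply Subtype.ext
        apply hf
        intro u
        have h1 : ∀ (g : L) (v : U), v ∈ S.V → (g⁻¹ * (x : L) * g) • v = v := by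
          intro g v hv
          have h2 : pr X S.V ⟨g⁻¹ * x * g, hker x x.2 g⟩ = 1 := hx g
          have h3 : pr X S.V ⟨g⁻¹ * x * g, hker x x.2 g⟩ • (⟨v, hv⟩ : S.V) = ⟨v, hv⟩ := by rw [h2, one_smul]
          exact congrArg Subtype.val h3
        rw [← S.sum u, Finset.smul_sum]
        apply Finset.sum_congr rfl
        intro i _
        have h2 := h1 i.out _ (S.out_inv_smul_mem i u)
        rw [mul_smul, smul_inv_smul, mul_smul] at h2
        exact (smul_left_cancel _ h2)

end Cfsg.Agent.H273.RC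
end

-- part: H273/RC/FHS
section
/-!
# S4191 (FHS): Fitting heights of small solvable linear groups (helper273)

* `fhs_odd` : odd order, `(q = 3, n ≤ 8)`, `(q = 5, n ≤ 4)` or `n ≤ 2` : Fitting height at most `2`;
* `fhs_three` : order prime to `3`, `(q = 2, n ≤ 12)` or `n ≤ 2` : Fitting height at most `3`.
-/

set_option autoImplicit false
set_option linter.unusedSectionVars false

namespace Cfsg.Agent.H273.RC

open scoped Pointwise commutatorElement
open Cfsg.Agent.H527.RC Cfsg.Agent.H822.Cls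

universe u

/-- groups of order dividing a power of two have Fitting height at most one -/
theorem fh_one_of_card {G : Type u} [Group G] [Finite G] {k : ℕ} (h : Nat.card G ∣ 2 ^ k) : FH 1 G := by
  rw [FH.one_iff]
  have : Fact (Nat.Prime 2) := ⟨Nat.prime_two⟩
  obtain ⟨j, _, hj⟩ := (Nat.dvd_prime_pow Nat.prime_two).1 h
  exact (IsPGroup.of_card hj).isNilpotent

theorem prime_dvd_two_pow {r k : ℕ} (hr : r.Prime) (h : r ∣ 2 ^ k) : r = 2 :=
  (Nat.prime_dvd_prime_iff_eq hr Nat.prime_two).1 (hr.dvd_of_dvd_pow h)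

/-- irreducible groups of odd order -/
theorem irr_odd {L U : Type u} [Group L] [Finite L] [Group.IsSolvable L] [AddCommGroup U] [Finite U]
    [Nontrivial U] [DistribMulAction L U] {q n : ℕ} (hq : q.Prime) (hU : ∀ u : U, q • u = 0)
    (hn : Nat.card U = q ^ n) (hf : ∀ g : L, (∀ u : U, g • u = u) → g = 1) (hirr : Irr L U)
    (hodd : Odd (Nat.card L)) (h : (q = 3 ∧ n ≤ 8) ∨ (q = 5 ∧ n ≤ 4) ∨ n ≤ 2) : FH 2 L := by
  by_cases hI : Imprim L U
  · exfalso
    obtain ⟨m, k, V, _, G, h88⟩ :=
      imprim_data hq hU hn hf hirr hI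
    revert h88; rintro ⟨_, _, hVf, hVn, hGf, h88⟩
    revert h88; rintro ⟨hGs, hVq, hVk, hmk, hm, h88⟩
    revert h88; rintro ⟨hk, hGfa, hGi, hmL, hGL, h88⟩
    revert h88; rintro ⟨hGn, _⟩
    apply hGn
    have h2 : ¬ 2 ∣ Nat.card L := fun h => (Nat.not_even_iff_odd.2 hodd) (even_iff_two_dvd.2 h)
    have hm2 : m ≠ 2 := by
      rintro rfl
      exact h2 hmL
    have hm3 : 3 ≤ m := by omega
    have h3k : 3 * k ≤ m * k := Nat.mul_le_mul_right k hm3
    have hpow : ∃ j, Nat.card V - 1 = 2 ^ j := by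
      rw [hVk]
      rcases h with ⟨rfl, h⟩ | ⟨rfl, h⟩ | h
      · have : k = 1 ∨ k = 2 := by omega
        rcases this with rfl | rfl
        · exact ⟨1, rfl⟩
        · exact ⟨3, rfl⟩
      · have : k = 1 := by omega
        subst this
        exact ⟨2, rfl⟩
      · omega
    obtain ⟨j, hj⟩ := hpow
    apply trivial_of_cop hGfa hGi
    intro r hr hrV hrG
    rw [hj] at hrV
    rw [prime_dvd_two_pow hr hrV] at hrG
    exact h2 (hrG.trans hGL)
  · exact prim_odd hq hU hn hf hirr hI hodd h

/-- the imprimitive step in characteristic two -/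
theorem imp_three {L U : Type u} [Group L] [Finite L] [Group.IsSolvable L] [AddCommGroup U] [Finite U]
    [Nontrivial U] [DistribMulAction L U] {n : ℕ} (hU : ∀ u : U, 2 • u = 0)
    (hn : Nat.card U = 2 ^ n) (hf : ∀ g : L, (∀ u : U, g • u = u) → g = 1) (hirr : Irr L U) (hI : Imprim L U)
    (h3 : ¬ 3 ∣ Nat.card L) (h : n ≤ 12) (t : ℕ)
    (IH : ∀ (G V : Type u) [Group G] [Finite G] [Group.IsSolvable G] [AddCommGroup V] [Finite V]
      [Nontrivial V] [DistribMulAction G V] (k : ℕ), (∀ v : V, 2 • v = 0) → Nat.card V = 2 ^ k →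
      (∀ g : G, (∀ v : V, g • v = v) → g = 1) → Irr G V → ¬ 3 ∣ Nat.card G → 3 ≤ k → 2 * k ≤ n → FH t G) :
    6 ≤ n ∧ FH (t + 1) L := by
  obtain ⟨m, k, V, _, G, h88⟩ := imprim_data Nat.prime_two hU hn hf hirr hI
  revert h88; rintro ⟨_, _, hVf, hVn, hGf, h88⟩
  revert h88; rintro ⟨hGs, hVq, hVk, hmk, hm, h88⟩
  revert h88; rintro ⟨hk, hGfa, hGi, hmL, hGL, h88⟩
  revert h88; rintro ⟨hGn, Y, _, f, hf1, hf2⟩
  have hG3 : ¬ 3 ∣ Nat.card G := fun h => h3 (h.trans hGL)
  have hk3 : 3 ≤ k := by
    by_contra hlt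
    apply hGn
    apply trivial_of_cop hGfa hGi
    intro r hr hrV hrG
    rw [hVk] at hrV
    have : k = 1 ∨ k = 2 := by omega
    rcases this with rfl | rfl
    · exact hr.one_lt.ne' (Nat.dvd_one.1 hrV)
    · have h1 : r = 3 := (Nat.prime_dvd_prime_iff_eq hr Nat.prime_three).1 hrV
      exact hG3 (h1 ▸ hrG)
  have hm3 : m ≠ 3 := by
    rintro rfl
    exact h3 hmL
  have hm4 : m ≤ 4 := by
    by_contra hlt
    have : 5 * 3 ≤ m * k := Nat.mul_le_mul (by omega) hk3
    omega
  have h2k : 2 * k ≤ n := by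
    rw [← hmk]
    exact Nat.mul_le_mul_right k hm
  have hG : FH t G := IH G V k hVq hVk hGfa hGi hG3 hk3 h2k
  refine ⟨by omega, ?_⟩
  have h5 : Nat.card f.range ∣ 2 ^ 3 := by
    have h6 : Nat.card f.range ∣ 24 := by
      have : m = 2 ∨ m = 4 := by omega
      rcases this with rfl | rfl
      · exact hf1.trans (by decide)
      · exact hf1
    have h7 : Nat.Coprime (Nat.card f.range) 3 := by
      rw [Nat.coprime_comm, Nat.prime_three.coprime_iff_not_dvd]
      exact fun h => h3 (h.trans (Subgroup.card_range_dvd f))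
    exact h7.dvd_of_dvd_mul_right (by exact h6 : Nat.card f.range ∣ 2 ^ 3 * 3)
  have : Finite f.range := Finite.of_surjective _ f.rangeRestrict_surjective
  exact FH.of_hom f (hf2 t hG) (fh_one_of_card h5)

/-- irreducible `3'`-groups in characteristic two -/
theorem irr_three_a {L U : Type u} [Group L] [Finite L] [Group.IsSolvable L] [AddCommGroup U] [Finite U]
    [Nontrivial U] [DistribMulAction L U] {n : ℕ} (hU : ∀ u : U, 2 • u = 0)
    (hn : Nat.card U = 2 ^ n) (hf : ∀ g : L, (∀ u : U, g • u = u) → g = 1) (hirr : Irr L U)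
    (h3 : ¬ 3 ∣ Nat.card L) (h : n ≤ 3) : FH 1 L := by
  by_cases hI : Imprim L U
  · exfalso
    have := (imp_three hU hn hf hirr hI h3 (by omega) 0 (by
      intro G V _ _ _ _ _ _ _ k _ _ _ _ _ h1 h2
      omega)).1
    omega
  · exact (prim_three hU hn hf hirr hI h3 (by omega)).2 h

theorem irr_three_b {L U : Type u} [Group L] [Finite L] [Group.IsSolvable L] [AddCommGroup U] [Finite U]
    [Nontrivial U] [DistribMulAction L U] {n : ℕ} (hU : ∀ u : U, 2 • u = 0)
    (hn : Nat.card U = 2 ^ n) (hf : ∀ g : L, (∀ u : U, g • u = u) → g = 1) (hirr : Irr L U)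
    (h3 : ¬ 3 ∣ Nat.card L) (h : n ≤ 6) : FH 2 L := by
  by_cases hI : Imprim L U
  · exact (imp_three hU hn hf hirr hI h3 (by omega) 1 (by
      intro G V _ _ _ _ _ _ _ k h1 h2 h3 h4 h5 h6 h7
      exact irr_three_a h1 h2 h3 h4 h5 (by omega))).2
  · exact (prim_three hU hn hf hirr hI h3 (by omega)).1

theorem irr_three {L U : Type u} [Group L] [Finite L] [Group.IsSolvable L] [AddCommGroup U] [Finite U]
    [Nontrivial U] [DistribMulAction L U] {n : ℕ} (hU : ∀ u : U, 2 • u = 0)
    (hn : Nat.card U = 2 ^ n) (hf : ∀ g : L, (∀ u : U, g • u = u) → g = 1) (hirr : Irr L U)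
    (h3 : ¬ 3 ∣ Nat.card L) (h : n ≤ 12) : FH 3 L := by
  by_cases hI : Imprim L U
  · exact (imp_three hU hn hf hirr hI h3 h 2 (by
      intro G V _ _ _ _ _ _ _ k h1 h2 h3 h4 h5 h6 h7
      exact irr_three_b h1 h2 h3 h4 h5 (by omega))).2
  · exact (prim_three hU hn hf hirr hI h3 h).1.succ

/-- a faithful group on a group of prime order is commutative -/
theorem comm_of_prime {G V : Type u} [Group G] [AddCommGroup V] [Finite V] [DistribMulAction G V] {q : ℕ}
    (hq : q.Prime) (hV : Nat.card V = q) (hf : ∀ g : G, (∀ v : V, g • v = v) → g = 1) (a b : G) : a * b = b * a := by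
  have hfq : Fact q.Prime := ⟨hq⟩
  have hc : IsAddCyclic V := isAddCyclic_of_prime_card hV
  obtain ⟨v, hv⟩ := hc.exists_generator
  obtain ⟨i, hi⟩ := hv (a • v)
  obtain ⟨j, hj⟩ := hv (b • v)
  have hi' : i • v = a • v := hi
  have hj' : j • v = b • v := hj
  have h1 : (b * a)⁻¹ * (a * b) = 1 := by
    apply hf
    intro w
    obtain ⟨k, rfl⟩ := hv w
    show ((b * a)⁻¹ * (a * b)) • (k • v) = k • v
    rw [mul_smul, inv_smul_eq_iff]
    have h2 : (a * b) • v = (b * a) • v := by
      rw [mul_smul, mul_smul, ← hi', ← hj', smul_comm a j v, smul_comm b i v, ← hi', ← hj', smul_comm j i v]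
    rw [smul_comm _ k v, smul_comm _ k v, h2]
  rw [inv_mul_eq_one] at h1
  exact h1.symm

/-- irreducible `3'`-groups in dimension at most two -/
theorem irr_three_two {L U : Type u} [Group L] [Finite L] [Group.IsSolvable L] [AddCommGroup U] [Finite U]
    [Nontrivial U] [DistribMulAction L U] {q n : ℕ} (hq : q.Prime) (hU : ∀ u : U, q • u = 0)
    (hn : Nat.card U = q ^ n) (hf : ∀ g : L, (∀ u : U, g • u = u) → g = 1) (hirr : Irr L U)
    (h3 : ¬ 3 ∣ Nat.card L) (h : n ≤ 2) : FH 3 L := by
  by_cases hI : Imprim L U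
  · obtain ⟨m, k, V, _, G, h88⟩ := imprim_data hq hU hn hf hirr hI
    revert h88; rintro ⟨_, _, hVf, hVn, hGf, h88⟩
    revert h88; rintro ⟨hGs, hVq, hVk, hmk, hm, h88⟩
    revert h88; rintro ⟨hk, hGfa, hGi, hmL, hGL, h88⟩
    revert h88; rintro ⟨hGn, Y, _, f, hf1, hf2⟩
    have h1 : 2 * k ≤ m * k := Nat.mul_le_mul_right k hm
    have h2 : m * 1 ≤ m * k := Nat.mul_le_mul_left m hk
    have hk1 : k = 1 := by omega
    have hm2 : m = 2 := by omega
    subst hk1 hm2
    rw [pow_one] at hVk
    have hG : FH 1 G := fh_one_of_comm (comm_of_prime hq hVk hGfa)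
    have : Finite f.range := Finite.of_surjective _ f.rangeRestrict_surjective
    have h5 : Nat.card f.range ∣ 2 ^ 1 := hf1
    exact (FH.of_hom f (hf2 1 hG) (fh_one_of_card h5)).succ
  · exact prim_three_two hq hU hn hf hirr hI h3 h

/-! ### composition factors -/

/-- the action on the quotient by an invariant subgroup -/
@[reducible] def quotAct {L U : Type u} [Group L] [AddCommGroup U] [DistribMulAction L U] (Y : AddSubgroup U)
    (hY : ∀ g : L, ∀ y ∈ Y, g • y ∈ Y) : DistribMulAction L (U ⧸ Y) where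
  smul g := QuotientAddGroup.map Y Y (DistribSMul.toAddMonoidHom U g) (fun y hy => hY g y hy)
  one_smul x := by
    obtain ⟨x, rfl⟩ := QuotientAddGroup.mk_surjective x
    exact congrArg _ (one_smul L x)
  mul_smul g h x := by
    obtain ⟨x, rfl⟩ := QuotientAddGroup.mk_surjective x
    exact congrArg _ (mul_smul g h x)
  smul_zero g := map_zero _
  smul_add g x y := map_add _ x y

/-- the action on an invariant subgroup -/
@[reducible] def subAct {L U : Type u} [Group L] [AddCommGroup U] [DistribMulAction L U] (Y : AddSubgroup U)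
    (hY : ∀ g : L, ∀ y ∈ Y, g • y ∈ Y) : DistribMulAction L Y where
  smul g y := ⟨g • (y : U), hY g y y.2⟩
  one_smul x := Subtype.ext (one_smul L (x : U))
  mul_smul g h x := Subtype.ext (mul_smul g h (x : U))
  smul_zero g := Subtype.ext (smul_zero g)
  smul_add g x y := Subtype.ext (smul_add g (x : U) (y : U))

/-- if the group `FH t` holds on all irreducible sections, then it holds modulo the unipotent elements -/
theorem exists_unip {L : Type u} [Group L] {q n t : ℕ} (hq : q.Prime)
    (H : ∀ (Y : Type u) [AddCommGroup Y] [Finite Y] [Nontrivial Y] [DistribMulAction L Y] (k : ℕ),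
      (∀ y : Y, q • y = 0) → Irr L Y → Nat.card Y = q ^ k → k ≤ n → FH t (rng L Y)) (N : ℕ) :
    ∀ (U : Type u) [AddCommGroup U] [Finite U] [DistribMulAction L U] (k : ℕ), (∀ u : U, q • u = 0) →
      Nat.card U = q ^ k → k ≤ n → Nat.card U ≤ N →
      ∃ R : Subgroup L, ∃ _ : R.Normal, FH t (L ⧸ R) ∧ ∀ g ∈ R, ∃ j : ℕ, ∀ u : U, g ^ q ^ j • u = u := by
  induction N with
  | zero =>
    intro U _ _ _ k _ _ _ hN
    have : 0 < Nat.card U := Nat.card_pos
    omega
  | succ N IH =>
    intro U _ _ _ k hU hk hkn hN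
    by_cases hirr : Irr L U
    · rcases subsingleton_or_nontrivial U with hs | hnt
      · refine ⟨⊤, inferInstance, ?_, fun g _ => ⟨0, fun u => hs.elim _ _⟩⟩
        have h1 : Subsingleton (L ⧸ (⊤ : Subgroup L)) := QuotientGroup.subsingleton_quotient_top
        exact FH.of_subsingleton _
      · refine ⟨(pr L U).ker, inferInstance, ?_, ?_⟩
        · exact FH.of_injective (QuotientGroup.kerLift (pr L U)) (QuotientGroup.kerLift_injective _)
            (H U k hU hirr hk hkn)
        · intro g hg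
          refine ⟨0, fun u => ?_⟩
          rw [pow_zero, pow_one]
          have h1 : pr L U g = 1 := hg
          have h2 : pr L U g • u = u := by rw [h1, one_smul]
          exact h2
    · have : ∃ Y : AddSubgroup U, (∀ g : L, ∀ y ∈ Y, g • y ∈ Y) ∧ Y ≠ ⊥ ∧ Y ≠ ⊤ := by
        unfold Irr at hirr
        push Not at hirr
        obtain ⟨Y, h1, h2, h3⟩ := hirr
        exact ⟨Y, h1, h2, h3⟩
      obtain ⟨Y, hY, hY0, hY1⟩ := this
      have hmul : Nat.card U = Nat.card (U ⧸ Y) * Nat.card Y := AddSubgroup.card_eq_card_quotient_mul_card_addSubgroup Y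
      have hYpos : 1 < Nat.card Y := (AddSubgroup.one_lt_card_iff_ne_bot Y).2 hY0
      have hQpos : 1 < Nat.card (U ⧸ Y) := by
        have h1 : Y.index ≠ 1 := fun h => hY1 (AddSubgroup.index_eq_one.1 h)
        have h2 : Y.index ≠ 0 := AddSubgroup.FiniteIndex.index_ne_zero
        have h3 : Nat.card (U ⧸ Y) = Y.index := rfl
        omega
      obtain ⟨k1, hk1, hk1'⟩ := (Nat.dvd_prime_pow hq).1 (show Nat.card Y ∣ q ^ k by rw [← hk]; exact ⟨_, by rw [hmul, mul_comm]⟩)
      obtain ⟨k2, hk2, hk2'⟩ := (Nat.dvd_prime_pow hq).1 (show Nat.card (U ⧸ Y) ∣ q ^ k by rw [← hk]; exact ⟨_, hmul⟩)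
      have hYlt : Nat.card Y ≤ N := by
        have : 2 * Nat.card Y ≤ Nat.card U := by rw [hmul]; exact Nat.mul_le_mul_right _ hQpos
        omega
      have hQlt : Nat.card (U ⧸ Y) ≤ N := by
        have : Nat.card (U ⧸ Y) * 2 ≤ Nat.card U := by rw [hmul]; exact Nat.mul_le_mul_left _ hYpos
        omega
      obtain ⟨R1, hR1, hF1, hJ1⟩ := @IH Y _ _ (subAct Y hY) k1 (fun y => Subtype.ext (hU y)) hk1' (hk1.trans hkn) hYlt
      obtain ⟨R2, hR2, hF2, hJ2⟩ := @IH (U ⧸ Y) _ _ (quotAct Y hY) k2 (fun y => by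
        obtain ⟨x, rfl⟩ := QuotientAddGroup.mk_surjective y
        rw [← QuotientAddGroup.mk_nsmul, hU]
        rfl) hk2' (hk2.trans hkn) hQlt
      refine ⟨R1 ⊓ R2, inferInstance, ?_, ?_⟩
      · refine FH.of_two (QuotientGroup.map (R1 ⊓ R2) R1 (MonoidHom.id L) inf_le_left)
          (QuotientGroup.map (R1 ⊓ R2) R2 (MonoidHom.id L) inf_le_right) ?_ hF1 hF2
        intro x
        obtain ⟨x, rfl⟩ := QuotientGroup.mk_surjective x
        intro h1 h2
        have h1' : (x : L ⧸ R1) = 1 := h1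
        have h2' : (x : L ⧸ R2) = 1 := h2
        rw [QuotientGroup.eq_one_iff] at h1' h2' ⊢
        exact ⟨h1', h2'⟩
      · intro g hg
        obtain ⟨j1, hj1⟩ := hJ1 g hg.1
        obtain ⟨j2, hj2⟩ := hJ2 g hg.2
        refine ⟨j1 + j2 + 1, fun u => ?_⟩
        -- `h = g ^ q ^ (j1 + j2)` acts trivially on `Y` and on `U / Y`
        have e1 : ∀ y ∈ Y, ∀ i : ℕ, (g ^ q ^ j1) ^ i • y = y := by
          intro y hy i
          induction i with
          | zero => rw [pow_zero, one_smul]
          | succ i ih =>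
            rw [pow_succ, mul_smul]
            have h1 : (g ^ q ^ j1) • y = y := congrArg Subtype.val (hj1 ⟨y, hy⟩)
            rw [h1, ih]
        have e2 : ∀ u : U, ∀ i : ℕ, (g ^ q ^ j2) ^ i • u - u ∈ Y := by
          intro u i
          induction i with
          | zero => rw [pow_zero, one_smul, sub_self]; exact Y.zero_mem
          | succ i ih =>
            have h1 : ((g ^ q ^ j2 • u : U) : U ⧸ Y) = (u : U ⧸ Y) := hj2 (u : U ⧸ Y)
            have h2 : g ^ q ^ j2 • u - u ∈ Y := by
              rw [QuotientAddGroup.eq] at h1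
              have := Y.neg_mem h1
              rwa [neg_add_rev, neg_neg, neg_add_eq_sub] at this
            have h3 : (g ^ q ^ j2) ^ (i + 1) • u - u =
                (g ^ q ^ j2) ^ i • (g ^ q ^ j2 • u - u) + ((g ^ q ^ j2) ^ i • u - u) := by
              rw [pow_succ, mul_smul, smul_sub]
              abel
            rw [h3]
            exact Y.add_mem (hY _ _ h2) ih
        set h := g ^ q ^ (j1 + j2) with hh
        have f1 : ∀ y ∈ Y, h • y = y := by
          intro y hy
          have := e1 y hy (q ^ j2)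
          rwa [← pow_mul, ← pow_add] at this
        have f2 : h • u - u ∈ Y := by
          have := e2 u (q ^ j1)
          rwa [← pow_mul, ← pow_add, add_comm j2 j1] at this
        have f3 : ∀ i : ℕ, h ^ i • u = u + i • (h • u - u) := by
          intro i
          induction i with
          | zero => rw [pow_zero, one_smul, zero_smul, add_zero]
          | succ i ih =>
            rw [pow_succ', mul_smul, ih, smul_add, smul_comm h i, f1 _ f2, add_smul, one_smul]
            abel
        have h4 := f3 q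
        rw [hU, add_zero, hh, ← pow_mul, ← pow_succ] at h4
        exact h4

/-- the reduction to irreducible modules -/
theorem reduce {L U : Type u} [Group L] [AddCommGroup U] [Finite U] [DistribMulAction L U] {q n t : ℕ} (hq : q.Prime)
    (hU : ∀ u : U, q • u = 0) (hn : Nat.card U = q ^ n) (hf : ∀ g : L, (∀ u : U, g • u = u) → g = 1)
    (hO : ∀ N : Subgroup L, N.Normal → IsPGroup q N → N = ⊥)
    (H : ∀ (Y : Type u) [AddCommGroup Y] [Finite Y] [Nontrivial Y] [DistribMulAction L Y] (k : ℕ),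
      (∀ y : Y, q • y = 0) → Irr L Y → Nat.card Y = q ^ k → k ≤ n → FH t (rng L Y)) : FH t L := by
  obtain ⟨R, hR, hF, hJ⟩ := exists_unip hq H (Nat.card U) U n hU hn le_rfl le_rfl
  have h1 : R = ⊥ := by
    apply hO R hR
    rintro ⟨g, hg⟩
    obtain ⟨j, hj⟩ := hJ g hg
    exact ⟨j, Subtype.ext (hf _ hj)⟩
  subst h1
  exact hF.congr QuotientGroup.quotientBot

section Final

variable {D X : Type u} [Group D] [Finite D] [AddCommGroup X] [Finite X] [DistribMulAction D X]

theorem rng_facts (L Y : Type u) [Group L] [Finite L] [Group.IsSolvable L] [AddCommGroup Y] [DistribMulAction L Y] :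
    Finite (rng L Y) ∧ Group.IsSolvable (rng L Y) ∧ (∀ g : rng L Y, (∀ v : Y, g • v = v) → g = 1) ∧
      (Irr L Y → Irr (rng L Y) Y) ∧ Nat.card (rng L Y) ∣ Nat.card L := by
  have hfin : Finite (rng L Y) := Finite.of_surjective _ pr_surjective
  refine ⟨hfin, Group.isSolvable_of_surjective pr_surjective, ?_, ?_, ?_⟩
  · intro g hg
    apply Subtype.ext
    apply Equiv.ext
    intro u
    exact hg u
  · intro hirr W hW
    exact hirr W fun g w hw => hW (pr L Y g) w hw
  · exact Subgroup.card_dvd_of_surjective _ pr_surjective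

/-- **FHS (a)**: groups of odd order without nontrivial normal `q`-subgroups. -/
theorem fhs_odd' (hD : Group.IsSolvable D) (hodd : Odd (Nat.card D)) {q n : ℕ} (hq : q.Prime)
    (hX : ∀ x : X, q • x = 0) (hn : Nat.card X = q ^ n) (hf : ∀ g : D, (∀ x : X, g • x = x) → g = 1)
    (hO : ∀ N : Subgroup D, N.Normal → IsPGroup q N → N = ⊥)
    (h : (q = 3 ∧ n ≤ 8) ∨ (q = 5 ∧ n ≤ 4) ∨ n ≤ 2) : FH 2 D := by
  refine reduce hq hX hn hf hO ?_
  intro Y _ _ _ _ k hY hirr hk hkn
  obtain ⟨h1, h2, h3, h4, h5⟩ := rng_facts D Y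
  refine irr_odd (L := rng D Y) (U := Y) hq hY hk h3 (h4 hirr) ?_ ?_
  · exact Odd.of_dvd_nat hodd h5
  · omega

/-- **FHS (b)**: `3'`-groups without nontrivial normal `q`-subgroups. -/
theorem fhs_three (hD : Group.IsSolvable D) (h3 : ¬ 3 ∣ Nat.card D) {q n : ℕ} (hq : q.Prime)
    (hX : ∀ x : X, q • x = 0) (hn : Nat.card X = q ^ n) (hf : ∀ g : D, (∀ x : X, g • x = x) → g = 1)
    (hO : ∀ N : Subgroup D, N.Normal → IsPGroup q N → N = ⊥)
    (h : (q = 2 ∧ n ≤ 12) ∨ n ≤ 2) : FH 3 D := by
  refine reduce hq hX hn hf hO ?_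
  intro Y _ _ _ _ k hY hirr hk hkn
  obtain ⟨h1, h2, h4, h5, h6⟩ := rng_facts D Y
  have h7 : ¬ 3 ∣ Nat.card (rng D Y) := fun h => h3 (h.trans h6)
  rcases h with ⟨rfl, h⟩ | h
  · exact irr_three (L := rng D Y) (U := Y) hY hk h4 (h5 hirr) h7 (by omega)
  · exact irr_three_two (L := rng D Y) (U := Y) hq hY hk h4 (h5 hirr) h7 (by omega)

end Final

end Cfsg.Agent.H273.RC
end
end

-- part: H889/RC/ColB3_mg
section
prune_inst 0xc0001800000000201000059011000200040000900000040014800344020610020500200041800c03082a000000010000024c04b000000000000004000000062990a0000021000004060091801082000000000000000000000000000000041004000000000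
set_option linter.all false
open scoped Cfsg.Agent.FastGrp

-- part: H889/RC/Nil
section
/-!
# Commutators in solvable subgroups of `GL (d, 2)`, `d ≤ 5` (S4191, `ColB 3 2 3`, helper889)
-/

set_option autoImplicit false

namespace Cfsg.Agent.H889.RC

open Cfsg.Agent.H527.RC (FH LP PEl)

universe u v

/-- subgroups of automorphism groups of cyclic groups commute -/
theorem mulAut_comm {F : Type u} [Group F] [IsCyclic F] (a b : MulAut F) : a * b = b * a := by
  apply (IsCyclic.mulAutMulEquiv F).injective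
  rw [map_mul, map_mul, mul_comm]

/-- **Commutators are nilpotent** -/
theorem nilpotent_commutator {X : Type u} [Group X] [Finite X] [Group.IsSolvable X] (L : Subgroup X) (hL : L.Normal)
    (h3 : ¬ 3 ∣ Nat.card L) (hX : Nat.card X ∣ 2 ^ 10 * (3 ^ 2 * 1085))
    (hO : ∀ N : Subgroup X, N.Normal → IsPGroup 2 N → N = ⊥) (y : X) :
    Group.IsNilpotent (⁅L, Subgroup.zpowers y⁆ : Subgroup X) := by
  have hFn : (Cfsg.fittingSubgroup L).Normal := Lib.Cores.fittingSubgroup_normal
  have hFc : (Cfsg.fittingSubgroup L).Characteristic := Lib.Cores.fittingSubgroup_characteristic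
  set F := (Cfsg.fittingSubgroup L).map L.subtype with hF
  have hFG : F.Normal := by
    rw [hF]
    infer_instance
  have hnil : Group.IsNilpotent F := by
    have := Lib.Cores.fittingSubgroup_isNilpotent (G := L)
    exact Group.nilpotent_of_surjective (L.subtype.subgroupMap (Cfsg.fittingSubgroup L))
      (L.subtype.subgroupMap_surjective _)
  have hFL : F ≤ L := by
    rw [hF]
    exact Subgroup.map_subtype_le _
  have h3F : ¬ 3 ∣ Nat.card F := fun h => h3 (h.trans (Subgroup.card_dvd_of_le hFL))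
  have : Fact (Nat.Prime 2) := ⟨Nat.prime_two⟩
  have h2F : ¬ 2 ∣ Nat.card F := by
    intro h
    obtain ⟨Q⟩ : Nonempty (Sylow 2 F) := inferInstance
    have hQn : (Q : Subgroup F).Normal := by
      have h1 := (Group.isNilpotent_of_finite_tfae (G := F)).out 0 3
      exact (h1.1 hnil) 2 inferInstance Q
    have hQc : (Q : Subgroup F).Characteristic := Q.characteristic_of_normal hQn
    have h2 : ((Q : Subgroup F).map F.subtype).Normal := inferInstance
    have h3 := hO _ h2 (Q.2.map _)
    rw [Subgroup.map_eq_bot_iff_of_injective _ F.subtype_injective] at h3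
    exact Q.ne_bot_of_dvd_card h h3
  have hFd : Nat.card F ∣ 1085 := by
    have h1 : Nat.card F ∣ 2 ^ 10 * (3 ^ 2 * 1085) := (Subgroup.card_subgroup_dvd_card F).trans hX
    have h2 : (Nat.card F).Coprime (2 ^ 10) :=
      Nat.Coprime.pow_right _ ((Nat.Prime.coprime_iff_not_dvd Nat.prime_two).2 h2F).symm
    have h4 : (Nat.card F).Coprime (3 ^ 2) :=
      Nat.Coprime.pow_right _ ((Nat.Prime.coprime_iff_not_dvd Nat.prime_three).2 h3F).symm
    exact h4.dvd_of_dvd_mul_left (h2.dvd_of_dvd_mul_left h1)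
  have hsq : Squarefree (Nat.card F) := by
    refine Squarefree.squarefree_of_dvd hFd ?_
    rw [show (1085 : ℕ) = 5 * 7 * 31 from by norm_num]
    rw [Nat.squarefree_mul (by norm_num), Nat.squarefree_mul (by norm_num)]
    exact ⟨⟨(by norm_num : Nat.Prime 5).prime.squarefree, (by norm_num : Nat.Prime 7).prime.squarefree⟩,
      (by norm_num : Nat.Prime 31).prime.squarefree⟩
  have : IsZGroup F := IsZGroup.of_squarefree hsq
  have hcyc : IsCyclic F := inferInstance
  have hcen : commutator X ≤ Subgroup.centralizer (F : Set X) := by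
    have h1 : commutator X ≤ (MulAut.conjNormal (H := F) : X →* MulAut F).ker := by
      rw [commutator_def, Subgroup.commutator_le]
      intro a _ b _
      rw [MonoidHom.mem_ker, map_commutatorElement, commutatorElement_eq_one_iff_mul_comm]
      exact mulAut_comm _ _
    intro x hx
    rw [Subgroup.mem_centralizer_iff]
    intro f hf
    have h2 : (MulAut.conjNormal (H := F) : X →* MulAut F) x = 1 := h1 hx
    have h3 := congrArg (fun φ : MulAut F => ((φ ⟨f, hf⟩ : F) : X)) h2
    simp only [MulAut.conjNormal_apply, MulAut.one_apply] at h3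
    calc f * x = (x * f * x⁻¹) * x := by rw [h3]
      _ = x * f := by group
  have hle : ⁅L, Subgroup.zpowers y⁆ ≤ F := by
    intro x hx
    have hxL : x ∈ L := Subgroup.commutator_le_left _ _ hx
    have hxC : x ∈ Subgroup.centralizer (F : Set X) := by
      apply hcen
      rw [commutator_def]
      exact Subgroup.commutator_mono le_top le_top hx
    have h5 : (⟨x, hxL⟩ : L) ∈ Subgroup.centralizer ((Cfsg.fittingSubgroup L : Subgroup L) : Set L) := by
      rw [Subgroup.mem_centralizer_iff]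
      intro f hf
      apply Subtype.ext
      rw [Subgroup.mem_centralizer_iff] at hxC
      exact hxC f ⟨f, hf, rfl⟩
    have h6 := S0044.result h5
    exact ⟨_, h6, rfl⟩
  have hFC : FH 1 F := Cfsg.Agent.H527.RC.FH.one_iff.2 hnil
  exact Cfsg.Agent.H527.RC.FH.one_iff.1 (Cfsg.Agent.H527.RC.FH.of_le hle hFC)

end Cfsg.Agent.H889.RC
end

-- part: H889/RC/Small
section
/-!
# Primitive solvable groups of small degree (S4191, `ColB 3 2 3`, helper889)
-/

set_option autoImplicit false

namespace Cfsg.Agent.H889.RC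

open MulAction
open Cfsg.Agent.H527.RC (FH LP PEl)

universe u v

/-- commutative groups are nilpotent -/
theorem nil_of_comm {G : Type u} [hG : Group G] (h : ∀ a b : G, a * b = b * a) : Group.IsNilpotent G := by
  let _ : CommGroup G := { hG with mul_comm := h }
  exact CommGroup.isNilpotent

/-- a self-centralizing abelian normal subgroup with nilpotent image -/
theorem fh_two {H : Type u} [Group H] [Finite H] (M : Subgroup H) [hMn : M.Normal] (hMc : IsMulCommutative M)
    (hcen : Subgroup.centralizer (M : Set H) ≤ M) (K : Subgroup H)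
    (hK : Group.IsNilpotent (K.map (MulAut.conjNormal (H := M)))) : FH 2 K := by
  set φ : H →* MulAut M := MulAut.conjNormal with hφ
  have hker : φ.ker ≤ M := by
    intro x hx
    apply hcen
    rw [Subgroup.mem_centralizer_iff]
    intro f hf
    have h2 : φ x = 1 := hx
    have h3 := congrArg (fun φ : MulAut M => ((φ ⟨f, hf⟩ : M) : H)) h2
    simp only [hφ, MulAut.conjNormal_apply, MulAut.one_apply] at h3
    calc f * x = (x * f * x⁻¹) * x := by rw [h3]
      _ = x * f := by group
  have h1 : FH 1 (φ.comp K.subtype).ker := by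
    rw [Cfsg.Agent.H527.RC.FH.one_iff]
    · refine nil_of_comm (fun a b => ?_)
      have ha : ((a : K) : H) ∈ M := hker a.2
      have hb : ((b : K) : H) ∈ M := hker b.2
      have h3 : (⟨((a : K) : H), ha⟩ : M) * ⟨((b : K) : H), hb⟩ = ⟨((b : K) : H), hb⟩ * ⟨((a : K) : H), ha⟩ :=
        mul_comm' _ _
      exact Subtype.ext (Subtype.ext (congrArg (fun x : M => (x : H)) h3))
  have h2 : FH 1 (φ.comp K.subtype).range := by
    rw [Cfsg.Agent.H527.RC.FH.one_iff, MonoidHom.range_comp, Subgroup.range_subtype]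
    exact hK
  exact Cfsg.Agent.H527.RC.FH.of_hom _ h1 h2

/-- order of the automorphism group -/
theorem card_mulAut {M : Type u} [Group M] [Finite M] (hMc : IsMulCommutative M) (h2 : ∀ x : M, x ^ 2 = 1)
    (d : ℕ) (hd : d ≤ 5) (hM : Nat.card M = 2 ^ d) : Nat.card (MulAut M) ∣ 2 ^ 10 * (3 ^ 2 * 1085) := by
  let _ : CommGroup M := { (inferInstance : Group M) with mul_comm := fun a b => mul_comm' a b }
  have : Fact (Nat.Prime 2) := ⟨Nat.prime_two⟩
  obtain ⟨e⟩ := Lib.ElemAbGL.mulAut_equiv_GL (V := M) 2 d h2 hM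
  have h1 : Nat.card (MulAut M) = Nat.card (GL (Fin d) (ZMod 2)) := Nat.card_congr e.toEquiv
  rw [h1, Matrix.card_GL_field, ZMod.card]
  interval_cases d <;> simp only [Fin.prod_univ_succ, _root_.Finset.univ_eq_empty, _root_.pow_zero, _root_.Finset.prod_empty, _root_.Nat.reducePow, _root_.Nat.reduceMul, _root_.isUnit_iff_eq_one, _root_.IsUnit.dvd, _root_.Finset.univ_unique, _root_.Fin.default_eq_zero, _root_.Fin.isValue, _root_.pow_one, _root_.Fin.val_eq_zero, _root_.Nat.add_one_sub_one, _root_.Finset.prod_const_one, _root_.Fin.prod_univ_succ, _root_.Fin.coe_ofNat_eq_mod, _root_.Nat.zero_mod, _root_.Fin.val_succ, _root_.zero_add, _root_.Nat.reduceSub, _root_.Finset.prod_const, _root_.Finset.card_singleton, _root_.Nat.reduceDvd, _root_.Nat.reduceAdd, _root_.dvd_refl]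

/-- the case of degree `2 ^ d`, `d ≤ 5` -/
theorem fh_two_of_two {H : Type u} [Group H] [Finite H] [hs : Group.IsSolvable H] (M : Subgroup H) [hMn : M.Normal] (hM : M ≠ ⊥)
    (hmin : ∀ K : Subgroup H, K.Normal → K ≤ M → K = ⊥ ∨ K = M) (L : Subgroup H) (hL : LP 3 L) (y : H)
    (hcen : Subgroup.centralizer (M : Set H) ≤ M) (d : ℕ) (hd0 : d ≠ 0) (hd : d ≤ 5) (hMd : Nat.card M = 2 ^ d) :
    FH 2 (⁅L, Subgroup.zpowers y⁆ : Subgroup H) := by
  have hMc := (S0043.result M hM hmin).1
  have : Fact (Nat.Prime 2) := ⟨Nat.prime_two⟩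
  have hM2 : IsPGroup 2 M := IsPGroup.of_card hMd
  have hpow : ∀ x : M, x ^ 2 = 1 := by
    obtain ⟨-, p, hp, hpM⟩ := S0043.result M hM hmin
    have hp2 : p = 2 := by
      by_contra hne
      apply hM
      rw [eq_bot_iff]
      intro x hx
      rw [Subgroup.mem_bot]
      obtain ⟨k, hk⟩ := hM2 ⟨x, hx⟩
      have h1 : orderOf x ∣ 2 ^ k := orderOf_dvd_of_pow_eq_one (congrArg Subtype.val hk)
      have h2 : orderOf x ∣ p := orderOf_dvd_of_pow_eq_one (hpM x hx)
      have h3 : Nat.Coprime p (2 ^ k) := Nat.Coprime.pow_right _ ((Nat.coprime_primes hp Nat.prime_two).2 hne)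
      rw [← orderOf_eq_one_iff]
      exact Nat.eq_one_of_dvd_coprimes h3 h2 h1
    subst hp2
    intro x
    exact Subtype.ext (hpM x.1 x.2)
  set φ : H →* MulAut M := MulAut.conjNormal with hφ
  refine fh_two M hMc hcen _ ?_
  rw [← hφ]
  set ψ : H →* φ.range := φ.rangeRestrict with hψ
  have hψs : Function.Surjective ψ := φ.rangeRestrict_surjective
  have hLn : (L.map ψ).Normal := hL.normal.map ψ hψs
  have h3 : ¬ 3 ∣ Nat.card (L.map ψ) := fun h => hL.cop (h.trans (Subgroup.card_map_dvd L ψ))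
  have hX : Nat.card φ.range ∣ 2 ^ 10 * (3 ^ 2 * 1085) :=
    (Subgroup.card_subgroup_dvd_card _).trans (card_mulAut hMc hpow d hd hMd)
  have hXs : Group.IsSolvable φ.range := Group.isSolvable_of_surjective hψs
  have hO : ∀ N : Subgroup φ.range, N.Normal → IsPGroup 2 N → N = ⊥ := by
    intro N hN hN2
    -- the fixed points of `N`
    let C : Subgroup H :=
      { carrier := {m | ∃ hm : m ∈ M, ∀ a ∈ N, (a : MulAut M) ⟨m, hm⟩ = ⟨m, hm⟩}
        one_mem' := ⟨M.one_mem, fun a _ => map_one (a : MulAut M)⟩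
        mul_mem' := by
          rintro x z ⟨hx, hx'⟩ ⟨hz, hz'⟩
          refine ⟨M.mul_mem hx hz, fun a ha => ?_⟩
          have h1 : (⟨x * z, M.mul_mem hx hz⟩ : M) = ⟨x, hx⟩ * ⟨z, hz⟩ := rfl
          rw [h1, map_mul, hx' a ha, hz' a ha]
        inv_mem' := by
          rintro x ⟨hx, hx'⟩
          refine ⟨M.inv_mem hx, fun a ha => ?_⟩
          have h1 : (⟨x⁻¹, M.inv_mem hx⟩ : M) = (⟨x, hx⟩ : M)⁻¹ := rfl
          rw [h1, map_inv, hx' a ha] }
    have hCM : C ≤ M := fun m hm => hm.1
    have hCn : C.Normal := by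
      refine ⟨fun m hm g => ?_⟩
      obtain ⟨hm, hm'⟩ := hm
      refine ⟨hMn.conj_mem m hm g, fun a ha => ?_⟩
      have h1 : (⟨g * m * g⁻¹, hMn.conj_mem m hm g⟩ : M) = φ g ⟨m, hm⟩ := by
        apply Subtype.ext
        rw [hφ, MulAut.conjNormal_apply]
      have h2 : (ψ g)⁻¹ * a * ψ g ∈ N := by
        have := hN.conj_mem a ha (ψ g)⁻¹
        rwa [inv_inv] at this
      have h3 := hm' _ h2
      have h4 : (((ψ g)⁻¹ * a * ψ g : φ.range) : MulAut M) = (φ g)⁻¹ * (a : MulAut M) * φ g := rfl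
      rw [h4, MulAut.mul_apply, MulAut.mul_apply, MulAut.inv_apply, MulEquiv.symm_apply_eq] at h3
      rw [h1]
      exact h3
    have hC1 : C ≠ ⊥ := by
      intro hC
      let _ : MulAction N M :=
        { smul := fun a m => ((a : φ.range) : MulAut M) m
          one_smul := fun m => rfl
          mul_smul := fun a b m => rfl }
      have h5 := hN2.card_modEq_card_fixedPoints M
      have h6 : Nat.card (fixedPoints N M) = 1 := by
        rw [Nat.card_eq_one_iff_unique]
        refine ⟨⟨?_⟩, ⟨⟨1, fun a => map_one ((a : φ.range) : MulAut M)⟩⟩⟩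
        have h7 : ∀ m : fixedPoints N M, (m : M) = 1 := by
          intro m
          have h8 : ((m : M) : H) ∈ C := ⟨(m : M).2, fun a ha => m.2 ⟨a, ha⟩⟩
          rw [hC, Subgroup.mem_bot] at h8
          exact Subtype.ext h8
        intro a b
        apply Subtype.ext
        rw [h7 a, h7 b]
      rw [h6, hMd] at h5
      have h7 : 2 ∣ 2 ^ d := dvd_pow_self 2 hd0
      have h8 : 2 ^ d % 2 = 1 % 2 := h5
      omega
    have hCM' : C = M := (hmin C hCn hCM).resolve_left hC1
    rw [eq_bot_iff]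
    intro a ha
    rw [Subgroup.mem_bot]
    apply Subtype.ext
    apply MulEquiv.ext
    intro m
    have h9 : (m : H) ∈ C := by
      rw [hCM']
      exact m.2
    exact h9.2 a ha
  have h4 := nilpotent_commutator (L.map ψ) hLn h3 hX hO (ψ y)
  have h5 : (⁅L, Subgroup.zpowers y⁆ : Subgroup H).map ψ = ⁅L.map ψ, Subgroup.zpowers (ψ y)⁆ := by
    rw [Subgroup.map_commutator, MonoidHom.map_zpowers]
  rw [← h5] at h4
  have h6 : (⁅L, Subgroup.zpowers y⁆ : Subgroup H).map φ =
      ((⁅L, Subgroup.zpowers y⁆ : Subgroup H).map ψ).map φ.range.subtype := by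
    rw [Subgroup.map_map]
    rfl
  rw [h6]
  exact Group.nilpotent_of_surjective (φ.range.subtype.subgroupMap _) (φ.range.subtype.subgroupMap_surjective _)

/-- the case of prime degree -/
theorem fh_two_of_prime {H : Type u} [Group H] [Finite H] (M : Subgroup H) [hMn : M.Normal]
    (L : Subgroup H) (y : H)
    (hcen : Subgroup.centralizer (M : Set H) ≤ M) (hMd : (Nat.card M).Prime) :
    FH 2 (⁅L, Subgroup.zpowers y⁆ : Subgroup H) := by
  have : Fact (Nat.card M).Prime := ⟨hMd⟩
  have hcyc : IsCyclic M := isCyclic_of_prime_card rfl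
  have hMc : IsMulCommutative M := hcyc.isMulCommutative
  refine fh_two M hMc hcen _ ?_
  refine nil_of_comm (fun a b => ?_)
  exact Subtype.ext (mulAut_comm _ _)

end Cfsg.Agent.H889.RC
end

-- part: H889/RC/Count
section
/-!
# Rigid subsets by counting (S4191, `ColB 3 2 3`, helper889)
-/

set_option autoImplicit false

namespace Cfsg.Agent.H889.RC

open MulAction
open Cfsg.Agent.H527.RC (Rig PEl)

universe u v

/-! ### Arithmetic -/

theorem sixteen_choose : ∀ n : ℕ, 5 ≤ n → ∀ k : ℕ, 16 * n.choose k ≤ 5 * 2 ^ n := by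
  intro n hn
  induction n, hn using Nat.le_induction with
  | base =>
    intro k
    have h1 : Nat.choose 5 k ≤ Nat.choose 5 2 := Nat.choose_le_middle k 5
    have h2 : Nat.choose 5 2 = 10 := by decide
    omega
  | succ n hn IH =>
    intro k
    cases k with
    | zero =>
      have h0 := IH 0
      rw [Nat.choose_zero_right] at h0 ⊢
      rw [pow_succ]
      omega
    | succ k =>
      rw [Nat.choose_succ_succ, pow_succ]
      have h1 := IH k
      have h2 := IH (k + 1)
      rw [Nat.succ_eq_add_one]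
      omega

theorem pow_four_le : ∀ n : ℕ, 49 ≤ n → n ^ 4 * 2 ^ (n / 2) ≤ 2 ^ (n - 2) := by
  intro n
  induction n using Nat.strong_induction_on with
  | _ n IH =>
    intro hn
    rcases Nat.lt_or_ge n 51 with h | h
    · have : n = 49 ∨ n = 50 := by omega
      rcases this with rfl | rfl <;> norm_num
    · obtain ⟨m, rfl⟩ : ∃ m, n = m + 2 := ⟨n - 2, by omega⟩
      have h1 := IH m (by omega) (by omega)
      have h2 : (m + 2) / 2 = m / 2 + 1 := by omega
      have h3 : m + 2 - 2 = (m - 2) + 2 := by omega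
      rw [h2, h3, pow_succ, pow_add 2 (m - 2) 2]
      have h4 : (m + 2) ^ 4 ≤ 2 * m ^ 4 := by
        have h5 : 49 ≤ m := by omega
        have h6 : (m + 2) * (m + 2) * 25 ≤ 28 * (m * m) := by nlinarith only [h]
        have h7 : ((m + 2) * (m + 2) * 25) * ((m + 2) * (m + 2) * 25) ≤ (28 * (m * m)) * (28 * (m * m)) :=
          Nat.mul_le_mul h6 h6
        have h8 : (m + 2) ^ 4 * 625 ≤ 784 * m ^ 4 := by
          calc (m + 2) ^ 4 * 625 = ((m + 2) * (m + 2) * 25) * ((m + 2) * (m + 2) * 25) := by ring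
            _ ≤ (28 * (m * m)) * (28 * (m * m)) := h7
            _ = 784 * m ^ 4 := by ring
        omega
      calc (m + 2) ^ 4 * (2 ^ (m / 2) * 2) ≤ (2 * m ^ 4) * (2 ^ (m / 2) * 2) := Nat.mul_le_mul_right _ h4
        _ = (m ^ 4 * 2 ^ (m / 2)) * 4 := by ring
        _ ≤ 2 ^ (m - 2) * 4 := Nat.mul_le_mul_right _ h1
        _ = 2 ^ (m - 2) * 2 ^ 2 := by norm_num

/-- the numerical inequality for `n ≥ 49` -/
theorem big_ineq (n B E : ℕ) (hn : 49 ≤ n) (hB : B ≤ n ^ 4) (hE : E ≤ n / 2) :
    B * 2 ^ E + 2 * n.choose (n / 2) < 2 ^ n := by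
  have h1 := pow_four_le n hn
  have h2 := sixteen_choose n (by omega) (n / 2)
  have h3 : B * 2 ^ E ≤ n ^ 4 * 2 ^ (n / 2) := Nat.mul_le_mul hB (Nat.pow_le_pow_right (by norm_num) hE)
  have h4 : 2 ^ n = 2 ^ (n - 2) * 4 := by
    rw [← pow_succ_two_aux n (by omega)]
  have h5 : 0 < 2 ^ (n - 2) := Nat.pow_pos (by norm_num)
  omega
where
  pow_succ_two_aux (n : ℕ) (h : 2 ≤ n) : 2 ^ n = 2 ^ (n - 2) * 4 := by
    obtain ⟨m, rfl⟩ : ∃ m, n = m + 2 := ⟨n - 2, by omega⟩
    rw [Nat.add_sub_cancel, pow_add]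
    norm_num

/-- the numerical inequality for `n = 25` -/
theorem ineq_25 (B : ℕ) (hB : B ≤ 25 * 24 * 23) : B * 2 ^ 9 + 2 * Nat.choose 25 (25 / 2) < 2 ^ 25 := by
  have h : Nat.choose 25 (25 / 2) = 5200300 := by norm_num [Nat.choose]
  rw [h]
  norm_num
  omega

/-! ### Counting -/

/-- a set not preserved by elements of order three -/
theorem rig_of {H : Type u} {Δ : Type v} [Group H] [MulAction H Δ] (Γ : Set Δ)
    (h : ∀ z : H, z ≠ 1 → z ^ 3 = 1 → ¬ ∀ δ, z • δ ∈ Γ ↔ δ ∈ Γ) : Rig 3 H (fun δ => δ ∈ Γ) := by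
  intro y hy hyΓ δ
  by_cases hy1 : y = 1
  · rw [hy1, one_smul]
  exfalso
  obtain ⟨k, hk⟩ := hy
  have hdvd : orderOf y ∣ 3 ^ k := orderOf_dvd_of_pow_eq_one hk
  obtain ⟨j, hj, hjo⟩ := (Nat.dvd_prime_pow Nat.prime_three).1 hdvd
  have hj0 : j ≠ 0 := by
    rintro rfl
    rw [pow_zero, orderOf_eq_one_iff] at hjo
    exact hy1 hjo
  obtain ⟨i, rfl⟩ := Nat.exists_eq_succ_of_ne_zero hj0
  have hpow : ∀ m : ℕ, ∀ δ, y ^ m • δ ∈ Γ ↔ δ ∈ Γ := by
    intro m
    induction m with
    | zero => intro δ; rw [pow_zero, one_smul]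
    | succ m IH =>
      intro δ
      rw [pow_succ, mul_smul, IH]
      exact iff_of_eq (hyΓ δ)
  refine h (y ^ 3 ^ i) ?_ ?_ (hpow _)
  · intro h1
    have h2 := orderOf_dvd_of_pow_eq_one h1
    rw [hjo] at h2
    have h3 := (Nat.pow_dvd_pow_iff_le_right (by norm_num : 1 < 3)).1 h2
    omega
  · rw [← pow_mul, ← pow_succ]
    rw [← hjo]
    exact pow_orderOf_eq_one y

/-- the number of subsets preserved by `z` -/
theorem card_inv_le {H : Type u} {Δ : Type v} [Group H] [MulAction H Δ] [Finite Δ] (z : H) :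
    Nat.card {Γ : Set Δ // ∀ δ, z • δ ∈ Γ ↔ δ ∈ Γ} ≤ 2 ^ Nat.card (orbitRel.Quotient (Subgroup.zpowers z) Δ) := by
  classical
  have := Fintype.ofFinite Δ
  have : Finite (orbitRel.Quotient (Subgroup.zpowers z) Δ) := Quotient.finite _
  have hset : Nat.card (Set (orbitRel.Quotient (Subgroup.zpowers z) Δ)) =
      2 ^ Nat.card (orbitRel.Quotient (Subgroup.zpowers z) Δ) := by
    have := Fintype.ofFinite (orbitRel.Quotient (Subgroup.zpowers z) Δ)
    rw [Nat.card_eq_fintype_card, Nat.card_eq_fintype_card, Fintype.card_set]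
  rw [← hset]
  let q : Δ → orbitRel.Quotient (Subgroup.zpowers z) Δ := Quotient.mk _
  refine Nat.card_le_card_of_injective
    (fun Γ : {Γ : Set Δ // ∀ δ, z • δ ∈ Γ ↔ δ ∈ Γ} => q '' Γ.1) ?_
  have hz : ∀ Γ : {Γ : Set Δ // ∀ δ, z • δ ∈ Γ ↔ δ ∈ Γ}, ∀ g ∈ Subgroup.zpowers z, ∀ δ,
      g • δ ∈ Γ.1 ↔ δ ∈ Γ.1 := by
    intro Γ g hg
    obtain ⟨i, rfl⟩ := (Subgroup.mem_zpowers_iff).1 hg
    have hpos : ∀ m : ℕ, ∀ δ, z ^ m • δ ∈ Γ.1 ↔ δ ∈ Γ.1 := by
      intro m
      induction m with
      | zero => intro δ; rw [pow_zero, one_smul]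
      | succ m IH =>
        intro δ
        rw [pow_succ, mul_smul, IH]
        exact Γ.2 δ
    intro δ
    cases i with
    | ofNat m =>
      have := hpos m δ
      rwa [← zpow_natCast] at this
    | negSucc m =>
      have := hpos (m + 1) (z ^ (Int.negSucc m) • δ)
      rw [← this, zpow_negSucc, smul_inv_smul]
  have key : ∀ Γ : {Γ : Set Δ // ∀ δ, z • δ ∈ Γ ↔ δ ∈ Γ}, q ⁻¹' (q '' Γ.1) = Γ.1 := by
    intro Γ
    ext δ
    constructor
    · rintro ⟨ε, hε, hq⟩
      have h1 : (orbitRel (Subgroup.zpowers z) Δ) ε δ := Quotient.exact hq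
      rw [orbitRel_apply] at h1
      obtain ⟨g, hg⟩ := h1
      have h2 := hz Γ g.1 g.2 δ
      rw [← h2]
      have h3 : g.1 • δ = ε := hg
      rw [h3]
      exact hε
    · intro h
      exact ⟨δ, h, rfl⟩
  intro Γ₁ Γ₂ h
  apply Subtype.ext
  rw [← key Γ₁, ← key Γ₂]
  exact congrArg (fun s => q ⁻¹' s) h

/-- **Counting**: three rigid subsets of different sizes. -/
theorem exists_three {H : Type u} {Δ : Type v} [Group H] [Finite H] [MulAction H Δ] [Finite Δ] (E : ℕ)
    (hE : ∀ z : H, z ≠ 1 → z ^ 3 = 1 → Nat.card (orbitRel.Quotient (Subgroup.zpowers z) Δ) ≤ E)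
    (hn : Nat.card H * 2 ^ E + 2 * (Nat.card Δ).choose (Nat.card Δ / 2) < 2 ^ Nat.card Δ) :
    ∃ Γ : Fin 3 → Set Δ, (∀ i, Rig 3 H (fun δ => δ ∈ Γ i)) ∧ ∀ i j, (Γ i).ncard = (Γ j).ncard → i = j := by
  classical
  have := Fintype.ofFinite Δ
  have := Fintype.ofFinite H
  set P : Finset Δ → Prop := fun Γ => ∀ z : H, z ≠ 1 → z ^ 3 = 1 → ¬ ∀ δ, z • δ ∈ Γ ↔ δ ∈ Γ with hP
  set good : Finset (Finset Δ) := Finset.univ.filter P with hgood
  set bad : Finset (Finset Δ) := Finset.univ.filter (fun Γ => ¬ P Γ) with hbad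
  have h1 : good.card + bad.card = 2 ^ Nat.card Δ := by
    rw [hgood, hbad, Finset.card_filter_add_card_filter_not, Finset.card_univ, Fintype.card_finset,
      Nat.card_eq_fintype_card]
  have h2 : bad.card ≤ Nat.card H * 2 ^ E := by
    have h3 : bad ⊆ (Finset.univ.filter (fun z : H => z ≠ 1 ∧ z ^ 3 = 1)).biUnion
        (fun z => Finset.univ.filter (fun Γ : Finset Δ => ∀ δ, z • δ ∈ Γ ↔ δ ∈ Γ)) := by
      intro Γ hΓ
      rw [hbad, Finset.mem_filter] at hΓ
      have h4 := hΓ.2
      rw [hP] at h4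
      obtain ⟨z, hz1, hz3, hz⟩ : ∃ z : H, z ≠ 1 ∧ z ^ 3 = 1 ∧ ∀ δ, z • δ ∈ Γ ↔ δ ∈ Γ := by
        by_contra hcon
        refine h4 (fun z hz1 hz3 hz => hcon ⟨z, hz1, hz3, hz⟩)
      rw [Finset.mem_biUnion]
      exact ⟨z, Finset.mem_filter.2 ⟨Finset.mem_univ _, hz1, hz3⟩, Finset.mem_filter.2 ⟨Finset.mem_univ _, hz⟩⟩
    refine (Finset.card_le_card h3).trans ?_
    refine (Finset.card_biUnion_le_card_mul _ _ (2 ^ E) ?_).trans ?_
    · intro z hz
      rw [Finset.mem_filter] at hz
      have h5 := card_inv_le (Δ := Δ) z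
      have h6 := hE z hz.2.1 hz.2.2
      have h7 : (Finset.univ.filter (fun Γ : Finset Δ => ∀ δ, z • δ ∈ Γ ↔ δ ∈ Γ)).card =
          Nat.card {Γ : Finset Δ // ∀ δ, z • δ ∈ Γ ↔ δ ∈ Γ} := by
        rw [Nat.card_eq_fintype_card, Fintype.card_subtype]
      rw [h7]
      refine le_trans ?_ (h5.trans (Nat.pow_le_pow_right (by norm_num) h6))
      refine Nat.card_le_card_of_injective
        (fun Γ : {Γ : Finset Δ // ∀ δ, z • δ ∈ Γ ↔ δ ∈ Γ} =>
          (⟨(Γ.1 : Set Δ), fun δ => by
            rw [Finset.mem_coe, Finset.mem_coe]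
            exact Γ.2 δ⟩ : {Γ : Set Δ // ∀ δ, z • δ ∈ Γ ↔ δ ∈ Γ})) ?_
      intro Γ₁ Γ₂ h
      apply Subtype.ext
      exact Finset.coe_injective (congrArg Subtype.val h)
    · refine Nat.mul_le_mul_right _ ?_
      rw [Nat.card_eq_fintype_card, ← Finset.card_univ]
      exact Finset.card_le_card (Finset.filter_subset _ _)
  have h3 : 2 * (Nat.card Δ).choose (Nat.card Δ / 2) < good.card := by omega
  have h4 : good.card ≤ (Nat.card Δ).choose (Nat.card Δ / 2) * (good.image Finset.card).card := by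
    refine Finset.card_le_mul_card_image (f := Finset.card) good _ ?_
    intro k _
    have h5 : (good.filter (fun Γ => Γ.card = k)).card ≤ (Finset.powersetCard k (Finset.univ : Finset Δ)).card := by
      refine Finset.card_le_card ?_
      intro Γ hΓ
      rw [Finset.mem_filter] at hΓ
      rw [Finset.mem_powersetCard]
      exact ⟨Finset.subset_univ _, hΓ.2⟩
    rw [Finset.card_powersetCard, Finset.card_univ] at h5
    refine h5.trans ?_
    rw [Nat.card_eq_fintype_card]
    exact Nat.choose_le_middle k _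
  have h5 : 2 < (good.image Finset.card).card := by
    by_contra hcon
    have h6 : (good.image Finset.card).card ≤ 2 := not_lt.1 hcon
    have h7 := Nat.mul_le_mul_left ((Nat.card Δ).choose (Nat.card Δ / 2)) h6
    omega
  obtain ⟨a, ha, b, hb, c, hc, hab, hac, hbc⟩ := Finset.two_lt_card.1 h5
  rw [Finset.mem_image] at ha hb hc
  obtain ⟨A, hA, rfl⟩ := ha
  obtain ⟨B, hB, rfl⟩ := hb
  obtain ⟨C, hC, rfl⟩ := hc
  have hrig : ∀ Γ ∈ good, Rig 3 H (fun δ => δ ∈ ((Γ : Finset Δ) : Set Δ)) := by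
    intro Γ hΓ
    rw [hgood, Finset.mem_filter] at hΓ
    refine rig_of _ ?_
    intro z hz1 hz3 h
    refine hΓ.2 z hz1 hz3 ?_
    intro δ
    have := h δ
    rwa [Finset.mem_coe, Finset.mem_coe] at this
  refine ⟨![(A : Set Δ), (B : Set Δ), (C : Set Δ)], ?_, ?_⟩
  · intro i
    fin_cases i
    · exact hrig A hA
    · exact hrig B hB
    · exact hrig C hC
  · intro i j
    (revert i j; simp only [Set.ncard_coe_finset, hab, hac, hbc, hab.symm, hac.symm, hbc.symm, _root_.Fin.forall_fin_succ, Fin.isValue, _root_.Matrix.cons_val_zero, _root_.Matrix.cons_val_succ, _root_.Fin.succ_zero_eq_one, _root_.Matrix.cons_val_fin_one, _root_.Fin.succ_one_eq_two, _root_.IsEmpty.forall_iff, _root_.and_true, _root_.imp_self, _root_.zero_ne_one, Fin.reduceEq, _root_.and_self, _root_.Fin.succ_ne_zero, _root_.imp_false, _root_.not_false_eq_true, _root_.forall_const, _root_.true_and])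

end Cfsg.Agent.H889.RC
end

-- part: H889/RC/Orb
section
/-!
# Orbits of elements of order three (S4191, `ColB 3 2 3`, helper889)
-/

set_option autoImplicit false

namespace Cfsg.Agent.H889.RC

open MulAction

universe u v

/-- orbits of a group of order three -/
theorem card_orbits {C : Type u} {Δ : Type v} [Group C] [MulAction C Δ] [Finite Δ] (hC : Nat.card C = 3) :
    Nat.card (orbitRel.Quotient C Δ) * 3 = Nat.card Δ + 2 * Nat.card (fixedPoints C Δ) := by
  classical
  have : Finite C := Nat.finite_of_card_ne_zero (by rw [hC]; norm_num)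
  have := Fintype.ofFinite C
  have := Fintype.ofFinite Δ
  have : Finite (orbitRel.Quotient C Δ) := Quotient.finite _
  have := Fintype.ofFinite (orbitRel.Quotient C Δ)
  have h1 := sum_card_fixedBy_eq_card_orbits_mul_card_group C Δ
  rw [← Nat.card_eq_fintype_card (α := C), hC] at h1
  rw [Nat.card_eq_fintype_card (α := orbitRel.Quotient C Δ)]
  have h1' : Fintype.card (orbitRel.Quotient C Δ) * 3 = ∑ a : C, Fintype.card (fixedBy Δ a) := by
    rw [h1]
  rw [h1', ← Finset.add_sum_erase _ _ (Finset.mem_univ (1 : C))]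
  have h2 : Fintype.card (fixedBy Δ (1 : C)) = Nat.card Δ := by
    rw [← Nat.card_eq_fintype_card, fixedBy_one_eq_univ, Nat.card_coe_set_eq, Set.ncard_univ]
  have h3 : ∀ a ∈ Finset.univ.erase (1 : C), Fintype.card (fixedBy Δ a) = Nat.card (fixedPoints C Δ) := by
    intro a ha
    rw [Finset.mem_erase] at ha
    rw [← Nat.card_eq_fintype_card]
    have : Fact (Nat.Prime 3) := ⟨Nat.prime_three⟩
    have h4 : Subgroup.zpowers a = ⊤ := zpowers_eq_top_of_prime_card hC ha.1
    have h5 : fixedBy Δ a = fixedPoints C Δ := by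
      ext δ
      constructor
      · intro h c
        have h6 : Subgroup.zpowers a ≤ stabilizer C δ := by
          rw [Subgroup.zpowers_le]
          exact h
        rw [h4] at h6
        exact h6 (Subgroup.mem_top c)
      · intro h
        exact h a
    rw [h5]
  rw [h2, Finset.sum_congr rfl h3, Finset.sum_const, Finset.card_erase_of_mem (Finset.mem_univ _),
    Finset.card_univ, ← Nat.card_eq_fintype_card, hC, smul_eq_mul]

/-- orbits of an element of order three in a group with a regular normal subgroup -/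
theorem orbits_aux {H : Type u} {Δ : Type v} [Group H] [Finite H] [MulAction H Δ] [FaithfulSMul H Δ] [Finite Δ]
    (M : Subgroup H) [hMn : M.Normal] (h3 : ¬ 3 ∣ Nat.card Δ) (htr : IsPretransitive M Δ)
    (hst : ∀ ω : Δ, stabilizer M ω = ⊥) (z : H) (hz : z ≠ 1) (hz3 : z ^ 3 = 1) :
    ∃ f c : ℕ, Nat.card Δ = f * c ∧ c % 3 = 1 ∧ c ≠ 1 ∧
      Nat.card (orbitRel.Quotient (Subgroup.zpowers z) Δ) * 3 = Nat.card Δ + 2 * f := by
  have : Fact (Nat.Prime 3) := ⟨Nat.prime_three⟩
  have hoz : orderOf z = 3 := orderOf_eq_prime hz3 hz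
  have hC : Nat.card (Subgroup.zpowers z) = 3 := by rw [Nat.card_zpowers, hoz]
  have h1 := card_orbits (Δ := Δ) hC
  have hp : IsPGroup 3 (Subgroup.zpowers z) := IsPGroup.of_card (n := 1) (by rw [hC, pow_one])
  have h2 := hp.card_modEq_card_fixedPoints Δ
  have h0 : Nat.card (fixedPoints (Subgroup.zpowers z) Δ) ≠ 0 := by
    intro h0
    rw [h0] at h2
    exact h3 ((Nat.modEq_zero_iff_dvd).1 h2)
  have hne : Nonempty (fixedPoints (Subgroup.zpowers z) Δ) := (Nat.card_pos_iff.1 (Nat.pos_of_ne_zero h0)).1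
  obtain ⟨⟨ω, hω⟩⟩ := hne
  have hzω : z • ω = ω := hω ⟨z, Subgroup.mem_zpowers z⟩
  have hfix : ∀ δ : Δ, δ ∈ fixedPoints (Subgroup.zpowers z) Δ ↔ z • δ = δ := by
    intro δ
    constructor
    · intro h
      exact h ⟨z, Subgroup.mem_zpowers z⟩
    · intro h c
      have h6 : Subgroup.zpowers z ≤ stabilizer H δ := by
        rw [Subgroup.zpowers_le]
        exact h
      exact h6 c.2
  have hinj : ∀ m ∈ M, m • ω = ω → m = 1 := by
    intro m hm h
    have h4 : (⟨m, hm⟩ : M) ∈ stabilizer M ω := h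
    rw [hst, Subgroup.mem_bot] at h4
    exact congrArg Subtype.val h4
  have hcomm : ∀ m ∈ M, z • m • ω = m • ω ↔ z * m = m * z := by
    intro m hm
    constructor
    · intro h
      have h5 : (m⁻¹ * (z * m * z⁻¹)) • ω = ω := by
        rw [mul_smul, mul_smul, mul_smul]
        rw [show z⁻¹ • ω = ω from by rw [inv_smul_eq_iff, hzω], h, inv_smul_smul]
      have h6 := hinj _ (M.mul_mem (M.inv_mem hm) (hMn.conj_mem m hm z)) h5
      rw [inv_mul_eq_one] at h6
      rw [eq_mul_inv_iff_mul_eq] at h6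
      exact h6.symm
    · intro h
      rw [← mul_smul, h, mul_smul, hzω]
  have hcard : Nat.card (fixedPoints (Subgroup.zpowers z) Δ) =
      Nat.card ((Subgroup.centralizer ({z} : Set H)).subgroupOf M) := by
    symm
    refine Nat.card_congr (Equiv.ofBijective (fun m : (Subgroup.centralizer ({z} : Set H)).subgroupOf M =>
      (⟨(m : M) • ω, (hfix _).2 ?_⟩ : fixedPoints (Subgroup.zpowers z) Δ)) ⟨?_, ?_⟩)
    · have h4 := m.2
      rw [Subgroup.mem_subgroupOf, Subgroup.mem_centralizer_singleton_iff] at h4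
      exact (hcomm (m : M).1 (m : M).2).2 h4.symm
    · intro m₁ m₂ h
      have h4 : (m₁ : M) • ω = (m₂ : M) • ω := congrArg Subtype.val h
      have h5 : (m₂ : M)⁻¹ * (m₁ : M) ∈ stabilizer M ω := by
        rw [mem_stabilizer_iff, mul_smul, h4, inv_smul_smul]
      rw [hst, Subgroup.mem_bot, inv_mul_eq_one] at h5
      exact Subtype.ext h5.symm
    · rintro ⟨δ, hδ⟩
      obtain ⟨m, hm⟩ := htr.exists_smul_eq ω δ
      rw [hfix] at hδ
      refine ⟨⟨m, ?_⟩, Subtype.ext hm⟩
      rw [Subgroup.mem_subgroupOf, Subgroup.mem_centralizer_singleton_iff]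
      symm
      rw [← hcomm m.1 m.2]
      have h4 : (m : H) • ω = δ := hm
      rw [h4, hδ]
  have hMcard : Nat.card M = Nat.card Δ := by
    refine Nat.card_congr (Equiv.ofBijective (fun m : M => m • ω) ⟨?_, ?_⟩)
    · intro m₁ m₂ h
      have h4 : m₁ • ω = m₂ • ω := h
      have h5 : m₂⁻¹ * m₁ ∈ stabilizer M ω := by
        rw [mem_stabilizer_iff, mul_smul, h4, inv_smul_smul]
      rw [hst, Subgroup.mem_bot, inv_mul_eq_one] at h5
      exact h5.symm
    · intro δ
      exact htr.exists_smul_eq ω δ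
  have hdvd : Nat.card (fixedPoints (Subgroup.zpowers z) Δ) ∣ Nat.card Δ := by
    rw [hcard, ← hMcard]
    exact Subgroup.card_subgroup_dvd_card _
  obtain ⟨c, hc⟩ := hdvd
  refine ⟨_, c, hc, ?_, ?_, h1⟩
  · set f := Nat.card (fixedPoints (Subgroup.zpowers z) Δ) with hf
    have h5 : (f * c) % 3 = f % 3 := by
      rw [← hc]
      exact h2
    have h6 : ¬ f % 3 = 0 := by
      intro h6
      have h7 : Nat.card Δ % 3 = f % 3 := h2
      rw [h6] at h7
      exact h3 (Nat.dvd_of_mod_eq_zero h7)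
    rw [Nat.mul_mod] at h5
    have h7 : f % 3 = 1 ∨ f % 3 = 2 := by (clear * - h3 h1; omega)
    have h8 : c % 3 = 0 ∨ c % 3 = 1 ∨ c % 3 = 2 := by omega
    rcases h7 with h7 | h7 <;> rcases h8 with h8 | h8 | h8 <;> rw [h7, h8] at h5 <;> omega
  · rintro rfl
    rw [mul_one] at hc
    apply hz
    have h5 : ∀ δ : Δ, z • δ = δ := by
      intro δ
      rw [← hfix]
      have h6 : fixedPoints (Subgroup.zpowers z) Δ = Set.univ := by
        rw [← Set.ncard_univ, ← Nat.card_coe_set_eq] at *
        refine Set.eq_of_subset_of_ncard_le (Set.subset_univ _) ?_ (Set.toFinite _)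
        rw [← Nat.card_coe_set_eq, ← Nat.card_coe_set_eq]
        exact hc.le
      rw [h6]
      exact Set.mem_univ δ
    refine FaithfulSMul.eq_of_smul_eq_smul (α := Δ) ?_
    intro δ
    rw [h5, one_smul]

/-- at most `n / 2` orbits -/
theorem orbits_le_half {H : Type u} {Δ : Type v} [Group H] [Finite H] [MulAction H Δ] [FaithfulSMul H Δ] [Finite Δ]
    (M : Subgroup H) [hMn : M.Normal] (h3 : ¬ 3 ∣ Nat.card Δ) (htr : IsPretransitive M Δ)
    (hst : ∀ ω : Δ, stabilizer M ω = ⊥) (z : H) (hz : z ≠ 1) (hz3 : z ^ 3 = 1) :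
    Nat.card (orbitRel.Quotient (Subgroup.zpowers z) Δ) ≤ Nat.card Δ / 2 := by
  obtain ⟨f, c, h1, h2, h4, h5⟩ := orbits_aux M h3 htr hst z hz hz3
  have h6 : 4 ≤ c := by omega
  have h7 : f * 4 ≤ Nat.card Δ := by
    rw [h1]
    exact Nat.mul_le_mul_left _ h6
  omega

/-- degree 25 -/
theorem orbits_25 {H : Type u} {Δ : Type v} [Group H] [Finite H] [MulAction H Δ] [FaithfulSMul H Δ] [Finite Δ]
    (M : Subgroup H) [hMn : M.Normal] (h25 : Nat.card Δ = 25) (htr : IsPretransitive M Δ)
    (hst : ∀ ω : Δ, stabilizer M ω = ⊥) (z : H) (hz : z ≠ 1) (hz3 : z ^ 3 = 1) :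
    Nat.card (orbitRel.Quotient (Subgroup.zpowers z) Δ) ≤ 9 := by
  obtain ⟨f, c, h1, h2, h4, h5⟩ := orbits_aux M (by rw [h25]; norm_num) htr hst z hz hz3
  rw [h25] at h1 h5
  have h6 : c ∣ 5 ^ 2 := ⟨f, by rw [mul_comm, ← h1]; norm_num⟩
  rw [Nat.dvd_prime_pow Nat.prime_five] at h6
  obtain ⟨k, hk, rfl⟩ := h6
  interval_cases k
  · norm_num at h4
  · norm_num at h2
  · have : f = 1 := by omega
    omega

end Cfsg.Agent.H889.RC
end

-- part: H889/RC/ColB3
section
/-!
# `ColB 3 2 3` (S4191, helper889)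

`colB_three`.
-/

set_option autoImplicit false

namespace Cfsg.Agent.H889.RC

open MulAction
open Cfsg.Agent.H527.RC (FH LP PEl Rig ColB)

universe u v

/-- the order of a complement acting irreducibly -/
theorem card_le_cube {H : Type u} [Group H] [Finite H] [hs : Group.IsSolvable H] (M A : Subgroup H) [hMn : M.Normal]
    (hMc : IsMulCommutative M) (hA : A ⊓ Subgroup.centralizer (M : Set H) = ⊥)
    (hirr : ∀ K : Subgroup H, K ≤ M → A ≤ Subgroup.normalizer (K : Set H) → K = ⊥ ∨ K = M) :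
    Nat.card A ≤ Nat.card M ^ 3 := by
  let _ : CommGroup M := { (inferInstance : Group M) with mul_comm := fun a b => mul_comm' a b }
  let act : DistribMulAction A (Additive M) :=
    { smul := fun a m => Additive.ofMul ((MulAut.conjNormal (a : H) : MulAut M) m.toMul)
      one_smul := fun m => by
        change Additive.ofMul ((MulAut.conjNormal ((1 : A) : H) : MulAut M) m.toMul) = m
        rw [Subgroup.coe_one, map_one]
        rfl
      mul_smul := fun a b m => by
        change Additive.ofMul ((MulAut.conjNormal ((a * b : A) : H) : MulAut M) m.toMul) =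
          Additive.ofMul ((MulAut.conjNormal (a : H) : MulAut M) ((MulAut.conjNormal (b : H) : MulAut M) m.toMul))
        rw [Subgroup.coe_mul, map_mul]
        rfl
      smul_zero := fun a => by
        change Additive.ofMul ((MulAut.conjNormal (a : H) : MulAut M) 1) = 0
        rw [map_one]
        rfl
      smul_add := fun a m m' => by
        change Additive.ofMul ((MulAut.conjNormal (a : H) : MulAut M) (m.toMul * m'.toMul)) =
          Additive.ofMul ((MulAut.conjNormal (a : H) : MulAut M) m.toMul) +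
            Additive.ofMul ((MulAut.conjNormal (a : H) : MulAut M) m'.toMul)
        rw [map_mul]
        rfl }
  have hact : ∀ (a : A) (m : Additive M), a • m = Additive.ofMul ((MulAut.conjNormal (a : H) : MulAut M) m.toMul) :=
    fun a m => rfl
  have hfaith : FaithfulSMul A (Additive M) := by
    have key : ∀ a : A, (∀ m : Additive M, a • m = m) → a = 1 := by
      intro a ha
      have h1 : (a : H) ∈ A ⊓ Subgroup.centralizer (M : Set H) := by
        refine Subgroup.mem_inf.2 ⟨a.2, ?_⟩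
        rw [Subgroup.mem_centralizer_iff]
        intro f hf
        have h3 := congrArg (fun x : Additive M => ((x.toMul : M) : H)) (ha (Additive.ofMul ⟨f, hf⟩))
        simp only [hact, toMul_ofMul, MulAut.conjNormal_apply] at h3
        calc f * a = (a * f * (a : H)⁻¹) * a := by rw [h3]
          _ = a * f := by group
      rw [hA, Subgroup.mem_bot] at h1
      exact Subtype.ext h1
    refine ⟨fun {a b} hab => ?_⟩
    have h2 : b⁻¹ * a = 1 := by
      apply key
      intro m
      rw [mul_smul, hab, inv_smul_smul]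
    exact (inv_mul_eq_one.1 h2).symm
  have hcr : ∀ U : AddSubgroup (Additive M), (∀ a : A, ∀ v ∈ U, a • v ∈ U) →
      ∃ W : AddSubgroup (Additive M), (∀ a : A, ∀ w ∈ W, a • w ∈ W) ∧ U ⊓ W = ⊥ ∧ U ⊔ W = ⊤ := by
    intro U hU
    let K : Subgroup H := (AddSubgroup.toSubgroup' U).map M.subtype
    have hKM : K ≤ M := Subgroup.map_subtype_le _
    have hKn : A ≤ Subgroup.normalizer (K : Set H) := by
      have h1 : ∀ a ∈ A, ∀ k ∈ K, a * k * a⁻¹ ∈ K := by
        rintro a ha _ ⟨m, hm, rfl⟩
        refine ⟨(MulAut.conjNormal a : MulAut M) m, ?_, ?_⟩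
        · exact hU ⟨a, ha⟩ (Additive.ofMul m) hm
        · exact MulAut.conjNormal_apply a m
      intro a ha
      rw [Subgroup.mem_normalizer_iff]
      intro k
      refine ⟨fun hk => h1 a ha k hk, fun hk => ?_⟩
      have h2 := h1 a⁻¹ (A.inv_mem ha) _ hk
      have h3 : a⁻¹ * (a * k * a⁻¹) * a⁻¹⁻¹ = k := by group
      rwa [h3] at h2
    rcases hirr K hKM hKn with h | h
    · refine ⟨⊤, fun _ _ _ => AddSubgroup.mem_top _, ?_, sup_top_eq U⟩
      rw [inf_top_eq, eq_bot_iff]
      intro u hu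
      have h4 : ((u.toMul : M) : H) ∈ K := ⟨u.toMul, hu, rfl⟩
      rw [h, Subgroup.mem_bot] at h4
      rw [AddSubgroup.mem_bot]
      have h5 : u.toMul = 1 := Subtype.ext h4
      exact h5
    · refine ⟨⊥, ?_, inf_bot_eq U, ?_⟩
      · intro a w hw
        rw [AddSubgroup.mem_bot] at hw ⊢
        rw [hw, smul_zero]
      · rw [sup_bot_eq, eq_top_iff]
        intro u _
        have h4 : ((u.toMul : M) : H) ∈ K := by
          rw [h]
          exact (u.toMul : M).2
        obtain ⟨m, hm, hmu⟩ := h4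
        have h5 : m = u.toMul := Subtype.ext hmu
        rw [h5] at hm
        exact hm
  have hAs : Group.IsSolvable A := inferInstance
  obtain ⟨v₁, v₂, v₃, hv⟩ := S4374.result hAs hcr
  have h1 : Nat.card (Additive M × Additive M × Additive M) = Nat.card M ^ 3 := by
    rw [Nat.card_prod, Nat.card_prod]
    have h2 : Nat.card (Additive M) = Nat.card M := rfl
    rw [h2]
    ring
  rw [← h1]
  refine Nat.card_le_card_of_injective (fun a : A => (a • v₁, a • v₂, a • v₃)) ?_
  intro a b hab
  have e1 : a • v₁ = b • v₁ := congrArg Prod.fst hab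
  have e2 : a • v₂ = b • v₂ := congrArg (fun x => x.2.1) hab
  have e3 : a • v₃ = b • v₃ := congrArg (fun x => x.2.2) hab
  have h2 : b⁻¹ * a = 1 := by
    apply hv
    · rw [mul_smul, e1, inv_smul_smul]
    · rw [mul_smul, e2, inv_smul_smul]
    · rw [mul_smul, e3, inv_smul_smul]
  exact (inv_mul_eq_one.1 h2).symm

/-- degree 25 -/
theorem card_le_25 {H : Type u} {Δ : Type v} [Group H] [Finite H] [hs : Group.IsSolvable H] [MulAction H Δ]
    [FaithfulSMul H Δ] [Finite Δ] (hprim : IsPreprimitive H Δ) (h25 : Nat.card Δ = 25) :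
    Nat.card H ≤ 25 * 24 * 23 := by
  let R : Subgroup (Equiv.Perm Δ) := (MulAction.toPermHom H Δ).range
  have hRs : Group.IsSolvable R := Group.isSolvable_of_surjective (MulAction.toPermHom H Δ).rangeRestrict_surjective
  have hRp : IsPreprimitive R Δ := by
    let f : Δ →ₑ[(MulAction.toPermHom H Δ).rangeRestrict] Δ :=
      { toFun := id
        map_smul' := fun h δ => rfl }
    exact IsPreprimitive.of_surjective (f := f) Function.surjective_id
  obtain ⟨p, d, hp, hd, h1, h2⟩ := H553.SolvPerm.card_le_descFactorial R hRp (by rw [h25]; norm_num)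
  have hcard : Nat.card H = Nat.card R := by
    refine Nat.card_congr (Equiv.ofBijective (MulAction.toPermHom H Δ).rangeRestrict
      ⟨?_, (MulAction.toPermHom H Δ).rangeRestrict_surjective⟩)
    intro a b hab
    have h3 : (MulAction.toPermHom H Δ) a = (MulAction.toPermHom H Δ) b := congrArg Subtype.val hab
    exact MulAction.toPerm_injective h3
  rw [hcard]
  refine h2.trans ?_
  rw [h25] at h1 ⊢
  have hd2 : d = 2 := by
    have h3 : p ∣ 5 ^ 2 := by
      rw [show (5 : ℕ) ^ 2 = 25 from by norm_num, h1]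
      exact dvd_pow_self p hd.ne'
    have h4 : p = 5 := (Nat.prime_dvd_prime_iff_eq hp Nat.prime_five).1 (hp.dvd_of_dvd_pow h3)
    subst h4
    exact (Nat.pow_right_injective (le_refl 2 |>.trans (by norm_num : 2 ≤ 5))
      (show 5 ^ 2 = 5 ^ d from by rw [← h1])).symm
  subst hd2
  decide

/-- **`ColB 3 2 3`**. -/
theorem colB_three : ColB.{u} 3 2 3 := by
  intro H Δ _ _ _ _ _ _ _ L hprim hL h3 hy
  obtain ⟨y, hyp, hy⟩ := hy
  have hne : Nonempty Δ := inferInstance
  obtain ⟨ω⟩ := hne
  -- a minimal normal subgroup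
  have hHne : (⊤ : Subgroup H) ≠ ⊥ := by
    intro h
    apply hy
    have h1 : (⁅L, Subgroup.zpowers y⁆ : Subgroup H) = ⊥ := by
      rw [eq_bot_iff, ← h]
      exact le_top
    rw [h1]
    exact Cfsg.Agent.H527.RC.FH.of_subsingleton _
  obtain ⟨M, -, hM, hMn', hmin'⟩ := Lib.MinNormal.exists_minimal_normal_le (⊤ : Subgroup H) hHne
  have hMn : M.Normal := Subgroup.normalizer_eq_top_iff.1 (top_le_iff.1 hMn')
  have hmin : ∀ K : Subgroup H, K.Normal → K ≤ M → K = ⊥ ∨ K = M := by
    intro K hK hKM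
    refine hmin' K hKM ?_
    rw [Subgroup.normalizer_eq_top_iff.2 hK]
  have hMc := (S0043.result M hM hmin).1
  obtain ⟨htr, hst, s, d, hs, hd, hn, hMd⟩ := S0547.result hprim M hM hmin
  obtain ⟨hcompl, hcent, hirr⟩ := S0548.result hprim M hM hmin ω
  have hcen : Subgroup.centralizer (M : Set H) ≤ M := by
    intro x hx
    obtain ⟨⟨m, a⟩, hma⟩ := hcompl.2 x
    have h1 : (m : H) * (a : H) = x := hma
    have h2 : (m : H) ∈ Subgroup.centralizer (M : Set H) := by
      rw [Subgroup.mem_centralizer_iff]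
      intro f hf
      exact congrArg (fun x : M => (x : H)) (mul_comm' (⟨f, hf⟩ : M) m)
    have h3 : (a : H) ∈ stabilizer H ω ⊓ Subgroup.centralizer (M : Set H) := by
      refine Subgroup.mem_inf.2 ⟨a.2, ?_⟩
      have h4 : (a : H) = (m : H)⁻¹ * x := by rw [← h1]; group
      rw [h4]
      exact mul_mem (inv_mem h2) hx
    rw [hcent, Subgroup.mem_bot] at h3
    rw [← h1, h3, mul_one]
    exact m.2
  -- the order of `H`
  have hcard : Nat.card H ≤ Nat.card Δ ^ 4 := by
    have h1 : Nat.card M * Nat.card (stabilizer H ω) = Nat.card H := hcompl.card_mul_card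
    have h2 := card_le_cube M (stabilizer H ω) hMc hcent hirr
    rw [← h1, hn, ← hMd]
    calc Nat.card M * Nat.card (stabilizer H ω) ≤ Nat.card M * Nat.card M ^ 3 := Nat.mul_le_mul_left _ h2
      _ = Nat.card M ^ 4 := by ring
  by_cases h49 : 49 ≤ Nat.card Δ
  · refine exists_three (Nat.card Δ / 2) ?_ (big_ineq _ _ _ h49 hcard le_rfl)
    intro z hz hz3
    exact orbits_le_half M h3 htr hst z hz hz3
  by_cases h25 : Nat.card Δ = 25
  · refine exists_three 9 ?_ ?_
    · intro z hz hz3
      exact orbits_25 M h25 htr hst z hz hz3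
    · rw [h25]
      exact ineq_25 _ (card_le_25 hprim h25)
  exfalso
  apply hy
  by_cases hd1 : d = 1
  · subst hd1
    rw [pow_one] at hMd
    exact fh_two_of_prime M L y hcen (by rw [hMd]; exact hs)
  have h2d : 2 ≤ d := by omega
  have hlt : s ^ d < 49 := by
    rw [← hn]
    omega
  have hs7 : s < 7 := by
    by_contra hcon
    have h1 : 7 ^ 2 ≤ s ^ d :=
      (Nat.pow_le_pow_left (not_lt.1 hcon) 2).trans (Nat.pow_le_pow_right hs.pos h2d)
    omega
  have hs3 : s ≠ 3 := by
    rintro rfl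
    apply h3
    rw [hn]
    exact dvd_pow_self 3 (by omega)
  have hs2 : s = 2 := by
    have h1 : 2 ≤ s := hs.two_le
    interval_cases s
    · rfl
    · exact absurd rfl hs3
    · exact absurd hs (by norm_num)
    · exfalso
      have h2 : d < 3 := by
        by_contra hcon
        have h4 : 5 ^ 3 ≤ 5 ^ d := Nat.pow_le_pow_right (by norm_num) (not_lt.1 hcon)
        omega
      have h4 : d = 2 := by omega
      subst h4
      exact h25 hn
    · exact absurd hs (by norm_num)
  subst hs2
  have hd5 : d ≤ 5 := by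
    by_contra hcon
    have h4 : 2 ^ 6 ≤ 2 ^ d := Nat.pow_le_pow_right (by norm_num) (by omega)
    omega
  exact fh_two_of_two M hM hmin L hL y hcen d (by omega) hd5 hMd

end Cfsg.Agent.H889.RC
end

-- part: H659/RC/Count
section
/-!
# S4191, COLB2: counting the sets preserved by an involution of a primitive solvable group of odd degree
-/

set_option autoImplicit false
set_option linter.unusedSectionVars false

namespace Cfsg.Agent.H659.RC

open scoped Pointwise
open MulAction Cfsg.Agent.H308.ClsSet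

/-- generation over a subgroup -/
theorem exists_gen_over {N : Type*} [Group N] [Finite N] (D : Subgroup N) (q : ℕ)
    (hq : ∀ p : ℕ, p.Prime → p ∣ Nat.card N → q ≤ p) :
    ∃ S : Finset N, D ⊔ Subgroup.closure (S : Set N) = ⊤ ∧ q ^ S.card * Nat.card D ≤ Nat.card N := by
  classical
  have := Fintype.ofFinite N
  obtain ⟨S, hS, hmax⟩ := Finset.exists_max_image
    ((Finset.univ : Finset (Finset N)).filter
      fun S : Finset N => q ^ S.card * Nat.card D ≤ Nat.card (D ⊔ Subgroup.closure (S : Set N) : Subgroup N))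
    (fun S : Finset N => Nat.card (D ⊔ Subgroup.closure (S : Set N) : Subgroup N))
    ⟨∅, by simp only [_root_.Nat.card_eq_fintype_card, _root_.Finset.mem_filter, _root_.Finset.mem_univ, _root_.Finset.card_empty, _root_.pow_zero, _root_.one_mul, _root_.Finset.coe_empty, _root_.Subgroup.closure_empty, _root_.bot_le, _root_.sup_of_le_left, _root_.Std.le_refl, _root_.and_self]⟩
  rw [Finset.mem_filter] at hS
  refine ⟨S, ?_, hS.2.trans ?_⟩
  · by_contra hne
    obtain ⟨x, hx⟩ : ∃ x, x ∉ D ⊔ Subgroup.closure (S : Set N) := by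
      by_contra h
      push Not at h
      exact hne (Subgroup.eq_top_iff' _ |>.2 h)
    have hxS : x ∉ S := fun h => hx (le_sup_right (a := D) (Subgroup.subset_closure h))
    have hlt : D ⊔ Subgroup.closure (S : Set N) < D ⊔ Subgroup.closure ((insert x S : Finset N) : Set N) := by
      refine lt_of_le_of_ne (sup_le_sup_left (Subgroup.closure_mono (by simp)) _) fun h => hx ?_
      rw [h]
      exact le_sup_right (a := D) (Subgroup.subset_closure (by simp))
    set H := D ⊔ Subgroup.closure (S : Set N) with hH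
    set K := D ⊔ Subgroup.closure ((insert x S : Finset N) : Set N) with hK
    have h1 : Nat.card H * H.relIndex K = Nat.card K := by
      rw [← Nat.card_congr (Subgroup.subgroupOfEquivOfLe hlt.le).toEquiv]
      exact (H.subgroupOf K).card_mul_index
    have h2 : H.relIndex K ≠ 1 := fun h => hlt.not_ge (Subgroup.relIndex_eq_one.1 h)
    have h3 : q ≤ H.relIndex K := by
      have h4 := Nat.minFac_prime h2
      have h5 : (H.relIndex K).minFac ∣ Nat.card N :=
        (Nat.minFac_dvd _).trans ((Dvd.intro_left _ h1).trans K.card_subgroup_dvd_card)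
      have h0 : 0 < H.relIndex K := Nat.pos_of_ne_zero (fun h0 => by
        rw [h0, mul_zero] at h1
        exact Nat.card_pos.ne h1)
      exact (hq _ h4 h5).trans (Nat.minFac_le h0)
    have h6 : q ^ (insert x S).card * Nat.card D ≤ Nat.card K := by
      rw [Finset.card_insert_of_notMem hxS, pow_succ, ← h1]
      calc q ^ S.card * q * Nat.card D = q ^ S.card * Nat.card D * q := by ring
        _ ≤ _ := Nat.mul_le_mul hS.2 h3
    have h7 := hmax (insert x S) (by rw [Finset.mem_filter]; exact ⟨Finset.mem_univ _, h6⟩)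
    have h8 : Nat.card K ≤ Nat.card H := h7
    exact hlt.ne (Subgroup.eq_of_le_of_card_ge hlt.le h8)
  · exact Subgroup.card_le_card_group _

/-- sets preserved by some element of a class -/
theorem cnt {G Ω : Type*} [Group G] [Finite G] [MulAction G Ω] [Finite Ω] (P : G → Prop) (e c : ℕ)
    (h : ∀ y, P y → Nat.card (orbitRel.Quotient (Subgroup.zpowers y) Ω) ≤ e) (hc : Nat.card {y // P y} ≤ c) :
    {Γ : Set Ω | ∃ y, P y ∧ y • Γ = Γ}.ncard ≤ c * 2 ^ e := by
  classical
  have := Fintype.ofFinite Ω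
  have := Fintype.ofFinite G
  rw [← Nat.card_coe_set_eq]
  have hch : ∀ Γ : {Γ : Set Ω | ∃ y, P y ∧ y • Γ = Γ}, ∃ y, P y ∧ y • (Γ : Set Ω) = Γ := fun Γ => Γ.2
  choose f hf1 hf2 using hch
  have h2 : Nat.card {Γ : Set Ω | ∃ y, P y ∧ y • Γ = Γ} ≤
      Nat.card (Σ g : {g : G // P g}, {Γ : Set Ω // (g : G) • Γ = Γ}) := by
    refine Nat.card_le_card_of_injective
      (fun Γ => (⟨⟨f Γ, hf1 Γ⟩, ⟨Γ, hf2 Γ⟩⟩ : Σ g : {g : G // P g}, {Γ : Set Ω // (g : G) • Γ = Γ})) ?_
    intro Γ Γ' h
    have h3 := congrArg (fun x : (Σ g : {g : G // P g}, {Γ : Set Ω // (g : G) • Γ = Γ}) => (x.2 : Set Ω)) h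
    exact Subtype.ext h3
  refine h2.trans ?_
  rw [Nat.card_sigma]
  refine (Finset.sum_le_card_nsmul _ _ (2 ^ e) fun g _ => ?_).trans ?_
  · exact (card_stab_le (g : G)).trans (Nat.pow_le_pow_right (by norm_num) (h _ g.2))
  · rw [smul_eq_mul]
    refine Nat.mul_le_mul_right _ ?_
    rw [Finset.card_univ, ← Nat.card_eq_fintype_card]
    exact hc

/-- the number of orbits of an involution -/
theorem orb_eq {G Ω : Type*} [Group G] [Finite G] [MulAction G Ω] [Finite Ω] {y : G} (hy1 : y ≠ 1) (hy : y * y = 1) :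
    2 * Nat.card (orbitRel.Quotient (Subgroup.zpowers y) Ω) = Nat.card Ω + Nat.card (fixedBy Ω y) := by
  classical
  have := Fintype.ofFinite Ω
  have := Fintype.ofFinite G
  have h1 := sum_card_fixedBy_eq_card_orbits_mul_card_group (Subgroup.zpowers y) Ω
  have ho : orderOf y = 2 := orderOf_eq_prime (by rw [pow_two]; exact hy) hy1
  have hpc : Fintype.card (Subgroup.zpowers y) = 2 := by
    rw [← Nat.card_eq_fintype_card, Nat.card_zpowers, ho]
  have hkc : Fintype.card (orbitRel.Quotient (Subgroup.zpowers y) Ω) =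
      Nat.card (orbitRel.Quotient (Subgroup.zpowers y) Ω) := Nat.card_eq_fintype_card.symm
  rw [hpc, hkc] at h1
  set z : Subgroup.zpowers y := ⟨y, Subgroup.mem_zpowers y⟩ with hz
  have hz1 : (1 : Subgroup.zpowers y) ≠ z := fun h => hy1 (congrArg Subtype.val h).symm
  have huniv : (Finset.univ : Finset (Subgroup.zpowers y)) = {1, z} := by
    symm
    apply Finset.eq_univ_of_card
    rw [Finset.card_pair hz1, hpc]
  rw [huniv, Finset.sum_pair hz1] at h1
  have h2 : Fintype.card (fixedBy Ω (1 : Subgroup.zpowers y)) = Nat.card Ω := by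
    rw [← Nat.card_eq_fintype_card]
    have : fixedBy Ω (1 : Subgroup.zpowers y) = Set.univ := by
      ext a; simp [fixedBy]
    rw [this]
    exact Nat.card_congr (Equiv.Set.univ Ω)
  have h3 : Fintype.card (fixedBy Ω z) = Nat.card (fixedBy Ω y) := by
    rw [← Nat.card_eq_fintype_card]
    rfl
  rw [h2, h3] at h1
  omega

section Reg

variable {G Ω : Type*} [Group G] [Finite G] [Finite Ω] [Nontrivial Ω] [MulAction G Ω] [FaithfulSMul G Ω]
  {N : Subgroup G} (R : Reg (Ω := Ω) N)
include R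

omit [Finite G] in
theorem odd_N (hodd : Odd (Nat.card Ω)) {x : G} (hx : x ∈ N) (h : x * x = 1) : x = 1 := by
  have h1 : (⟨x, hx⟩ : N) ^ Nat.card N = 1 := pow_card_eq_one'
  have h2 : x ^ Nat.card N = 1 := congrArg Subtype.val h1
  rw [R.card] at h2
  obtain ⟨k, hk⟩ := hodd
  rw [hk, pow_succ, pow_mul, pow_two, h, one_pow, one_mul] at h2
  exact h2

omit [Finite G] in
/-- an involution has a fixed point -/
theorem exists_fix (hodd : Odd (Nat.card Ω)) {y : G} (hy : y * y = 1) : ∃ a : Ω, y • a = a := by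
  by_contra hcon
  push Not at hcon
  have hP : IsPGroup 2 (Subgroup.zpowers y) := by
    rintro ⟨_, i, rfl⟩
    refine ⟨1, Subtype.ext ?_⟩
    change (y ^ i) ^ (2 ^ 1) = 1
    rw [pow_one, ← zpow_natCast, ← zpow_mul, mul_comm, zpow_mul, zpow_natCast, pow_two, hy, one_zpow]
  have h2 : ¬ 2 ∣ Nat.card Ω := fun h => (Nat.not_even_iff_odd.2 hodd) (even_iff_two_dvd.2 h)
  haveI : Fact (Nat.Prime 2) := ⟨Nat.prime_two⟩
  obtain ⟨a, ha⟩ := hP.nonempty_fixed_point_of_prime_not_dvd_card Ω h2
  exact hcon a (ha ⟨y, Subgroup.mem_zpowers y⟩)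

omit [Finite Ω] [Nontrivial Ω] [Finite G] in
/-- an element which centralises `N` and fixes a point is trivial -/
theorem eq_one_of_cent {g : G} (hg : ∀ x ∈ N, g * x = x * g) {a : Ω} (ha : g • a = a) : g = 1 := by
  apply FaithfulSMul.eq_of_smul_eq_smul (α := Ω)
  intro b
  obtain ⟨x, hx, rfl⟩ := R.trans a b
  rw [one_smul, ← mul_smul, hg x hx, mul_smul, ha]

omit [Finite G] in
theorem card_fix_eq {g : G} {a : Ω} (ha : g • a = a) :
    Nat.card (fixedBy Ω g) = Nat.card (N ⊓ Subgroup.centralizer ({g} : Set G) : Subgroup G) := by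
  refine (Nat.card_congr (Equiv.ofBijective
    (fun x : (N ⊓ Subgroup.centralizer ({g} : Set G) : Subgroup G) =>
      (⟨(x : G) • a, ?_⟩ : fixedBy Ω g)) ⟨fun x y h => ?_, fun b => ?_⟩)).symm
  · rw [mem_fixedBy, ← mul_smul]
    have := Subgroup.mem_centralizer_singleton_iff.1 x.2.2
    rw [← this, mul_smul, ha]
  · exact Subtype.ext (R.inj x.2.1 y.2.1 (congrArg Subtype.val h))
  · obtain ⟨x, hx, h⟩ := R.trans a b
    refine ⟨⟨x, hx, Subgroup.mem_centralizer_singleton_iff.2 ?_⟩, Subtype.ext h⟩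
    exact (R.comm_of_fix hx ha (by rw [h]; exact b.2)).symm

omit [Finite G] [Finite Ω] [Nontrivial Ω] in
/-- the elements of `N` inverted by `y` -/
def invSub (y : G) : Subgroup G where
  carrier := {x | x ∈ N ∧ y * x * y⁻¹ = x⁻¹}
  mul_mem' := by
    rintro a b ⟨ha, ha'⟩ ⟨hb, hb'⟩
    refine ⟨N.mul_mem ha hb, ?_⟩
    have : y * (a * b) * y⁻¹ = (y * a * y⁻¹) * (y * b * y⁻¹) := by group
    rw [this, ha', hb', mul_inv_rev]
    exact R.comm _ (N.inv_mem ha) _ (N.inv_mem hb)
  one_mem' := ⟨N.one_mem, by group⟩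
  inv_mem' := by
    rintro a ⟨ha, ha'⟩
    refine ⟨N.inv_mem ha, ?_⟩
    have : y * a⁻¹ * y⁻¹ = (y * a * y⁻¹)⁻¹ := by group
    rw [this, ha']

omit [Finite G] [Finite Ω] [Nontrivial Ω] in
/-- `x (y x y⁻¹)⁻¹` is inverted by the involution `y` -/
theorem comm_mem_invSub {y x : G} (hy : y * y = 1) (hx : x ∈ N) : x * (y * x * y⁻¹)⁻¹ ∈ invSub R y := by
  have h1 : y * x * y⁻¹ ∈ N := R.normal.conj_mem x hx y
  refine ⟨N.mul_mem hx (N.inv_mem h1), ?_⟩
  have h2 : y⁻¹ = y := inv_eq_of_mul_eq_one_right hy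
  have h3 : y * (x * (y * x * y⁻¹)⁻¹) * y⁻¹ = (y * x * y⁻¹) * (y * y) * x⁻¹ * (y * y)⁻¹ := by group
  rw [h3, hy, mul_one, inv_one, mul_one, mul_inv_rev, inv_inv]

theorem card_inv_mul (hodd : Odd (Nat.card Ω)) {y : G} (hy : y * y = 1) :
    Nat.card (fixedBy Ω y) * Nat.card (invSub R y) ≤ Nat.card Ω := by
  obtain ⟨a, ha⟩ := exists_fix R hodd hy
  rw [card_fix_eq R ha, ← R.card, ← Nat.card_prod]
  refine Nat.card_le_card_of_injective (fun p : (N ⊓ Subgroup.centralizer ({y} : Set G) : Subgroup G) × invSub R y =>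
    (⟨(p.1 : G) * (p.2 : G), N.mul_mem p.1.2.1 p.2.2.1⟩ : N)) ?_
  rintro ⟨⟨c, hc⟩, ⟨d, hd⟩⟩ ⟨⟨c', hc'⟩, ⟨d', hd'⟩⟩ h
  have h1 : c * d = c' * d' := congrArg Subtype.val h
  have h2 : c'⁻¹ * c = d' * d⁻¹ := by
    calc c'⁻¹ * c = c'⁻¹ * (c * d) * d⁻¹ := by group
      _ = d' * d⁻¹ := by rw [h1]; group
  have h3 : c'⁻¹ * c ∈ (N ⊓ Subgroup.centralizer ({y} : Set G) : Subgroup G) :=
    Subgroup.mul_mem _ (Subgroup.inv_mem _ hc') hc
  have h4 : c'⁻¹ * c ∈ invSub R y := by rw [h2]; exact Subgroup.mul_mem _ hd' (Subgroup.inv_mem _ hd)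
  set z := c'⁻¹ * c with hz
  have h5 : y * z * y⁻¹ = z := by
    have := Subgroup.mem_centralizer_singleton_iff.1 h3.2
    rw [← this]; group
  have h6 : z * z = 1 := by
    have h7 := h4.2
    rw [h5] at h7
    nth_rewrite 1 [h7]
    exact inv_mul_cancel z
  have h7 : z = 1 := odd_N R hodd h4.1 h6
  have h8 : c' = c := inv_mul_eq_one.1 (by rw [← hz]; exact h7)
  have h9 : d' = d := by
    rw [h7] at h2
    exact (mul_inv_eq_one.1 h2.symm)
  subst h8 h9
  rfl

/-- the involutions inverting exactly `⟨v⟩` -/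
theorem fiber_le (hodd : Odd (Nat.card Ω)) {s : ℕ} (hq : ∀ p : ℕ, p.Prime → p ∣ Nat.card Ω → s ≤ p) {v : G}
    (hv : v ∈ N) (hvs : orderOf v = s) (Y : Finset G) (hY : ∀ y ∈ Y, y * y = 1 ∧ y * v * y⁻¹ = v⁻¹)
    (hY2 : ∀ y ∈ Y, invSub R y ≤ Subgroup.zpowers v) : Y.card ≤ Nat.card Ω := by
  classical
  obtain ⟨δ, -⟩ := exists_pair_ne Ω
  obtain ⟨S, hS, hSc⟩ := exists_gen_over (Subgroup.zpowers (⟨v, hv⟩ : N)) s (by rw [R.card]; exact hq)
  have hc : ∀ y : Y, ∃ c : Subgroup.zpowers v, (y : G) • δ = (c : G) • δ := by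
    rintro ⟨y, hy⟩
    obtain ⟨hyy, -⟩ := hY y hy
    obtain ⟨a, ha⟩ := exists_fix R hodd hyy
    obtain ⟨x, hx, rfl⟩ := R.trans δ a
    have h1 := comm_mem_invSub R hyy hx
    refine ⟨⟨x * (y * x * y⁻¹)⁻¹, hY2 y hy h1⟩, ?_⟩
    have h2 : y * x * y⁻¹ ∈ N := R.normal.conj_mem x hx y
    have h3 : x * (y * x * y⁻¹)⁻¹ = (y * x * y⁻¹)⁻¹ * x := R.comm _ hx _ (N.inv_mem h2)
    change y • δ = (x * (y * x * y⁻¹)⁻¹) • δ
    rw [h3, mul_smul, eq_inv_smul_iff, ← mul_smul, inv_mul_cancel_right, mul_smul, ha]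
  choose c hc using hc
  let f : Y → (S → Subgroup.zpowers v) × Subgroup.zpowers v := fun y =>
    (fun w => ⟨((w : N) : G) * ((y : G) * ((w : N) : G) * (y : G)⁻¹)⁻¹,
      hY2 y y.2 (comm_mem_invSub R (hY y y.2).1 (w : N).2)⟩, c y)
  have hf : Function.Injective f := by
    intro y y' h
    have h1 : ∀ w : S, (y : G) * ((w : N) : G) * (y : G)⁻¹ = (y' : G) * ((w : N) : G) * (y' : G)⁻¹ := by
      intro w
      have h2 := congrArg (fun p => ((p.1 w : Subgroup.zpowers v) : G)) h
      have h3 : ((w : N) : G) * ((y : G) * ((w : N) : G) * (y : G)⁻¹)⁻¹ =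
        ((w : N) : G) * ((y' : G) * ((w : N) : G) * (y' : G)⁻¹)⁻¹ := h2
      exact inv_injective (mul_left_cancel h3)
    have h2 : c y = c y' := congrArg Prod.snd h
    have hz : ∀ w : G, (y : G) * w * (y : G)⁻¹ = (y' : G) * w * (y' : G)⁻¹ →
        ((y' : G)⁻¹ * y) * w = w * ((y' : G)⁻¹ * y) := by
      intro w hw
      calc ((y' : G)⁻¹ * y) * w = (y' : G)⁻¹ * ((y : G) * w * (y : G)⁻¹) * y := by group
        _ = w * ((y' : G)⁻¹ * y) := by rw [hw]; group
    have hcen : ∀ x ∈ N, ((y' : G)⁻¹ * y) * x = x * ((y' : G)⁻¹ * y) := by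
      have hle : (⊤ : Subgroup N) ≤ (Subgroup.centralizer ({(y' : G)⁻¹ * y} : Set G)).subgroupOf N := by
        rw [← hS, sup_le_iff, Subgroup.closure_le, Subgroup.zpowers_le]
        constructor
        · rw [Subgroup.mem_subgroupOf, Subgroup.mem_centralizer_singleton_iff]
          exact (hz v (by rw [(hY y y.2).2, (hY y' y'.2).2])).symm
        · intro w hw
          rw [SetLike.mem_coe, Subgroup.mem_subgroupOf, Subgroup.mem_centralizer_singleton_iff]
          exact (hz _ (h1 ⟨w, hw⟩)).symm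
      intro x hx
      have h3 := hle (Subgroup.mem_top (⟨x, hx⟩ : N))
      rw [Subgroup.mem_subgroupOf, Subgroup.mem_centralizer_singleton_iff] at h3
      exact h3.symm
    have h3 : (y' : G)⁻¹ * y = 1 := by
      refine eq_one_of_cent R hcen (a := δ) ?_
      rw [mul_smul, inv_smul_eq_iff, hc y, hc y', h2]
    exact Subtype.ext (inv_mul_eq_one.1 h3).symm
  have h1 := Nat.card_le_card_of_injective f hf
  rw [Nat.card_prod, Nat.card_fun, Nat.card_zpowers, hvs, Nat.card_eq_fintype_card (α := Y), Fintype.card_coe,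
    Nat.card_eq_fintype_card (α := S), Fintype.card_coe] at h1
  rw [Nat.card_zpowers, Subgroup.orderOf_mk, hvs, R.card] at hSc
  exact h1.trans hSc

/-- **the number of reflections** -/
theorem card_class1 (hodd : Odd (Nat.card Ω)) {s : ℕ} (hs : s.Prime)
    (hq : ∀ p : ℕ, p.Prime → p ∣ Nat.card Ω → s ≤ p) (hsx : ∀ x ∈ N, x ^ s = 1) :
    Nat.card {y : G // y ≠ 1 ∧ y * y = 1 ∧ Nat.card (fixedBy Ω y) * s = Nat.card Ω} * (s - 1) ≤
      (Nat.card Ω - 1) * Nat.card Ω := by
  classical
  have := Fintype.ofFinite G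
  set A : Finset G := Finset.univ.filter fun y => y ≠ 1 ∧ y * y = 1 ∧ Nat.card (fixedBy Ω y) * s = Nat.card Ω with hA
  set B : Finset G := Finset.univ.filter fun x => x ∈ N ∧ x ≠ 1 with hB
  have hAc : Nat.card {y : G // y ≠ 1 ∧ y * y = 1 ∧ Nat.card (fixedBy Ω y) * s = Nat.card Ω} = A.card := by
    rw [Nat.card_eq_fintype_card, Fintype.card_subtype]
  have hBc : B.card = Nat.card Ω - 1 := by
    have h1 : (Finset.univ.filter fun x : G => x ∈ N).card = Nat.card Ω := by
      rw [← R.card, Nat.card_eq_fintype_card, Fintype.card_subtype]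
    have h2 : B = (Finset.univ.filter fun x : G => x ∈ N).erase 1 := by
      ext x
      simp only [hB, Finset.mem_filter, Finset.mem_univ, true_and, Finset.mem_erase]
      (clear * -; tauto)
    rw [h2, Finset.card_erase_of_mem (by simp [N.one_mem]), h1]
  rw [hAc, ← hBc]
  have hD : ∀ y ∈ A, Nat.card (invSub R y) = s := by
    intro y hy
    rw [hA, Finset.mem_filter] at hy
    obtain ⟨-, hy1, hyy, hyf⟩ := hy
    have h1 := card_inv_mul R hodd hyy
    rw [← hyf] at h1
    have h0 : 0 < Nat.card (fixedBy Ω y) := by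
      obtain ⟨a, ha⟩ := exists_fix R hodd hyy
      haveI : Nonempty (fixedBy Ω y) := ⟨⟨a, ha⟩⟩
      exact Nat.card_pos
    have h2 : Nat.card (invSub R y) ≤ s := Nat.le_of_mul_le_mul_left h1 h0
    obtain ⟨w, hw, hw1⟩ : ∃ w ∈ invSub R y, w ≠ 1 := by
      by_contra hcon
      push Not at hcon
      apply hy1
      obtain ⟨a, ha⟩ := exists_fix R hodd hyy
      refine eq_one_of_cent R (fun x hx => ?_) ha
      have h3 := hcon _ (comm_mem_invSub R hyy hx)
      have h4 : x = y * x * y⁻¹ := mul_inv_eq_one.1 h3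
      calc y * x = y * x * y⁻¹ * y := by group
        _ = x * y := by rw [← h4]
    have h3 : Subgroup.zpowers w ≤ invSub R y := by rwa [Subgroup.zpowers_le]
    have h4 := Subgroup.card_le_of_le h3
    haveI : Fact s.Prime := ⟨hs⟩
    rw [Nat.card_zpowers, orderOf_eq_prime (hsx w hw.1) hw1] at h4
    exact le_antisymm h2 h4
  refine Finset.card_mul_le_card_mul (fun y v => v ∈ invSub R y) (fun y hy => ?_) (fun v hv => ?_)
  · have h1 : (Finset.univ.filter fun x : G => x ∈ invSub R y).card = s := by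
      rw [← hD y hy, Nat.card_eq_fintype_card, Fintype.card_subtype]
    have h2 : B.bipartiteAbove (fun y v => v ∈ invSub R y) y =
        (Finset.univ.filter fun x : G => x ∈ invSub R y).erase 1 := by
      ext x
      simp only [hB, Finset.bipartiteAbove, Finset.mem_filter, Finset.mem_univ, true_and, Finset.mem_erase]
      constructor
      · rintro ⟨⟨-, h⟩, h'⟩
        exact ⟨h, h'⟩
      · rintro ⟨h, h'⟩
        exact ⟨⟨h'.1, h⟩, h'⟩
    rw [h2, Finset.card_erase_of_mem (by simp [Subgroup.one_mem]), h1]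
  · rw [hB, Finset.mem_filter] at hv
    obtain ⟨-, hvN, hv1⟩ := hv
    haveI : Fact s.Prime := ⟨hs⟩
    have hvs : orderOf v = s := orderOf_eq_prime (hsx v hvN) hv1
    apply fiber_le R hodd hq hvN hvs
    · intro y hy
      rw [Finset.bipartiteBelow, Finset.mem_filter] at hy
      have h1 := hy.1
      rw [hA, Finset.mem_filter] at h1
      exact ⟨h1.2.2.1, hy.2.2⟩
    · intro y hy
      rw [Finset.bipartiteBelow, Finset.mem_filter] at hy
      have h1 : Subgroup.zpowers v ≤ invSub R y := by rw [Subgroup.zpowers_le]; exact hy.2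
      have h2 : Subgroup.zpowers v = invSub R y := by
        apply Subgroup.eq_of_le_of_card_ge h1
        rw [hD y hy.1, Nat.card_zpowers, hvs]
      exact h2.ge

/-- involutions with exactly one fixed point -/
theorem card_class2 (hodd : Odd (Nat.card Ω)) :
    Nat.card {y : G // y ≠ 1 ∧ y * y = 1 ∧ Nat.card (fixedBy Ω y) = 1} ≤ Nat.card Ω := by
  classical
  have hex : ∀ y : {y : G // y ≠ 1 ∧ y * y = 1 ∧ Nat.card (fixedBy Ω y) = 1}, ∃ a : Ω, (y : G) • a = a :=
    fun y => exists_fix R hodd y.2.2.1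
  choose f hf using hex
  refine Nat.card_le_card_of_injective f ?_
  have hinv : ∀ y : {y : G // y ≠ 1 ∧ y * y = 1 ∧ Nat.card (fixedBy Ω y) = 1}, ∀ x ∈ N,
      (y : G) * x * (y : G)⁻¹ = x⁻¹ := by
    rintro ⟨y, hy1, hyy, hyf⟩ x hx
    obtain ⟨a, ha⟩ := exists_fix R hodd hyy
    rw [card_fix_eq R ha, Subgroup.card_eq_one] at hyf
    -- the map `x ↦ x (y x y⁻¹)⁻¹` is injective
    have hinj : Function.Injective (fun x : N => (⟨(x : G) * (y * x * y⁻¹)⁻¹,
        (comm_mem_invSub R hyy x.2).1⟩ : N)) := by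
      rintro ⟨u, hu⟩ ⟨w, hw⟩ h
      have h1 : u * (y * u * y⁻¹)⁻¹ = w * (y * w * y⁻¹)⁻¹ := congrArg Subtype.val h
      have hyu : y * u * y⁻¹ ∈ N := R.normal.conj_mem u hu y
      have hyw : y * w * y⁻¹ ∈ N := R.normal.conj_mem w hw y
      have h2 : w⁻¹ * u = (y * w * y⁻¹)⁻¹ * (y * u * y⁻¹) := by
        calc w⁻¹ * u = w⁻¹ * (u * (y * u * y⁻¹)⁻¹) * (y * u * y⁻¹) := by group
          _ = (y * w * y⁻¹)⁻¹ * (y * u * y⁻¹) := by rw [h1]; group
      have h3 : w⁻¹ * u ∈ (N ⊓ Subgroup.centralizer ({y} : Set G) : Subgroup G) := by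
        refine ⟨N.mul_mem (N.inv_mem hw) hu, Subgroup.mem_centralizer_singleton_iff.2 ?_⟩
        calc w⁻¹ * u * y = (y * w * y⁻¹)⁻¹ * (y * u * y⁻¹) * y := by rw [h2]
          _ = y * (w⁻¹ * u) := by group
      rw [hyf, Subgroup.mem_bot] at h3
      exact Subtype.ext (inv_mul_eq_one.1 h3).symm
    have hsurj := Finite.surjective_of_injective hinj
    obtain ⟨⟨u, hu⟩, hux⟩ := hsurj ⟨x, hx⟩
    have h4 : u * (y * u * y⁻¹)⁻¹ = x := congrArg Subtype.val hux
    rw [← h4]
    exact (comm_mem_invSub R hyy hu).2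
  intro y y' h
  have h3 : (y' : G)⁻¹ * y = 1 := by
    refine eq_one_of_cent R (fun x hx => ?_) (a := f y) ?_
    · calc (y' : G)⁻¹ * y * x = (y' : G)⁻¹ * (y * x * (y : G)⁻¹) * y := by group
        _ = (y' : G)⁻¹ * ((y' : G) * x * (y' : G)⁻¹) * y := by rw [hinv y x hx, hinv y' x hx]
        _ = x * ((y' : G)⁻¹ * y) := by group
    · rw [mul_smul, hf y, inv_smul_eq_iff]
      rw [h]
      exact (hf y').symm
  exact Subtype.ext (inv_mul_eq_one.1 h3).symm

/-- the order of the group -/
theorem card_G_le (q : ℕ) (hq : ∀ p : ℕ, p.Prime → p ∣ Nat.card Ω → q ≤ p) :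
    ∃ k : ℕ, q ^ k ≤ Nat.card Ω ∧ Nat.card G ≤ Nat.card Ω ^ (k + 1) := by
  obtain ⟨B, k, -, hBk, hk, hB⟩ := R.exists_base q hq
  refine ⟨k, hk, ?_⟩
  have h1 : Nat.card G ≤ Nat.card (B → Ω) := by
    refine Nat.card_le_card_of_injective (fun g : G => fun b : B => g • (b : Ω)) ?_
    intro g h hgh
    have h2 : h⁻¹ * g = 1 := hB _ fun b hb => by
      have := congrFun hgh ⟨b, hb⟩
      rw [mul_smul, inv_smul_eq_iff]
      exact this
    exact (inv_mul_eq_one.1 h2).symm
  rw [Nat.card_fun, Nat.card_eq_fintype_card (α := B), Fintype.card_coe] at h1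
  exact h1.trans (Nat.pow_le_pow_right Nat.card_pos hBk)

end Reg

end Cfsg.Agent.H659.RC
end

-- part: H659/RC/Excl
section
/-!
# S4191, COLB2: modules of prime order, of order 9 and of order 27

`excl`: a solvable group `Q` acts irreducibly on `X`, `|X|` prime, 9 or 27, `T` normal of odd order:
elements of 2-power order commute with `T` on `X`.
-/

set_option autoImplicit false

namespace Cfsg.Agent.H659.RC

open Cfsg.Agent.H527.RC

section Thirteen

variable {Q X : Type*} [Group Q] [AddCommGroup X] [DistribMulAction Q X]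

theorem smul_zs (g : Q) (n : ℤ) (v : X) : g • (n • v) = n • (g • v) :=
  (DistribSMul.toAddMonoidHom X g).map_zsmul n v

/-- the data: `M` of order 13 acting freely on the nonzero elements, which form two orbits `± M u` -/
structure Th (M : Subgroup Q) (X : Type*) [AddCommGroup X] [DistribMulAction Q X] : Prop where
  pow : ∀ m ∈ M, m ^ 13 = 1
  comm : ∀ m ∈ M, ∀ n ∈ M, m * n = n * m
  free : ∀ m ∈ M, ∀ u : X, u ≠ 0 → m • u = u → m = 1
  two : ∀ u w : X, u ≠ 0 → w ≠ 0 → ∃ m ∈ M, ∃ ε : ℤ, (ε = 1 ∨ ε = -1) ∧ w = ε • (m • u)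
  odd : ∀ u : X, u + u = 0 → u = 0

variable {M : Subgroup Q}

theorem Th.eq_one_of_pow {m : Q} (h : Th M X) (hm : m ∈ M) {k : ℕ} (hk : k.Coprime 13) (h1 : m ^ k = 1) : m = 1 := by
  have h2 : orderOf m ∣ Nat.gcd k 13 := Nat.dvd_gcd (orderOf_dvd_of_pow_eq_one h1) (orderOf_dvd_of_pow_eq_one (h.pow m hm))
  rw [hk] at h2
  exact orderOf_eq_one_iff.1 (Nat.dvd_one.1 h2)

/-- no element inverts `M` -/
theorem Th.no_inv (h : Th M X) (hX : ∃ u : X, u ≠ 0) {x w : Q} (hx : x ∈ M) (hx1 : x ≠ 1)
    (hw : ∀ m ∈ M, w * m * w⁻¹ = m⁻¹) : False := by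
  obtain ⟨u, hu⟩ := hX
  have hwm : ∀ m ∈ M, ∀ v : X, w • (m • v) = m⁻¹ • (w • v) := by
    intro m hm v
    rw [smul_smul, smul_smul, ← hw m hm, inv_mul_cancel_right]
  have hwu : w • u ≠ 0 := by
    intro h0
    exact hu (smul_eq_zero_iff_eq w |>.1 h0)
  obtain ⟨m, hm, ε, hε, hwe⟩ := h.two u (w • u) hu hwu
  set p := m ^ 7 with hp
  have hpM : p ∈ M := M.pow_mem hm 7
  have hpp : p * p = m := by
    rw [hp, ← pow_add]
    have : m ^ (7 + 7) = m ^ 13 * m := by rw [← pow_succ]
    rw [this, h.pow m hm, one_mul]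
  set u' := p • u with hu'
  have hu'0 : u' ≠ 0 := fun h0 => hu ((smul_eq_zero_iff_eq p).1 h0)
  have hwu' : w • u' = ε • u' := by
    rw [hu', hwm p hpM, hwe, smul_zs, smul_smul]
    congr 2
    rw [← hpp]; group
  have hεε : ε * ε = 1 := by rcases hε with rfl | rfl <;> norm_num
  -- eigenvectors
  have heig : ∀ v : X, w • v = ε • v → v = 0 ∨ v = u' ∨ v = -u' := by
    intro v hv
    by_cases hv0 : v = 0
    · exact Or.inl hv0
    right
    obtain ⟨n, hn, δ, hδ, rfl⟩ := h.two u' v hu'0 hv0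
    have h1 : n⁻¹ • u' = n • u' := by
      rw [smul_zs, hwm n hn, hwu', smul_zs] at hv
      clear_value u'
      rcases hδ with rfl | rfl <;> rcases hε with rfl | rfl <;>
        simpa only [one_smul, neg_smul, neg_neg, neg_inj] using hv
    have h2 : (n * n) • u' = u' := by
      rw [mul_smul, ← h1, smul_inv_smul]
    have h3 : n * n = 1 := h.free _ (M.mul_mem hn hn) u' hu'0 h2
    have h4 : n = 1 := h.eq_one_of_pow hn (k := 2) (by norm_num) (by rw [pow_two]; exact h3)
    rw [h4, one_smul]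
    rcases hδ with rfl | rfl
    · left; exact one_smul _ _
    · right; rw [neg_smul, one_smul]
  have hz : w • (x • u' + x⁻¹ • u') = ε • (x • u' + x⁻¹ • u') := by
    rw [smul_add, hwm x hx, hwm x⁻¹ (M.inv_mem hx), hwu', inv_inv, smul_zs, smul_zs, smul_add, add_comm]
  have hx2 : ∀ k : ℕ, k.Coprime 13 → x ^ k • u' ≠ u' := by
    intro k hk hxk
    exact hx1 (h.eq_one_of_pow hx hk (h.free _ (M.pow_mem hx k) u' hu'0 hxk))
  have hmul : x • (x • u' + x⁻¹ • u') = x ^ 2 • u' + u' := by
    rw [smul_add, smul_inv_smul, smul_smul, pow_two]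
  rcases heig _ hz with hc | hc | hc
  · rw [hc, smul_zero] at hmul
    have h1 : x ^ 2 • u' = -u' := eq_neg_of_add_eq_zero_left hmul.symm
    apply hx2 4 (by norm_num)
    have : x ^ 4 = x ^ 2 * x ^ 2 := by rw [← pow_add]
    rw [this, mul_smul, h1, smul_neg, h1, neg_neg]
  · rw [hc] at hmul
    have h1 : x ^ 2 • u' = x • u' - u' := by rw [hmul]; abel
    have h2 : x ^ 3 • u' = -u' := by
      have : x ^ 3 = x * x ^ 2 := by rw [← pow_succ']
      rw [this, mul_smul, h1, smul_sub, smul_smul, ← pow_two, h1]; abel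
    apply hx2 6 (by norm_num)
    have : x ^ 6 = x ^ 3 * x ^ 3 := by rw [← pow_add]
    rw [this, mul_smul, h2, smul_neg, h2, neg_neg]
  · rw [hc, smul_neg] at hmul
    have h1 : x ^ 2 • u' = -(x • u') - u' := by rw [hmul]; abel
    have h2 : x ^ 3 • u' = u' := by
      have : x ^ 3 = x * x ^ 2 := by rw [← pow_succ']
      rw [this, mul_smul, h1, smul_sub, smul_neg, smul_smul, ← pow_two, h1]; abel
    exact hx2 3 (by norm_num) h2

/-- the centraliser of `M` -/
theorem Th.cent (h : Th M X) (hX : ∃ u : X, u ≠ 0) (hf : ∀ g : Q, (∀ v : X, g • v = v) → g = 1) {t : Q}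
    (ht : ∀ m ∈ M, t * m = m * t) {k : ℕ} (hk : Odd k) (htk : t ^ k = 1) : t ∈ M := by
  obtain ⟨u, hu⟩ := hX
  have htu : t • u ≠ 0 := fun h0 => hu ((smul_eq_zero_iff_eq t).1 h0)
  obtain ⟨m, hm, ε, hε, hte⟩ := h.two u (t • u) hu htu
  set s := m⁻¹ * t with hs
  have hsm : ∀ n ∈ M, s * n = n * s := by
    intro n hn
    rw [hs, mul_assoc, ht n hn, ← mul_assoc, h.comm _ (M.inv_mem hm) n hn, mul_assoc]
  have hsu : s • u = ε • u := by
    rw [hs, mul_smul, hte, smul_zs, inv_smul_smul]
  have hall : ∀ v : X, s • v = ε • v := by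
    intro v
    by_cases hv : v = 0
    · rw [hv, smul_zero, smul_zero]
    obtain ⟨n, hn, δ, hδ, rfl⟩ := h.two u v hu hv
    rw [smul_zs, smul_smul, hsm n hn, mul_smul, hsu, smul_zs, smul_comm]
  have hts : t = m * s := by rw [hs, mul_inv_cancel_left]
  have hs2 : s = 1 := by
    rcases hε with rfl | rfl
    · exact hf s fun v => by rw [hall, one_smul]
    · exfalso
      have h1 : s ^ 2 = 1 := hf _ fun v => by
        rw [pow_two, mul_smul, hall v, neg_smul, one_smul, smul_neg, hall v, neg_smul, one_smul, neg_neg]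
      have h2 : t ^ k = m ^ k * s ^ k := by
        rw [hts, (show Commute m s from (hsm m hm).symm).mul_pow]
      have h3 : s ^ k = s := by
        obtain ⟨j, rfl⟩ := hk
        rw [pow_succ, pow_mul, h1, one_pow, one_mul]
      rw [htk, h3] at h2
      have h4 : s = (m ^ k)⁻¹ := eq_inv_of_mul_eq_one_right h2.symm
      have h5 : s ∈ M := by rw [h4]; exact M.inv_mem (M.pow_mem hm k)
      have h6 : s = 1 := h.eq_one_of_pow h5 (k := 2) (by norm_num) h1
      have h7 := hall u
      rw [h6, one_smul, neg_smul, one_smul] at h7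
      have h8 : u + u = 0 := by
        nth_rewrite 1 [h7]
        exact neg_add_cancel u
      exact hu (h.odd u h8)
  rw [hts, hs2, mul_one]
  exact hm

end Thirteen

section Faithful

variable {Q X : Type*} [Group Q] [Finite Q] [Group.IsSolvable Q] [AddCommGroup X] [Finite X] [DistribMulAction Q X]

/-- the fixed points of a subgroup -/
def fixSub (M : Subgroup Q) (X : Type*) [AddCommGroup X] [DistribMulAction Q X] : AddSubgroup X where
  carrier := {v | ∀ m ∈ M, m • v = v}
  add_mem' := fun {a b} ha hb m hm => by rw [smul_add, ha m hm, hb m hm]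
  zero_mem' := fun m _ => smul_zero m
  neg_mem' := fun {a} ha m hm => by rw [smul_neg, ha m hm]

omit [Finite Q] [Group.IsSolvable Q] [Finite X] in
theorem mem_fixSub {M : Subgroup Q} {v : X} : v ∈ fixSub M X ↔ ∀ m ∈ M, m • v = v := Iff.rfl

omit [Group.IsSolvable Q] in
set_option linter.unusedSectionVars false in
theorem card_fixSub {M : Subgroup Q} {p : ℕ} [Fact p.Prime] (hM : IsPGroup p M) :
    Nat.card X ≡ Nat.card (fixSub M X) [MOD p] := by
  have h1 := hM.card_modEq_card_fixedPoints X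
  have h2 : Nat.card (MulAction.fixedPoints M X) = Nat.card (fixSub M X) := by
    apply Nat.card_congr
    apply Equiv.subtypeEquivRight
    intro v
    rw [MulAction.mem_fixedPoints]
    exact ⟨fun h m hm => h ⟨m, hm⟩, fun h m => h m m.2⟩
  rwa [h2] at h1

omit [Finite Q] [Group.IsSolvable Q] [Finite X] [AddCommGroup X] [DistribMulAction Q X] [Group Q] in
theorem dec13 : ∀ c : ZMod 13, c ^ 4 = 1 → c = 1 ∨ c = 12 ∨ c ^ 2 = 12 := by decide

theorem excl_faithful (hf : ∀ g : Q, (∀ v : X, g • v = v) → g = 1)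
    (hX : Nat.card X = 9 ∨ Nat.card X = 27)
    (hirr : ∀ Y : AddSubgroup X, (∀ g : Q, ∀ y ∈ Y, g • y ∈ Y) → Y = ⊥ ∨ Y = ⊤)
    (T : Subgroup Q) [hTn : T.Normal] (hT : Odd (Nat.card T)) {y t : Q} {k : ℕ} (hy : y ^ 2 ^ k = 1) (ht : t ∈ T) :
    y * t = t * y := by
  classical
  by_cases hT1 : T = ⊥
  · rw [hT1, Subgroup.mem_bot] at ht
    rw [ht, mul_one, one_mul]
  -- a minimal normal subgroup in `T`
  obtain ⟨M, ⟨hMn, hM, hMT⟩, hmin⟩ := Set.Finite.exists_minimal
    (s := {M : Subgroup Q | M.Normal ∧ M ≠ ⊥ ∧ M ≤ T}) (Set.toFinite _) ⟨T, hTn, hT1, le_rfl⟩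
  have hmin' : ∀ K : Subgroup Q, K.Normal → K ≤ M → K = ⊥ ∨ K = M := by
    intro K hK hKM
    by_cases h : K = ⊥
    · exact Or.inl h
    · exact Or.inr (le_antisymm hKM (hmin ⟨hK, h, hKM.trans hMT⟩ hKM))
  have hcomm := Cfsg.Agent.SolvableStructure.MinimalNormal.comm_of_minimal_normal M hM hmin'
  obtain ⟨r, d, hr, hd, hcard, hpow⟩ :=
    Cfsg.Agent.SolvableStructure.MinimalNormal.exists_prime_of_minimal_normal M hM hmin'
  haveI : Fact r.Prime := ⟨hr⟩
  have hMP : IsPGroup r M := IsPGroup.of_card hcard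
  have hr2 : r ≠ 2 := by
    rintro rfl
    have h1 : 2 ∣ Nat.card T := (dvd_pow_self 2 hd.ne').trans (hcard ▸ Subgroup.card_dvd_of_le hMT)
    exact (Nat.not_even_iff_odd.2 hT) (even_iff_two_dvd.2 h1)
  have hX3 : 3 ∣ Nat.card X := by rcases hX with h | h <;> rw [h] <;> norm_num
  have hr3 : r ≠ 3 := by
    rintro rfl
    have h1 : 3 ∣ Nat.card (fixSub M X) := by
      have h2 := card_fixSub (X := X) hMP
      exact (Nat.modEq_zero_iff_dvd.1 (h2.symm.trans (Nat.modEq_zero_iff_dvd.2 hX3)))
    rcases hirr (fixSub M X) (fun g v hv => by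
      rw [mem_fixSub] at hv ⊢
      intro m hm
      have h2 := hv _ (hMn.conj_mem m hm g⁻¹)
      rw [inv_inv] at h2
      calc m • g • v = g • ((g⁻¹ * m * g) • v) := by simp only [smul_smul]; group
        _ = g • v := by rw [h2]) with h | h
    · rw [h, AddSubgroup.card_bot] at h1
      norm_num at h1
    · apply hM
      rw [eq_bot_iff]
      intro m hm
      rw [Subgroup.mem_bot]
      apply hf
      intro v
      have : v ∈ fixSub M X := by rw [h]; trivial
      exact this m hm
  -- fixed points of the elements of `M`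
  have hfix : ∀ x ∈ M, x ≠ 1 → Nat.card (fixSub (Subgroup.zpowers x) X) = 1 ∧ Nat.card X = 27 ∧ r = 13 := by
    intro x hx hx1
    have hP : IsPGroup r (Subgroup.zpowers x) := hMP.to_le (by rwa [Subgroup.zpowers_le])
    have h1 := card_fixSub (X := X) hP
    have h2 : Nat.card (fixSub (Subgroup.zpowers x) X) ∣ Nat.card X := AddSubgroup.card_addSubgroup_dvd_card _
    have h3 : Nat.card (fixSub (Subgroup.zpowers x) X) ≠ Nat.card X := by
      intro h
      apply hx1
      apply hf
      intro v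
      have h4 : fixSub (Subgroup.zpowers x) X = ⊤ := AddSubgroup.eq_top_of_card_eq _ h
      have h5 : v ∈ fixSub (Subgroup.zpowers x) X := by rw [h4]; trivial
      exact h5 x (Subgroup.mem_zpowers x)
    set c := Nat.card (fixSub (Subgroup.zpowers x) X) with hc
    have hc0 : 0 < c := Nat.card_pos
    have h5 : r ∣ Nat.card X - c := (Nat.modEq_iff_dvd' (Nat.le_of_dvd Nat.card_pos h2)).1 h1.symm
    have h6 : ∀ q : ℕ, r ∣ q → q ∈ ({2, 3, 8, 6, 24, 18} : Finset ℕ) → False := by
      intro q hq hq2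
      have hr23 : r ∣ 72 := hq.trans (by
        simp only [Finset.mem_insert, Finset.mem_singleton] at hq2
        rcases hq2 with rfl | rfl | rfl | rfl | rfl | rfl <;> norm_num)
      have : (72 : ℕ) = 2 ^ 3 * 3 ^ 2 := by norm_num
      rw [this] at hr23
      rcases (hr.dvd_mul).1 hr23 with h7 | h7
      · exact hr2 ((Nat.prime_dvd_prime_iff_eq hr Nat.prime_two).1 (hr.dvd_of_dvd_pow h7))
      · exact hr3 ((Nat.prime_dvd_prime_iff_eq hr Nat.prime_three).1 (hr.dvd_of_dvd_pow h7))
    rcases hX with hX | hX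
    · exfalso
      rw [hX] at h2 h3 h5
      have h7 : c ≤ 9 := Nat.le_of_dvd (by norm_num) h2
      clear_value c
      interval_cases c
      all_goals first
        | (exact absurd rfl h3)
        | (exact h6 _ h5 (by decide))
        | (exact absurd h2 (by norm_num))
    · rw [hX] at h2 h3 h5
      have h7 : c ≤ 27 := Nat.le_of_dvd (by norm_num) h2
      have h8 : c = 1 := by
        clear_value c
        have h9 : c = 1 ∨ c = 3 ∨ c = 9 ∨ c = 27 := by
          have h10 : c ∣ 3 ^ 3 := by norm_num; exact h2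
          obtain ⟨j, hj, rfl⟩ := (Nat.dvd_prime_pow Nat.prime_three).1 h10
          interval_cases j <;> norm_num
        rcases h9 with h | h | h | h
        · exact h
        · rw [h] at h5; exact (h6 _ h5 (by decide)).elim
        · rw [h] at h5; exact (h6 _ h5 (by decide)).elim
        · exact absurd h h3
      refine ⟨h8, hX, ?_⟩
      rw [h8] at h5
      have h9 : r ∣ 2 * 13 := h5
      rcases (hr.dvd_mul).1 h9 with h10 | h10
      · exact absurd ((Nat.prime_dvd_prime_iff_eq hr Nat.prime_two).1 h10) hr2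
      · exact (Nat.prime_dvd_prime_iff_eq hr (by norm_num)).1 h10
  obtain ⟨x, hxM, hx1⟩ : ∃ x ∈ M, x ≠ 1 := by
    by_contra hcon
    push Not at hcon
    exact hM (eq_bot_iff.2 fun m hm => Subgroup.mem_bot.2 (hcon m hm))
  obtain ⟨-, hX27, hr13⟩ := hfix x hxM hx1
  subst hr13
  have hfree : ∀ m ∈ M, ∀ u : X, u ≠ 0 → m • u = u → m = 1 := by
    intro m hm u hu hmu
    by_contra hm1
    obtain ⟨h1, -, -⟩ := hfix m hm hm1
    have h2 : fixSub (Subgroup.zpowers m) X = ⊥ := AddSubgroup.card_eq_one.1 h1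
    have h3 : u ∈ fixSub (Subgroup.zpowers m) X := by
      rintro g ⟨i, rfl⟩
      have h4 : m ∈ MulAction.stabilizer Q u := hmu
      exact (MulAction.stabilizer Q u).zpow_mem h4 i
    rw [h2, AddSubgroup.mem_bot] at h3
    exact hu h3
  have hoddX : ∀ u : X, u + u = 0 → u = 0 := by
    intro u hu
    have h1 : Nat.card X • u = 0 := card_nsmul_eq_zero'
    rw [hX27] at h1
    have h2 : (27 : ℕ) • u = 13 • (u + u) + u := by abel
    rw [h2, hu, smul_zero, zero_add] at h1
    exact h1
  have hnt : ∃ u : X, u ≠ 0 := by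
    by_contra hcon
    push Not at hcon
    have h1 : Nat.card X ≤ 1 := by
      haveI : Subsingleton X := ⟨fun a b => by rw [hcon a, hcon b]⟩
      exact Finite.card_le_one_iff_subsingleton.2 inferInstance
    omega
  have hM13 : Nat.card M = 13 := by
    obtain ⟨u, hu⟩ := hnt
    have h1 : Nat.card M ≤ Nat.card X := by
      refine Nat.card_le_card_of_injective (fun m : M => (m : Q) • u) fun m n hmn => ?_
      have h2 : ((n : Q)⁻¹ * (m : Q)) • u = u := by
        rw [mul_smul]
        exact (inv_smul_eq_iff.2 hmn)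
      have h3 := hfree _ (M.mul_mem (M.inv_mem n.2) m.2) u hu h2
      exact Subtype.ext (inv_mul_eq_one.1 h3).symm
    rw [hcard, hX27] at h1
    have h2 : d < 2 := by
      by_contra h3
      have : 13 ^ 2 ≤ 13 ^ d := Nat.pow_le_pow_right (by norm_num) (by omega)
      omega
    have h3 : d = 1 := by omega
    rw [hcard, h3, pow_one]
  have htwo : ∀ u w : X, u ≠ 0 → w ≠ 0 → ∃ m ∈ M, ∃ ε : ℤ, (ε = 1 ∨ ε = -1) ∧ w = ε • (m • u) := by
    intro u w hu hw
    let f : M × Bool → {v : X // v ≠ 0} := fun a =>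
      if a.2 then ⟨(a.1 : Q) • u, fun h0 => hu ((smul_eq_zero_iff_eq _).1 h0)⟩
      else ⟨-((a.1 : Q) • u), fun h0 => hu ((smul_eq_zero_iff_eq _).1 (neg_eq_zero.1 h0))⟩
    have hf1 : Function.Injective f := by
      have key : ∀ m n : M, (m : Q) • u = (n : Q) • u → m = n := by
        intro m n hmn
        have h2 : ((n : Q)⁻¹ * (m : Q)) • u = u := by
          rw [mul_smul]
          exact (inv_smul_eq_iff.2 hmn)
        have h3 := hfree _ (M.mul_mem (M.inv_mem n.2) m.2) u hu h2
        exact Subtype.ext (inv_mul_eq_one.1 h3).symm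
      have key2 : ∀ m n : M, (m : Q) • u ≠ -((n : Q) • u) := by
        intro m n hmn
        set z := (n : Q)⁻¹ * (m : Q) with hz
        have hzM : z ∈ M := M.mul_mem (M.inv_mem n.2) m.2
        have h2 : z • u = -u := by
          rw [hz, mul_smul, hmn, smul_neg, inv_smul_smul]
        have h3 : z ^ 2 = 1 := hfree _ (M.pow_mem hzM 2) u hu (by
          rw [pow_two, mul_smul, h2, smul_neg, h2, neg_neg])
        have h4 : z = 1 := by
          have h5 := hpow z hzM
          have h6 : z ^ 13 = (z ^ 2) ^ 6 * z := by rw [← pow_mul, ← pow_succ]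
          rw [h6, h3, one_pow, one_mul] at h5
          exact h5
        rw [h4, one_smul] at h2
        exact hu (hoddX u (by nth_rewrite 1 [h2]; exact neg_add_cancel u))
      rintro ⟨m, b⟩ ⟨n, c⟩ h
      rcases b with _ | _ <;> rcases c with _ | _
      · have h1 : -((m : Q) • u) = -((n : Q) • u) := congrArg Subtype.val h
        rw [key m n (neg_injective h1)]
      · have h1 : -((m : Q) • u) = (n : Q) • u := congrArg Subtype.val h
        exact absurd h1.symm (key2 n m)
      · have h1 : (m : Q) • u = -((n : Q) • u) := congrArg Subtype.val h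
        exact absurd h1 (key2 m n)
      · have h1 : (m : Q) • u = (n : Q) • u := congrArg Subtype.val h
        rw [key m n h1]
    have hc : Nat.card (M × Bool) = Nat.card {v : X // v ≠ 0} := by
      haveI := Fintype.ofFinite X
      rw [Nat.card_prod, hM13, Nat.card_eq_fintype_card (α := Bool), Fintype.card_bool, Nat.card_eq_fintype_card,
        Fintype.card_subtype_compl (fun v : X => v = 0), Fintype.card_subtype_eq, ← Nat.card_eq_fintype_card, hX27]
    obtain ⟨⟨m, b⟩, hb⟩ := ((Nat.bijective_iff_injective_and_card f).2 ⟨hf1, hc⟩).2 ⟨w, hw⟩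
    rcases b with _ | _
    · exact ⟨m, m.2, -1, Or.inr rfl, by rw [neg_smul, one_smul]; exact (congrArg Subtype.val hb).symm⟩
    · exact ⟨m, m.2, 1, Or.inl rfl, by rw [one_smul]; exact (congrArg Subtype.val hb).symm⟩
  have hTh : Th M X := ⟨hpow, hcomm, hfree, htwo, hoddX⟩
  -- `y` centralises `M`
  have hgen : ∀ m ∈ M, ∃ i : ℕ, x ^ i = m := by
    intro m hm
    have h1 : Subgroup.zpowers x = M := by
      apply Subgroup.eq_of_le_of_card_ge (by rwa [Subgroup.zpowers_le])
      have h2 : orderOf x = 13 := orderOf_eq_prime (hpow x hxM) hx1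
      rw [Nat.card_zpowers, h2, hM13]
    have h3 : m ∈ Subgroup.zpowers x := by rw [h1]; exact hm
    obtain ⟨i, hi⟩ := (mem_powers_iff_mem_zpowers.2 h3)
    exact ⟨i, hi⟩
  have hyM : ∀ m ∈ M, y * m = m * y := by
    obtain ⟨j, hj⟩ := hgen _ (hMn.conj_mem x hxM y)
    have hconj : ∀ i : ℕ, y ^ i * x * (y ^ i)⁻¹ = x ^ (j ^ i) := by
      intro i
      induction i with
      | zero => simp
      | succ i ih =>
        have : y ^ (i + 1) * x * (y ^ (i + 1))⁻¹ = y * (y ^ i * x * (y ^ i)⁻¹) * y⁻¹ := by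
          rw [pow_succ']; group
        rw [this, ih, ← conj_pow, ← hj, ← pow_mul, pow_succ']
    have hord : orderOf x = 13 := orderOf_eq_prime (hpow x hxM) hx1
    have hcast : ∀ a b : ℕ, ((a : ZMod 13) = (b : ZMod 13)) → x ^ a = x ^ b := by
      intro a b hab
      rw [pow_eq_pow_iff_modEq, hord]
      exact (ZMod.natCast_eq_natCast_iff a b 13).1 hab
    have h1 : ((j : ZMod 13)) ^ 2 ^ k = 1 := by
      have h2 := hconj (2 ^ k)
      rw [hy, one_mul, inv_one, mul_one] at h2
      have h3 : x ^ 1 = x ^ (j ^ 2 ^ k) := by rw [pow_one]; exact h2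
      rw [pow_eq_pow_iff_modEq, hord] at h3
      have h4 := (ZMod.natCast_eq_natCast_iff 1 (j ^ 2 ^ k) 13).2 h3
      push_cast at h4
      exact h4.symm
    haveI : Fact (Nat.Prime 13) := ⟨by norm_num⟩
    have h4 : ((j : ZMod 13)) ^ 4 = 1 := by
      have hj0 : (j : ZMod 13) ≠ 0 := by
        intro h0
        rw [h0, zero_pow (by positivity)] at h1
        exact zero_ne_one h1
      have h5 : ((j : ZMod 13)) ^ 12 = 1 := ZMod.pow_card_sub_one_eq_one hj0
      have h6 : orderOf (j : ZMod 13) ∣ 4 := by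
        have h7 := Nat.dvd_gcd (orderOf_dvd_of_pow_eq_one h1) (orderOf_dvd_of_pow_eq_one h5)
        refine h7.trans ?_
        have h8 : Nat.gcd (2 ^ k) 12 ∣ 4 * 3 := Nat.gcd_dvd_right _ _
        refine Nat.Coprime.dvd_of_dvd_mul_right ?_ h8
        exact Nat.Coprime.coprime_dvd_left (Nat.gcd_dvd_left _ _) (Nat.Coprime.pow_left k (by norm_num))
      exact orderOf_dvd_iff_pow_eq_one.1 h6
    have hinv : ∀ i : ℕ, ((j : ZMod 13)) ^ i = 12 → False := by
      intro i hi
      apply hTh.no_inv hnt hxM hx1 (w := y ^ i)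
      intro m hm
      obtain ⟨a, rfl⟩ := hgen m hm
      have h5 : y ^ i * x * (y ^ i)⁻¹ = x⁻¹ := by
        rw [hconj i]
        have h6 : x ^ (j ^ i) = x ^ 12 := hcast _ _ (by push_cast; rw [hi])
        rw [h6]
        exact eq_inv_of_mul_eq_one_left (by rw [← pow_succ]; exact hpow x hxM)
      rw [← conj_pow, h5, inv_pow]
    have hc : (j : ZMod 13) = 1 := by
      rcases dec13 _ h4 with h | h | h
      · exact h
      · exact (hinv 1 (by rw [pow_one]; exact h)).elim
      · exact (hinv 2 h).elim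
    have hyx : y * x = x * y := by
      have h5 : x ^ j = x ^ 1 := hcast _ _ (by rw [hc]; norm_num)
      rw [hj, pow_one] at h5
      calc y * x = y * x * y⁻¹ * y := by group
        _ = x * y := by rw [h5]
    intro m hm
    obtain ⟨a, rfl⟩ := hgen m hm
    exact (show Commute y x from hyx).pow_right a
  -- the commutator
  set e := y * t * y⁻¹ * t⁻¹ with he
  have heT : e ∈ T := T.mul_mem (hTn.conj_mem t ht y) (T.inv_mem ht)
  have hee : e ^ Nat.card T = 1 := by
    have h1 : (⟨e, heT⟩ : T) ^ Nat.card T = 1 := pow_card_eq_one'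
    exact congrArg Subtype.val h1
  have hcent : ∀ m ∈ M, e * m = m * e := by
    intro m hm
    have h1 : t⁻¹ * m * t ∈ M := by
      have := hMn.conj_mem m hm t⁻¹
      rwa [inv_inv] at this
    have h2 : y⁻¹ * (t⁻¹ * m * t) * y = t⁻¹ * m * t := by
      rw [mul_assoc, ← hyM _ h1, inv_mul_cancel_left]
    have h3 : t⁻¹ * m = (t⁻¹ * m * t) * t⁻¹ := by group
    calc e * m = y * t * y⁻¹ * (t⁻¹ * m) := by rw [he]; group
      _ = y * t * (y⁻¹ * (t⁻¹ * m * t) * y) * y⁻¹ * t⁻¹ := by rw [h3]; group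
      _ = y * t * (t⁻¹ * m * t) * y⁻¹ * t⁻¹ := by rw [h2]
      _ = y * m * t * y⁻¹ * t⁻¹ := by group
      _ = m * y * t * y⁻¹ * t⁻¹ := by rw [hyM m hm]
      _ = m * e := by rw [he]; group
  have heM : e ∈ M := hTh.cent hnt hf hcent hT hee
  have hye := hyM e heM
  have hpw : ∀ i : ℕ, y ^ i * t * (y ^ i)⁻¹ = e ^ i * t := by
    intro i
    induction i with
    | zero => simp
    | succ i ih =>
      have h1 : y ^ (i + 1) * t * (y ^ (i + 1))⁻¹ = y * (y ^ i * t * (y ^ i)⁻¹) * y⁻¹ := by
        rw [pow_succ']; group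
      have h2 : y * t * y⁻¹ = e * t := by rw [he]; group
      have h3 : y * e ^ i = e ^ i * y := (show Commute y e from hye).pow_right i
      rw [h1, ih]
      calc y * (e ^ i * t) * y⁻¹ = (y * e ^ i) * t * y⁻¹ := by group
        _ = e ^ i * (y * t * y⁻¹) := by rw [h3]; simp only [mul_assoc]
        _ = e ^ i * (e * t) := by rw [h2]
        _ = e ^ (i + 1) * t := by rw [pow_succ, mul_assoc (e ^ i) e t]
  have h1 := hpw (2 ^ k)
  rw [hy, one_mul, inv_one, mul_one] at h1
  have h2 : e ^ 2 ^ k = 1 := (mul_eq_right.1 h1.symm)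
  have h3 : e = 1 := hTh.eq_one_of_pow heM (k := 2 ^ k) (Nat.Coprime.pow_left k (by norm_num)) h2
  calc y * t = e * t * y := by rw [he]; group
    _ = t * y := by rw [h3, one_mul]

end Faithful

/-- **the exclusion lemma** -/
theorem excl {Q X : Type*} [Group Q] [Finite Q] [Group.IsSolvable Q] [AddCommGroup X] [Finite X]
    [DistribMulAction Q X] (hX : (Nat.card X).Prime ∨ Nat.card X = 9 ∨ Nat.card X = 27)
    (hirr : ∀ Y : AddSubgroup X, (∀ g : Q, ∀ y ∈ Y, g • y ∈ Y) → Y = ⊥ ∨ Y = ⊤)
    (T : Subgroup Q) [hTn : T.Normal] (hT : Odd (Nat.card T)) {y t : Q} (hy : ∃ k : ℕ, y ^ 2 ^ k = 1) (ht : t ∈ T)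
    (u : X) : (y * t) • u = (t * y) • u := by
  rcases hX with hX | hX
  · haveI : Fact (Nat.card X).Prime := ⟨hX⟩
    haveI : IsAddCyclic X := isAddCyclic_of_prime_card rfl
    obtain ⟨g, hg⟩ := IsAddCyclic.exists_generator (α := X)
    have h1 : ∀ v : X, ∃ n : ℤ, n • g = v := fun v => AddSubgroup.mem_zmultiples_iff.1 (hg v)
    obtain ⟨m, rfl⟩ := h1 u
    obtain ⟨a, ha⟩ := h1 (y • g)
    obtain ⟨b, hb⟩ := h1 (t • g)
    rw [smul_zs, smul_zs, mul_smul, mul_smul, ← ha, ← hb, smul_zs, smul_zs, ← ha, ← hb]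
    congr 1
    exact smul_comm _ _ _
  · let φ : Q →* Equiv.Perm X := MulAction.toPermHom Q X
    have hφ : ∀ (g : Q) (v : X), φ g v = g • v := fun g v => rfl
    letI : DistribMulAction φ.range X :=
      { smul := fun g v => (g : Equiv.Perm X) v
        one_smul := fun v => rfl
        mul_smul := fun g h v => rfl
        smul_zero := fun g => by
          obtain ⟨_, q, rfl⟩ := g
          exact smul_zero q
        smul_add := fun g v w => by
          obtain ⟨_, q, rfl⟩ := g
          exact smul_add q v w }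
    haveI : Group.IsSolvable φ.range := solvable_of_surjective φ.rangeRestrict_surjective
    haveI : (T.map φ.rangeRestrict).Normal := Subgroup.Normal.map hTn _ φ.rangeRestrict_surjective
    have hc : Odd (Nat.card (T.map φ.rangeRestrict)) := hT.of_dvd_nat (Subgroup.card_map_dvd _ _)
    obtain ⟨k, hk⟩ := hy
    have := excl_faithful (Q := φ.range) (X := X) (fun g hg => Subtype.ext (by ext v; exact hg v)) hX
      (fun Y hY => hirr Y fun g y hy => hY ⟨φ g, g, rfl⟩ y hy) (T.map φ.rangeRestrict) hc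
      (y := φ.rangeRestrict y) (t := φ.rangeRestrict t) (k := k) (by rw [← map_pow, hk, map_one]) ⟨t, ht, rfl⟩
    rw [← map_mul, ← map_mul] at this
    have h2 := congrArg (fun z : φ.range => (z : Equiv.Perm X) u) this
    exact h2

end Cfsg.Agent.H659.RC
end

-- part: H659/RC/ColB2
section
/-!
# S4191, COLB2: `ColB 2 1 4`
-/

set_option autoImplicit false
set_option linter.unusedSectionVars false

namespace Cfsg.Agent.H659.RC

open scoped Pointwise commutatorElement
open MulAction Cfsg.Agent.H308.ClsSet Cfsg.Agent.H527.RC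

universe u

/-! ### numbers -/

theorem num_choose (m : ℕ) (hm : 4 ≤ m) : 2 * (2 * m + 1).choose m ≤ 2 ^ (2 * m) := by
  induction m, hm using Nat.le_induction with
  | base => decide
  | succ m hm ih =>
    have h1 : (2 * (m + 1) + 1).choose (m + 1) * ((m + 1) * (m + 2)) =
        (2 * m + 1).choose m * ((2 * m + 3) * (2 * m + 2)) := by
      have e1 := Nat.add_one_mul_choose_eq (2 * m + 2) m
      have e2 := Nat.add_one_mul_choose_eq (2 * m + 1) (m + 1)
      have e3 : (2 * m + 1).choose (m + 1) = (2 * m + 1).choose m := by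
        apply Nat.choose_symm_of_eq_add; omega
      have e4 : (2 * m + 2).choose (m + 2) = (2 * m + 2).choose m := by
        apply Nat.choose_symm_of_eq_add; omega
      -- (2m+3) C(2m+2, m) = C(2m+3, m+1) (m+1)
      have e5 : (2 * m + 3) * (2 * m + 2).choose m = (2 * m + 3).choose (m + 1) * (m + 1) := e1
      have e6 : (2 * m + 2) * (2 * m + 1).choose (m + 1) = (2 * m + 2).choose (m + 2) * (m + 2) := e2
      rw [e3, e4] at e6
      have e7 : 2 * (m + 1) + 1 = 2 * m + 3 := by ring
      rw [e7]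
      calc (2 * m + 3).choose (m + 1) * ((m + 1) * (m + 2)) =
          ((2 * m + 3).choose (m + 1) * (m + 1)) * (m + 2) := by ring
        _ = (2 * m + 3) * ((2 * m + 2).choose m * (m + 2)) := by rw [← e5]; ring
        _ = _ := by rw [← e6]; ring
    have h2 : (2 * (m + 1) + 1).choose (m + 1) ≤ 4 * (2 * m + 1).choose m := by
      have h3 : (2 * (m + 1) + 1).choose (m + 1) * ((m + 1) * (m + 2)) ≤
          (4 * (2 * m + 1).choose m) * ((m + 1) * (m + 2)) := by
        rw [h1]
        have : (2 * m + 3) * (2 * m + 2) ≤ 4 * ((m + 1) * (m + 2)) := by linarith only []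
        calc _ ≤ (2 * m + 1).choose m * (4 * ((m + 1) * (m + 2))) := Nat.mul_le_mul_left _ this
          _ = _ := by ring
      exact Nat.le_of_mul_le_mul_right h3 (by positivity)
    have h3 : 2 ^ (2 * (m + 1)) = 4 * 2 ^ (2 * m) := by rw [mul_add, pow_add]; ring
    rw [h3]
    omega

theorem num_two (m : ℕ) (hm : 2 ≤ m) :
    ((2 * m + 1) ^ 2 * (2 * m + 2)) * 2 ^ (2 * m ^ 2 + 3 * m + 1) +
      (2 * m + 1) ^ 2 * 2 ^ (2 * m ^ 2 + 2 * m + 1) < 2 ^ (4 * m ^ 2 + 4 * m) := by
  have h1 : 2 * m + 3 < 2 ^ (m + 1) := by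
    induction m, hm using Nat.le_induction with
    | base => norm_num
    | succ m hm ih => rw [pow_succ]; omega
  have h2 : (2 * m + 1) ^ 2 * (2 * m + 3) < 2 ^ (3 * m + 3) := by
    have : (2 : ℕ) ^ (3 * m + 3) = (2 ^ (m + 1)) ^ 2 * 2 ^ (m + 1) := by rw [← pow_mul, ← pow_add]; congr 1; ring
    rw [this]
    exact Nat.mul_lt_mul_of_le_of_lt (Nat.pow_le_pow_left (by omega) 2) h1 (by positivity)
  have h3 : (2 * m + 1) ^ 2 * (2 * m + 2) * 2 ^ m + (2 * m + 1) ^ 2 ≤ (2 * m + 1) ^ 2 * (2 * m + 3) * 2 ^ m := by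
    have : 1 ≤ 2 ^ m := Nat.one_le_two_pow
    linarith only [Nat.mul_le_mul_left ((2 * m + 1) ^ 2) this]
  have h4 : (2 * m + 1) ^ 2 * (2 * m + 3) * 2 ^ m < 2 ^ (4 * m + 3) := by
    have : (2 : ℕ) ^ (4 * m + 3) = 2 ^ (3 * m + 3) * 2 ^ m := by rw [← pow_add]; congr 1; ring
    rw [this]
    exact Nat.mul_lt_mul_of_pos_right h2 (by positivity)
  have h5 : 4 * m + 3 + (2 * m ^ 2 + 2 * m + 1) ≤ 4 * m ^ 2 + 4 * m := by nlinarith only [hm]
  calc ((2 * m + 1) ^ 2 * (2 * m + 2)) * 2 ^ (2 * m ^ 2 + 3 * m + 1) +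
        (2 * m + 1) ^ 2 * 2 ^ (2 * m ^ 2 + 2 * m + 1)
      = ((2 * m + 1) ^ 2 * (2 * m + 2) * 2 ^ m + (2 * m + 1) ^ 2) * 2 ^ (2 * m ^ 2 + 2 * m + 1) := by
        have : (2 : ℕ) ^ (2 * m ^ 2 + 3 * m + 1) = 2 ^ m * 2 ^ (2 * m ^ 2 + 2 * m + 1) := by
          rw [← pow_add]; congr 1; ring
        rw [this]; ring
    _ < 2 ^ (4 * m + 3) * 2 ^ (2 * m ^ 2 + 2 * m + 1) :=
        Nat.mul_lt_mul_of_pos_right (h3.trans_lt h4) (by positivity)
    _ = 2 ^ (4 * m + 3 + (2 * m ^ 2 + 2 * m + 1)) := (pow_add 2 _ _).symm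
    _ ≤ _ := Nat.pow_le_pow_right (by norm_num) h5

theorem num_a {m : ℕ} (hm : 25 ≤ m) : 9 * (m + 2) ^ 2 ≤ 2 ^ m := by
  induction m, hm using Nat.le_induction with
  | base => norm_num
  | succ m hm ih =>
    rw [pow_succ 2 m]
    nlinarith

theorem num_A {n : ℕ} (hn : 81 ≤ n) : n ^ 2 * 2 ^ (2 * n / 3) ≤ 2 ^ (n - 2) := by
  set m := n - 2 - 2 * n / 3 with hm
  have h1 : n - 2 = m + 2 * n / 3 := by omega
  rw [h1, pow_add]
  apply Nat.mul_le_mul_right
  have h2 : n ≤ 3 * (m + 2) := by omega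
  calc n ^ 2 ≤ (3 * (m + 2)) ^ 2 := Nat.pow_le_pow_left h2 2
    _ = 9 * (m + 2) ^ 2 := by ring
    _ ≤ 2 ^ m := num_a (by omega)

theorem num_log' {K : ℕ} (hK : 5 ≤ K) : 18 * (K + 1) ^ 2 + 18 ≤ 4 * 3 ^ K := by
  induction K, hK using Nat.le_induction with
  | base => norm_num
  | succ K hK ih =>
    rw [pow_succ 3 K]
    nlinarith

theorem num_small' {n : ℕ} (h1 : 81 ≤ n) (h2 : n < 243) : n ^ 5 < 2 ^ (n - 2 - 5 * n / 9) := by
  interval_cases n <;> norm_num only []

theorem num_B {n k : ℕ} (hn : 81 ≤ n) (hk : 3 ^ k ≤ n) : n ^ (k + 1) * 2 ^ (5 * n / 9) < 2 ^ (n - 2) := by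
  set m := n - 2 - 5 * n / 9 with hm
  have h1 : n - 2 = m + 5 * n / 9 := by omega
  rw [h1, pow_add 2 m]
  apply Nat.mul_lt_mul_of_pos_right _ (by positivity)
  by_cases h : n < 243
  · have h2 : k ≤ 4 := by
      by_contra h3
      have : 3 ^ 5 ≤ 3 ^ k := Nat.pow_le_pow_right (by norm_num) (by omega)
      omega
    exact (Nat.pow_le_pow_right (by omega) (by omega)).trans_lt (num_small' hn h)
  · set K := Nat.log 3 n with hK
    have hK1 : 3 ^ K ≤ n := Nat.pow_log_le_self 3 (by omega)
    have hK2 : n < 3 ^ (K + 1) := Nat.lt_pow_succ_log_self (by norm_num) n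
    have h5 : 5 ≤ K := by
      by_contra h3
      have : 3 ^ (K + 1) ≤ 3 ^ 5 := Nat.pow_le_pow_right (by norm_num) (by omega)
      omega
    have hkK : k ≤ K := Nat.le_log_of_pow_le (by norm_num) hk
    have h6 := num_log' h5
    calc n ^ (k + 1) ≤ n ^ (K + 1) := Nat.pow_le_pow_right (by omega) (by omega)
      _ < (3 ^ (K + 1)) ^ (K + 1) := Nat.pow_lt_pow_left hK2 (by omega)
      _ ≤ (4 ^ (K + 1)) ^ (K + 1) := Nat.pow_le_pow_left (Nat.pow_le_pow_left (by norm_num) _) _
      _ = 2 ^ (2 * (K + 1) ^ 2) := by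
          rw [show (4 : ℕ) = 2 ^ 2 by norm_num, ← pow_mul, ← pow_mul]; congr 1; ring
      _ ≤ 2 ^ m := Nat.pow_le_pow_right (by norm_num) (by omega)

/-! ### from few bad sets to four rigid sets -/

theorem four_sizes {Ω : Type*} [Finite Ω] (B : Set (Set Ω)) (hodd : Odd (Nat.card Ω)) (hn : 9 ≤ Nat.card Ω)
    (hB : B.ncard < 2 ^ (Nat.card Ω - 1)) (hcompl : ∀ Γ : Set Ω, Γᶜ ∈ B → Γ ∈ B) :
    ∃ Γ : Fin 4 → Set Ω, (∀ i, Γ i ∉ B) ∧ ∀ i j, (Γ i).ncard = (Γ j).ncard → i = j := by
  classical
  have := Fintype.ofFinite Ω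
  set n := Nat.card Ω with hn'
  have hn1 : Fintype.card Ω = n := Nat.card_eq_fintype_card.symm
  obtain ⟨m, hm⟩ := hodd
  have hch : ∀ k, n.choose k ≤ n.choose m := by
    intro k
    have := Nat.choose_le_middle k n
    have h2 : n / 2 = m := by omega
    rwa [h2] at this
  have hch2 : 2 * n.choose m ≤ 2 ^ (n - 1) := by
    have := num_choose m (by omega)
    rw [← hm] at this
    have h2 : n - 1 = 2 * m := by omega
    rwa [h2]
  set R : Finset (Finset Ω) := Finset.univ.filter fun Γ => (Γ : Set Ω) ∉ B with hR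
  have hRc : 2 ^ (n - 1) < R.card := by
    have h1 : (Finset.univ.filter fun Γ : Finset Ω => (Γ : Set Ω) ∈ B).card ≤ B.ncard := by
      rw [← Set.ncard_coe_finset]
      refine Set.ncard_le_ncard_of_injOn (fun Γ : Finset Ω => (Γ : Set Ω)) ?_ ?_ (Set.toFinite B)
      · intro Γ hΓ
        simpa only [_root_.Finset.coe_filter, _root_.Finset.mem_univ, _root_.true_and, _root_.Set.mem_ofPred_eq] using hΓ
      · intro a _ b _ h
        exact Finset.coe_injective h
    have h2 := Finset.card_filter_add_card_filter_not (s := (Finset.univ : Finset (Finset Ω)))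
      (fun Γ : Finset Ω => (Γ : Set Ω) ∈ B)
    rw [Finset.card_univ, Fintype.card_finset, hn1] at h2
    have h4 : (Finset.univ.filter fun Γ : Finset Ω => (Γ : Set Ω) ∈ B).card + R.card = 2 ^ n := h2
    have h3 : 2 ^ n = 2 ^ (n - 1) + 2 ^ (n - 1) := by
      rw [← two_mul, ← pow_succ']; congr 1; omega
    omega
  have hsize : ∀ k, (Finset.univ.filter fun Γ : Finset Ω => Γ.card = k).card = n.choose k := by
    intro k
    rw [← hn1, ← Fintype.card_finset_len, Fintype.card_subtype]
  obtain ⟨Γ₁, hΓ₁⟩ : R.Nonempty := Finset.card_pos.1 (lt_of_le_of_lt (Nat.zero_le _) hRc)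
  obtain ⟨Γ₂, hΓ₂, hΓ₂'⟩ : ∃ Γ₂ ∈ R, ¬ (Γ₂.card = Γ₁.card ∨ Γ₂.card = n - Γ₁.card) := by
    by_contra hcon
    push Not at hcon
    have h1 : R ⊆ (Finset.univ.filter fun Γ : Finset Ω => Γ.card = Γ₁.card) ∪
        (Finset.univ.filter fun Γ : Finset Ω => Γ.card = n - Γ₁.card) := by
      intro Γ hΓ
      rw [Finset.mem_union, Finset.mem_filter, Finset.mem_filter]
      rcases hcon Γ hΓ with h | h
      · exact Or.inl ⟨Finset.mem_univ _, h⟩
      · exact Or.inr ⟨Finset.mem_univ _, h⟩
    have h2 := (Finset.card_le_card h1).trans (Finset.card_union_le _ _)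
    rw [hsize, hsize] at h2
    have := hch Γ₁.card
    have := hch (n - Γ₁.card)
    omega
  rw [hR, Finset.mem_filter] at hΓ₁ hΓ₂
  have hc1 : Γ₁.card ≤ n := by rw [← hn1]; exact Finset.card_le_univ _
  have hc2 : Γ₂.card ≤ n := by rw [← hn1]; exact Finset.card_le_univ _
  have hcc : ∀ Γ : Finset Ω, ((Γ : Set Ω)ᶜ).ncard = n - Γ.card := by
    intro Γ
    rw [Set.ncard_compl, Set.ncard_coe_finset]
  refine ⟨![(Γ₁ : Set Ω), (Γ₁ : Set Ω)ᶜ, (Γ₂ : Set Ω), (Γ₂ : Set Ω)ᶜ], ?_, ?_⟩
  · intro i
    fin_cases i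
    · exact hΓ₁.2
    · exact fun h => hΓ₁.2 (hcompl _ h)
    · exact hΓ₂.2
    · exact fun h => hΓ₂.2 (hcompl _ h)
  · have hval : ∀ i : Fin 4, ((![(Γ₁ : Set Ω), (Γ₁ : Set Ω)ᶜ, (Γ₂ : Set Ω), (Γ₂ : Set Ω)ᶜ] : Fin 4 → Set Ω) i).ncard =
        (![Γ₁.card, n - Γ₁.card, Γ₂.card, n - Γ₂.card] : Fin 4 → ℕ) i := by
      intro i
      fin_cases i
      · exact Set.ncard_coe_finset _
      · exact hcc _
      · exact Set.ncard_coe_finset _
      · exact hcc _
    rw [not_or] at hΓ₂'
    intro i j hij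
    rw [hval, hval] at hij
    fin_cases i <;> fin_cases j <;> simp only [_root_.Fin.zero_eta, _root_.Fin.isValue, _root_.Matrix.cons_val_zero, _root_.Fin.mk_one, _root_.Matrix.cons_val_one, _root_.zero_ne_one, _root_.Fin.reduceFinMk, _root_.Matrix.cons_val, _root_.Fin.reduceEq, _root_.one_ne_zero] at hij ⊢ <;> (clear * - hn1 hm hc1 hij hΓ₂' hc2; omega)

/-! ### the affine structure -/

section Structure

variable {H Δ : Type u} [Group H] [Finite H] [Group.IsSolvable H] [MulAction H Δ] [FaithfulSMul H Δ] [Finite Δ]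
  [Nontrivial Δ]

/-- the regular normal subgroup is minimal -/
theorem min_of_prim [hp : IsPreprimitive H Δ] {N : Subgroup H} (R : Reg (Ω := Δ) N) (K : Subgroup H) (hK : K.Normal)
    (hKN : K ≤ N) : K = ⊥ ∨ K = N := by
  by_cases h : K = ⊥
  · exact Or.inl h
  right
  refine le_antisymm hKN fun x hx => ?_
  haveI := Cfsg.Agent.SolvableStructure.PrimitiveSolvable.isPretransitive_of_normal hp K h
  obtain ⟨a, -⟩ := exists_pair_ne Δ
  obtain ⟨k, hk⟩ := exists_smul_eq K a (x • a)
  have h1 : (k : H) = x := R.inj (hKN k.2) hx hk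
  rw [← h1]
  exact k.2

/-- the action by conjugation on the additive group `N` -/
@[reducible] def conjAct (N : Subgroup H) (hN : N.Normal) : DistribMulAction H (Additive N) where
  smul g x := Additive.ofMul ⟨g * ((Additive.toMul x : N) : H) * g⁻¹, hN.conj_mem _ (Additive.toMul x).2 g⟩
  one_smul x := by
    apply Additive.toMul.injective
    apply Subtype.ext
    change (1 : H) * ((Additive.toMul x : N) : H) * (1 : H)⁻¹ = ((Additive.toMul x : N) : H)
    group
  mul_smul g h x := by
    apply Additive.toMul.injective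
    apply Subtype.ext
    change (g * h) * ((Additive.toMul x : N) : H) * (g * h)⁻¹ = g * (h * ((Additive.toMul x : N) : H) * h⁻¹) * g⁻¹
    group
  smul_zero g := by
    apply Additive.toMul.injective
    apply Subtype.ext
    change g * (1 : H) * g⁻¹ = 1
    group
  smul_add g x y := by
    apply Additive.toMul.injective
    apply Subtype.ext
    change g * (((Additive.toMul x : N) : H) * ((Additive.toMul y : N) : H)) * g⁻¹ =
      (g * ((Additive.toMul x : N) : H) * g⁻¹) * (g * ((Additive.toMul y : N) : H) * g⁻¹)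
    group

/-- in prime degree, degree 9 and 27 the 2-elements act simply -/
theorem fh_of_small [hp : IsPreprimitive H Δ] {N : Subgroup H} (R : Reg (Ω := Δ) N) {L : Subgroup H} (hL : LP 2 L)
    (hodd : Odd (Nat.card Δ)) (hn : (Nat.card Δ).Prime ∨ Nat.card Δ = 9 ∨ Nat.card Δ = 27) {y : H} (hy : PEl 2 y) :
    FH 1 (⁅L, Subgroup.zpowers y⁆ : Subgroup H) := by
  haveI := hL.normal
  haveI := R.normal
  have hoddL : Odd (Nat.card L) := by
    rw [← Nat.not_even_iff_odd, even_iff_two_dvd]
    exact hL.cop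
  letI : CommGroup N := { (inferInstance : Group N) with mul_comm := fun a b => Subtype.ext (R.comm a a.2 b b.2) }
  letI := conjAct N R.normal
  have hcard : Nat.card (Additive N) = Nat.card Δ := R.card
  obtain ⟨k, hk⟩ := hy
  have hall : ∀ z ∈ Subgroup.zpowers y, ∃ k : ℕ, z ^ 2 ^ k = 1 := by
    rintro _ ⟨i, rfl⟩
    refine ⟨k, ?_⟩
    change (y ^ i) ^ (2 ^ k) = 1
    rw [← zpow_natCast, ← zpow_mul, mul_comm, zpow_mul, zpow_natCast, hk, one_zpow]
  have key : ∀ t ∈ L, ∀ z ∈ Subgroup.zpowers y, t * z * t⁻¹ * z⁻¹ ∈ N := by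
    intro t ht z hz
    have h1 := excl (Q := H) (X := Additive N) (by rw [hcard]; exact hn) (fun Y hY => ?_) L hoddL
      (y := z) (t := t) (hall z hz) ht
    · -- the commutator centralises `N`
      have h2 : ∀ x ∈ N, (z * t) * x * (z * t)⁻¹ = (t * z) * x * (t * z)⁻¹ := by
        intro x hx
        have h3 := h1 (Additive.ofMul ⟨x, hx⟩)
        exact congrArg (fun w : Additive N => ((Additive.toMul w : N) : H)) h3
      have h3 : ∀ x ∈ N, (t * z * t⁻¹ * z⁻¹) * x = x * (t * z * t⁻¹ * z⁻¹) := by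
        intro x hx
        have h4 : (z * t)⁻¹ * x * (z * t) ∈ N := by
          have := R.normal.conj_mem x hx (z * t)⁻¹
          rwa [inv_inv] at this
        have h5 := h2 _ h4
        have h6 : (t * z) * ((z * t)⁻¹ * x * (z * t)) * (t * z)⁻¹ = x := by
          rw [← h5]; group
        calc (t * z * t⁻¹ * z⁻¹) * x = (t * z) * ((z * t)⁻¹ * x * (z * t)) * (t * z)⁻¹ * (t * z * t⁻¹ * z⁻¹) := by group
          _ = x * (t * z * t⁻¹ * z⁻¹) := by rw [h6]
      obtain ⟨a, -⟩ := exists_pair_ne Δ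
      set g := t * z * t⁻¹ * z⁻¹ with hg
      obtain ⟨x, hx, hxa⟩ := R.trans a (g • a)
      have h4 : x⁻¹ * g = 1 := by
        refine eq_one_of_cent R (fun w hw => ?_) (a := a) ?_
        · calc x⁻¹ * g * w = x⁻¹ * (g * w) := mul_assoc _ _ _
            _ = x⁻¹ * (w * g) := by rw [h3 w hw]
            _ = (x⁻¹ * w) * g := (mul_assoc _ _ _).symm
            _ = (w * x⁻¹) * g := by rw [R.comm _ (N.inv_mem hx) w hw]
            _ = w * (x⁻¹ * g) := mul_assoc _ _ _
        · rw [mul_smul, ← hxa, inv_smul_smul]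
      rw [← inv_mul_eq_one.1 h4]
      exact hx
    · -- irreducibility
      let K : Subgroup H :=
        { carrier := {x | ∃ hx : x ∈ N, (Additive.ofMul ⟨x, hx⟩ : Additive N) ∈ Y}
          mul_mem' := by
            rintro a b ⟨ha, ha'⟩ ⟨hb, hb'⟩
            exact ⟨N.mul_mem ha hb, Y.add_mem ha' hb'⟩
          one_mem' := ⟨N.one_mem, Y.zero_mem⟩
          inv_mem' := by
            rintro a ⟨ha, ha'⟩
            exact ⟨N.inv_mem ha, Y.neg_mem ha'⟩ }
      have hKn : K.Normal := ⟨by
        rintro x ⟨hx, hx'⟩ g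
        exact ⟨R.normal.conj_mem x hx g, hY g _ hx'⟩⟩
      rcases min_of_prim R K hKn (fun x hx => hx.1) with h | h
      · left
        rw [eq_bot_iff]
        intro v hv
        have h2 : ((Additive.toMul v : N) : H) ∈ K := ⟨(Additive.toMul v).2, hv⟩
        rw [h, Subgroup.mem_bot] at h2
        rw [AddSubgroup.mem_bot]
        exact Additive.toMul.injective (Subtype.ext h2)
      · right
        rw [eq_top_iff]
        intro v _
        have h2 : ((Additive.toMul v : N) : H) ∈ K := by rw [h]; exact (Additive.toMul v).2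
        exact h2.2
  have hle : (⁅L, Subgroup.zpowers y⁆ : Subgroup H) ≤ N := by
    rw [Subgroup.commutator_le]
    intro t ht z hz
    exact key t ht z hz
  refine ⟨⊤, inferInstance, ?_, ?_⟩
  · rw [Group.isNilpotent_top]
    refine ⟨⟨1, ?_⟩⟩
    rw [Subgroup.upperCentralSeries_one, eq_top_iff]
    intro a _
    rw [Subgroup.mem_center_iff]
    intro b
    exact Subtype.ext (R.comm _ (hle b.2) _ (hle a.2))
  · exact QuotientGroup.subsingleton_quotient_top

end Structure

/-- a 2-element preserving a set: an involution preserving it -/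
theorem rig_of {H Δ : Type u} [Group H] [MulAction H Δ] {Γ : Set Δ}
    (h : ∀ y : H, y ≠ 1 → y * y = 1 → y • Γ ≠ Γ) : Rig 2 H (fun δ => δ ∈ Γ) := by
  classical
  rintro y ⟨k, hk⟩ hy δ
  by_cases hy1 : y = 1
  · rw [hy1, one_smul]
  exfalso
  have hex : ∃ k, y ^ 2 ^ k = 1 := ⟨k, hk⟩
  have h1 := Nat.find_spec hex
  have h0 : Nat.find hex ≠ 0 := by
    intro h0
    rw [h0, pow_zero, pow_one] at h1
    exact hy1 h1
  obtain ⟨j, hj⟩ := Nat.exists_eq_succ_of_ne_zero h0
  have h2 : y ^ 2 ^ j ≠ 1 := Nat.find_min hex (by omega)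
  rw [hj, Nat.succ_eq_add_one, pow_succ, pow_mul, pow_two] at h1
  have hyΓ : y • Γ = Γ := by
    ext δ
    constructor
    · rintro ⟨γ, hγ, rfl⟩
      have : (y • γ ∈ Γ) = (γ ∈ Γ) := hy γ
      change y • γ ∈ Γ
      rw [this]
      exact hγ
    · intro hδ
      refine ⟨y⁻¹ • δ, ?_, smul_inv_smul y δ⟩
      have : (y • y⁻¹ • δ ∈ Γ) = (y⁻¹ • δ ∈ Γ) := hy (y⁻¹ • δ)
      rw [smul_inv_smul] at this
      rw [← this]
      exact hδ
  refine h (y ^ 2 ^ j) h2 h1 ?_
  have h3 : y ∈ stabilizer H Γ := hyΓ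
  exact (stabilizer H Γ).pow_mem h3 _

/-- **COLB2** -/
theorem colB_two : ColB.{u} 2 1 4 := by
  intro H Δ _ _ _ _ _ _ _ L hprim hL h2 hy
  classical
  haveI := hprim
  have hodd : Odd (Nat.card Δ) := by
    rw [← Nat.not_even_iff_odd, even_iff_two_dvd]
    exact h2
  obtain ⟨N, hN1, hN2, hN3⟩ := exists_normal (G := H) (Ω := Δ)
  have R : Reg (Ω := Δ) N := ⟨hN1, hN2, hN3⟩
  have hNne : N ≠ ⊥ := by
    intro h
    have h3 := R.card
    rw [h, Subgroup.card_bot] at h3
    have := Finite.one_lt_card (α := Δ)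
    omega
  obtain ⟨s, a, hs, ha, hcard, hsx⟩ :=
    Cfsg.Agent.SolvableStructure.MinimalNormal.exists_prime_of_minimal_normal N hNne (fun K hK hKN =>
      min_of_prim (hp := hprim) R K hK hKN)
  rw [R.card] at hcard
  obtain ⟨y, hy2, hyF⟩ := hy
  have hns : ¬ ((Nat.card Δ).Prime ∨ Nat.card Δ = 9 ∨ Nat.card Δ = 27) := fun h =>
    hyF (fh_of_small (hp := hprim) R hL hodd h hy2)
  rw [not_or, not_or] at hns
  have hs2 : s ≠ 2 := by
    rintro rfl
    apply h2
    rw [hcard]
    exact dvd_pow_self 2 ha.ne'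
  have hs3 : 3 ≤ s := by have := hs.two_le; omega
  have ha1 : a ≠ 1 := by
    rintro rfl
    rw [pow_one] at hcard
    exact hns.1 (by rw [hcard]; exact hs)
  have hq : ∀ p : ℕ, p.Prime → p ∣ Nat.card Δ → s ≤ p := by
    intro p hp hpd
    rw [hcard] at hpd
    rw [(Nat.prime_dvd_prime_iff_eq hp hs).1 (hp.dvd_of_dvd_pow hpd)]
  -- the number of fixed points of an involution
  have hfix : ∀ z : H, z ≠ 1 → z * z = 1 → ∃ j, j < a ∧ Nat.card (fixedBy Δ z) = s ^ j := by
    intro z hz1 hzz
    obtain ⟨δ, hδ⟩ := exists_fix R hodd hzz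
    have h3 : Nat.card (fixedBy Δ z) ∣ Nat.card Δ := by
      rw [card_fix_eq R hδ, ← R.card]
      exact Subgroup.card_dvd_of_le inf_le_left
    rw [hcard] at h3
    obtain ⟨j, hj, hj2⟩ := (Nat.dvd_prime_pow hs).1 h3
    refine ⟨j, lt_of_le_of_ne hj ?_, hj2⟩
    rintro rfl
    apply hz1
    have h4 : fixedBy Δ z = Set.univ := by
      rw [Set.eq_univ_iff_ncard, ← Nat.card_coe_set_eq, hj2, hcard]
    apply FaithfulSMul.eq_of_smul_eq_smul (α := Δ)
    intro b
    have : b ∈ fixedBy Δ z := by rw [h4]; trivial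
    rw [one_smul]
    exact this
  set n := Nat.card Δ with hn
  set B : Set (Set Δ) := {Γ | ∃ z : H, (z ≠ 1 ∧ z * z = 1) ∧ z • Γ = Γ} with hB
  -- the bad sets
  have hsplit : ∀ (e₁ e₂ c₁ c₂ : ℕ),
      (∀ z : H, z ≠ 1 → z * z = 1 → Nat.card (fixedBy Δ z) * s = n → Nat.card Δ + Nat.card (fixedBy Δ z) ≤ 2 * e₁ + 1) →
      (∀ z : H, z ≠ 1 → z * z = 1 → Nat.card (fixedBy Δ z) * s ≠ n → Nat.card Δ + Nat.card (fixedBy Δ z) ≤ 2 * e₂ + 1) →
      Nat.card {z : H // z ≠ 1 ∧ z * z = 1 ∧ Nat.card (fixedBy Δ z) * s = n} ≤ c₁ →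
      Nat.card {z : H // z ≠ 1 ∧ z * z = 1 ∧ Nat.card (fixedBy Δ z) * s ≠ n} ≤ c₂ →
      B.ncard ≤ c₁ * 2 ^ e₁ + c₂ * 2 ^ e₂ := by
    intro e₁ e₂ c₁ c₂ h3 h4 h5 h6
    have h7 : B ⊆ {Γ : Set Δ | ∃ z : H, (z ≠ 1 ∧ z * z = 1 ∧ Nat.card (fixedBy Δ z) * s = n) ∧ z • Γ = Γ} ∪
        {Γ : Set Δ | ∃ z : H, (z ≠ 1 ∧ z * z = 1 ∧ Nat.card (fixedBy Δ z) * s ≠ n) ∧ z • Γ = Γ} := by
      rintro Γ ⟨z, ⟨hz1, hz2⟩, hz3⟩
      by_cases h : Nat.card (fixedBy Δ z) * s = n
      · exact Or.inl ⟨z, ⟨hz1, hz2, h⟩, hz3⟩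
      · exact Or.inr ⟨z, ⟨hz1, hz2, h⟩, hz3⟩
    refine (Set.ncard_le_ncard h7 (Set.toFinite _)).trans ((Set.ncard_union_le _ _).trans (Nat.add_le_add ?_ ?_))
    · refine cnt _ _ _ (fun z hz => ?_) h5
      have := orb_eq (Ω := Δ) hz.1 hz.2.1
      have := h3 z hz.1 hz.2.1 hz.2.2
      omega
    · refine cnt _ _ _ (fun z hz => ?_) h6
      have := orb_eq (Ω := Δ) hz.1 hz.2.1
      have := h4 z hz.1 hz.2.1 hz.2.2
      omega
  have hc1 := card_class1 R hodd hs hq hsx
  rw [← hn] at hc1
  have hbad : 9 ≤ n ∧ B.ncard < 2 ^ (n - 1) := by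
    by_cases ha2 : a = 2
    · subst ha2
      have hs5 : 5 ≤ s := by
        by_contra h
        have : s = 3 := by
          have h3 : s ≠ 4 := by rintro rfl; norm_num at hs
          omega
        rw [this] at hcard
        exact hns.2.1 (by rw [hcard]; norm_num)
      obtain ⟨m, hm⟩ := hs.odd_of_ne_two hs2
      have hn2 : n = 4 * m ^ 2 + 4 * m + 1 := by rw [hcard, hm]; ring
      have hnum := num_two m (by omega)
      refine ⟨by linarith only [hs5, hm, hn2, _root_.sq_nonneg (↑m : ℤ)], lt_of_le_of_lt (hsplit (2 * m ^ 2 + 3 * m + 1) (2 * m ^ 2 + 2 * m + 1)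
        ((2 * m + 1) ^ 2 * (2 * m + 2)) ((2 * m + 1) ^ 2) ?_ ?_ ?_ ?_) (lt_of_lt_of_le hnum ?_)⟩
      · intro z hz1 hzz hz
        have h3 : Nat.card (fixedBy Δ z) = s := by
          rw [hcard, pow_two] at hz
          exact Nat.eq_of_mul_eq_mul_right hs.pos hz
        rw [h3, ← hn, hn2, hm]
        omega
      · intro z hz1 hzz hz
        obtain ⟨j, hj, hj2⟩ := hfix z hz1 hzz
        have h3 : j = 0 := by
          by_contra h0
          have : j = 1 := by omega
          rw [this, pow_one] at hj2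
          apply hz
          rw [hj2, hcard]; ring
        rw [hj2, h3, pow_zero, ← hn, hn2]
        omega
      · have h3 : (n - 1) * n = ((2 * m + 1) ^ 2 * (2 * m + 2)) * (s - 1) := by
          have h4 : n - 1 = (2 * m) * (2 * m + 2) := by
            rw [hn2]; ring_nf; (clear * -; omega)
          have h5 : s - 1 = 2 * m := by omega
          rw [h4, h5, hcard, hm]; ring
        rw [h3] at hc1
        exact Nat.le_of_mul_le_mul_right hc1 (by omega)
      · have h3 : n = (2 * m + 1) ^ 2 := by rw [hcard, hm]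
        rw [← h3]
        have h4 := card_class2 (G := H) R hodd
        refine le_trans ?_ h4
        refine Nat.card_le_card_of_injective (fun z => ⟨z.1, z.2.1, z.2.2.1, ?_⟩) ?_
        · obtain ⟨z, hz1, hzz, hz⟩ := z
          obtain ⟨j, hj, hj2⟩ := hfix z hz1 hzz
          have h3 : j = 0 := by
            by_contra h0
            have : j = 1 := by omega
            rw [this, pow_one] at hj2
            apply hz
            rw [hj2, hcard]; ring
          rw [hj2, h3, pow_zero]
        · intro z z' h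
          exact Subtype.ext (congrArg (fun w : {y : H // y ≠ 1 ∧ y * y = 1 ∧ Nat.card (fixedBy Δ y) = 1} => (w : H)) h)
      · exact Nat.pow_le_pow_right (by norm_num) (by (clear * - hn2; omega))
    · have h81 : 81 ≤ n := by
        have h3 : 3 ≤ a := by omega
        by_cases hs3' : s = 3
        · have h4 : a ≠ 3 := by
            rintro rfl
            rw [hs3'] at hcard
            exact hns.2.2 (by rw [hcard]; norm_num)
          rw [hcard, hs3']
          calc 81 = 3 ^ 4 := by norm_num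
            _ ≤ 3 ^ a := Nat.pow_le_pow_right (by norm_num) (by omega)
        · rw [hcard]
          have h5 : 5 ≤ s := by
            have h3 : s ≠ 4 := by rintro rfl; norm_num at hs
            omega
          calc 81 ≤ 5 ^ 3 := by norm_num
            _ ≤ s ^ 3 := Nat.pow_le_pow_left h5 3
            _ ≤ s ^ a := Nat.pow_le_pow_right (by omega) h3
      refine ⟨by omega, ?_⟩
      obtain ⟨k, hk1, hk2⟩ := card_G_le (G := H) R 3 (fun p hp hpd => hs3.trans (hq p hp hpd))
      have h3 : 2 ^ (n - 1) = 2 ^ (n - 2) + 2 ^ (n - 2) := by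
        rw [← two_mul, ← pow_succ']; congr 1; (clear * - h81; omega)
      rw [h3]
      refine lt_of_le_of_lt (hsplit (2 * n / 3) (5 * n / 9) (n ^ 2) (n ^ (k + 1)) ?_ ?_ ?_ ?_)
        (Nat.add_lt_add_of_le_of_lt (num_A h81) (num_B h81 hk1))
      · intro z hz1 hzz hz
        have h4 : 3 * Nat.card (fixedBy Δ z) ≤ n := by
          rw [← hz, mul_comm]
          exact Nat.mul_le_mul_left _ hs3
        (clear * - h4; omega)
      · intro z hz1 hzz hz
        obtain ⟨j, hj, hj2⟩ := hfix z hz1 hzz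
        have h4 : j + 2 ≤ a := by
          by_contra h0
          have h5 : a = j + 1 := by omega
          apply hz
          rw [hj2, hcard, h5, pow_succ]
        have h5 : 9 * Nat.card (fixedBy Δ z) ≤ n := by
          rw [hj2, hcard]
          calc 9 * s ^ j = 3 ^ 2 * s ^ j := by norm_num
            _ ≤ s ^ 2 * s ^ j := Nat.mul_le_mul_right _ (Nat.pow_le_pow_left hs3 2)
            _ = s ^ (j + 2) := by ring
            _ ≤ s ^ a := Nat.pow_le_pow_right (by omega) h4
        (clear * - h5; omega)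
      · have h4 : (n - 1) * n ≤ n ^ 2 := by
          rw [pow_two]
          exact Nat.mul_le_mul_right _ (by omega)
        refine le_trans ?_ (hc1.trans h4)
        exact Nat.le_mul_of_pos_right _ (by omega)
      · refine le_trans ?_ hk2
        have := Fintype.ofFinite H
        rw [Nat.card_eq_fintype_card, Nat.card_eq_fintype_card]
        exact Fintype.card_subtype_le _
  obtain ⟨Γ, hΓ, hΓ2⟩ := four_sizes B hodd hbad.1 hbad.2 (by
    rintro Γ ⟨z, hz, hzΓ⟩
    refine ⟨z, hz, ?_⟩
    rw [Set.smul_set_compl] at hzΓ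
    exact compl_injective hzΓ)
  refine ⟨Γ, fun i => rig_of fun z hz1 hzz hz => hΓ i ⟨z, ⟨hz1, hzz⟩, hz⟩, hΓ2⟩

end Cfsg.Agent.H659.RC
end

private theorem dce_9321a5b6ac56 : _root_.True := by
  try have : _root_.True := by simp only [_root_.Cfsg.Agent.H659.RC.invSub.congr_simp]
  exact _root_.True.intro
end

-- part: H478/RC/Mod
section
prune_inst 0xf00031047522002010180090f1001e62b6000092004b0000b0c007460fcedc40a5472e21faf00f1218320cc4603d0048130004b00220000000000800410006a9802240829308ad04160001807883180c00000000000000000000000000041004000000000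
set_option linter.all false
open scoped Cfsg.Agent.FastGrp

-- part: H478/RC/FHt
section
/-!
# Fitting height at most `t` (S4191)
-/

set_option autoImplicit false
set_option linter.unusedSectionVars false
set_option linter.style.haveILetI false

namespace Cfsg.Agent.H478.RC

open Cfsg.Agent.H527.RC

universe u

theorem nil_of_injective {G G' : Type*} [Group G] [Group G'] [Group.IsNilpotent G'] (f : G →* G')
    (hf : Function.Injective f) : Group.IsNilpotent G :=
  Subgroup.isNilpotent_of_ker_le_center f (by rw [(MonoidHom.ker_eq_bot_iff f).2 hf]; exact bot_le)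

theorem FH.of_injective : ∀ (t : ℕ) {G G' : Type u} [Group G] [Group G'] (f : G →* G'), Function.Injective f →
    FH t G' → FH t G
  | 0, G, G', _, _, f, hf, h => by
    haveI : Subsingleton G' := h
    exact hf.subsingleton
  | t + 1, G, G', _, _, f, hf, h => by
    obtain ⟨N', hN', hn, hq⟩ := h
    haveI := hN'
    refine ⟨N'.comap f, inferInstance, ?_, ?_⟩
    · haveI := hn
      exact nil_of_injective (f.subgroupComap N') (by
        intro a b hab
        apply Subtype.ext
        apply hf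
        exact congrArg Subtype.val hab)
    · refine FH.of_injective t (QuotientGroup.map (N'.comap f) N' f le_rfl) ?_ hq
      rw [← MonoidHom.ker_eq_bot_iff, eq_bot_iff]
      intro q hq
      induction q using QuotientGroup.induction_on with
      | H g =>
        rw [MonoidHom.mem_ker, QuotientGroup.map_mk, QuotientGroup.eq_one_iff] at hq
        rw [Subgroup.mem_bot, QuotientGroup.eq_one_iff]
        exact hq

theorem FH.of_surjective : ∀ (t : ℕ) {G G' : Type u} [Group G] [Group G'] (f : G →* G'), Function.Surjective f →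
    FH t G → FH t G'
  | 0, G, G', _, _, f, hf, h => by
    haveI : Subsingleton G := h
    exact hf.subsingleton
  | t + 1, G, G', _, _, f, hf, h => by
    obtain ⟨N, hN, hn, hq⟩ := h
    haveI := hN
    haveI h1 : (N.map f).Normal := hN.map f hf
    refine ⟨N.map f, h1, ?_, ?_⟩
    · haveI := hn
      exact Group.nilpotent_of_surjective (f.subgroupMap N) (f.subgroupMap_surjective N)
    · refine FH.of_surjective t (QuotientGroup.map N (N.map f) f (Subgroup.le_comap_map f N)) ?_ hq
      intro q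
      induction q using QuotientGroup.induction_on with
      | H g =>
        obtain ⟨a, rfl⟩ := hf g
        exact ⟨a, rfl⟩

theorem FH.succ : ∀ (t : ℕ) {G : Type u} [Group G], FH t G → FH (t + 1) G
  | 0, G, _, h => by
    haveI : Subsingleton G := h
    refine ⟨⊤, inferInstance, inferInstance, ?_⟩
    exact (QuotientGroup.mk'_surjective (⊤ : Subgroup G)).subsingleton
  | t + 1, G, _, h => by
    obtain ⟨N, hN, hn, hq⟩ := h
    exact ⟨N, hN, hn, FH.succ t hq⟩

theorem FH.mono {s t : ℕ} (hst : s ≤ t) {G : Type u} [Group G] (h : FH s G) : FH t G := by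
  induction hst with
  | refl => exact h
  | step _ ih => exact FH.succ _ ih

theorem FH.pi : ∀ (t : ℕ) {I : Type u} [Finite I] (G : I → Type u) [∀ i, Group (G i)], (∀ i, FH t (G i)) →
    FH t (∀ i, G i)
  | 0, I, _, G, _, h => by
    haveI : ∀ i, Subsingleton (G i) := h
    change Subsingleton (∀ i, G i)
    infer_instance
  | t + 1, I, _, G, _, h => by
    choose N hN hn hq using h
    haveI := hN
    let f : (∀ i, G i) →* (∀ i, G i ⧸ N i) := MonoidHom.pi (fun i => (QuotientGroup.mk' (N i)).comp (Pi.evalMonoidHom G i))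
    refine ⟨f.ker, inferInstance, ?_, ?_⟩
    · haveI := hn
      have h1 : ∀ (g : f.ker) (i : I), (g : ∀ i, G i) i ∈ N i := by
        intro g i
        have h2 := g.2
        rw [MonoidHom.mem_ker] at h2
        have h3 := congrFun h2 i
        rw [← QuotientGroup.eq_one_iff]
        exact h3
      let g : f.ker →* (∀ i, N i) :=
        { toFun := fun g i => ⟨(g : ∀ i, G i) i, h1 g i⟩
          map_one' := rfl
          map_mul' := fun _ _ => rfl }
      exact nil_of_injective g (by
        intro a b hab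
        apply Subtype.ext
        funext i
        exact congrArg Subtype.val (congrFun hab i))
    · exact FH.of_injective t (QuotientGroup.kerLift f) (QuotientGroup.kerLift_injective f) (FH.pi t _ hq)

/-- subdirect products -/
theorem FH.subdirect {t : ℕ} {I : Type u} [Finite I] {G : Type u} [Group G] {G' : I → Type u} [∀ i, Group (G' i)]
    (f : ∀ i, G →* G' i) (hf : ∀ g : G, (∀ i, f i g = 1) → g = 1) (h : ∀ i, FH t (f i).range) : FH t G := by
  let F : G →* (∀ i, (f i).range) := MonoidHom.pi (fun i => (f i).rangeRestrict)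
  refine FH.of_injective t F ?_ (FH.pi t _ h)
  rw [← MonoidHom.ker_eq_bot_iff, eq_bot_iff]
  intro g hg
  rw [MonoidHom.mem_ker] at hg
  rw [Subgroup.mem_bot]
  apply hf
  intro i
  have h1 := congrFun hg i
  exact congrArg Subtype.val h1

theorem FH.subgroup {t : ℕ} {G : Type u} [Group G] {A B : Subgroup G} (h : A ≤ B) (hB : FH t B) : FH t A :=
  FH.of_injective t (Subgroup.inclusion h) (Subgroup.inclusion_injective h) hB

end Cfsg.Agent.H478.RC
end

-- part: H478/RC/Mod
section
/-!
# The ring generated by a normal subgroup and its isotypic components (S4191, piece `lin_of_core`)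
-/

set_option autoImplicit false
set_option linter.unusedSectionVars false
set_option linter.style.haveILetI false

namespace Cfsg.Agent.H478.RC

open Cfsg.Agent.H527.RC Cfsg.Agent.Omega.EH3.Clif

section ring

variable {H : Type*} (V : Type*) [Group H] [AddCommGroup V] [DistribMulAction H V]

/-- the ring generated by `L` -/
def RL (L : Subgroup H) : Subring (AddMonoid.End V) :=
  Subring.closure (Set.range fun l : L => DistribMulAction.toAddMonoidEnd H V l)

variable {V} {L : Subgroup H}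

/-- an element of `L` in the ring -/
def lr (l : H) (hl : l ∈ L) : RL V L := ⟨DistribMulAction.toAddMonoidEnd H V l, Subring.subset_closure ⟨⟨l, hl⟩, rfl⟩⟩

theorem lr_smul {l : H} (hl : l ∈ L) (v : V) : (lr l hl : RL V L) • v = l • v := rfl

theorem coe_lr_smul {M : (Submodule (RL V L) V :)} {l : H} (hl : l ∈ L) (m : M) : (((lr l hl : RL V L) • m : M) : V) = l • (m : V) := rfl

theorem inv_of_sub (M : (Submodule (RL V L) V :)) {l : H} (hl : l ∈ L) {v : V} (hv : v ∈ M) : l • v ∈ M :=
  (M.smul_mem (lr l hl) hv :)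

/-- invariant subgroups are submodules -/
def ofInv (W : AddSubgroup V) (hW : ∀ l ∈ L, ∀ w ∈ W, l • w ∈ W) : (Submodule (RL V L) V :) where
  carrier := W
  add_mem' := W.add_mem
  zero_mem' := W.zero_mem
  smul_mem' := by
    rintro ⟨r, hr⟩ w hw
    change r w ∈ W
    induction hr using Subring.closure_induction generalizing w with
    | mem x hx =>
      obtain ⟨l, rfl⟩ := hx
      exact hW l l.2 w hw
    | zero => exact W.zero_mem
    | one => exact hw
    | add x y _ _ hx hy => exact W.add_mem (hx hw) (hy hw)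
    | neg x _ hx => exact W.neg_mem (hx hw)
    | mul x y _ _ hx hy => exact hx (hy hw)

theorem linear_of (M : (Submodule (RL V L) V :)) (f : M →+ V) (hf : ∀ l (hl : l ∈ L) (m : M), f ((lr l hl : RL V L) • m) = l • f m)
    (r : RL V L) (m : M) : f (r • m) = r • f m := by
  obtain ⟨r, hr⟩ := r
  have key : ∀ r (hr : r ∈ RL V L) (m : M), f ((⟨r, hr⟩ : RL V L) • m) = r (f m) := by
    intro r hr
    induction hr using Subring.closure_induction with
    | mem x hx =>
      intro m
      obtain ⟨l, rfl⟩ := hx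
      exact hf l l.2 m
    | zero =>
      intro m
      have h1 : ((⟨0, Subring.zero_mem _⟩ : RL V L) • m) = 0 := (zero_smul (RL V L) m :)
      exact (congrArg f h1).trans (map_zero f)
    | one =>
      intro m
      have h1 : ((⟨1, Subring.one_mem _⟩ : RL V L) • m) = m := (one_smul (RL V L) m :)
      exact congrArg f h1
    | add x y hx' hy' hx hy =>
      intro m
      have h1 : ((⟨x + y, Subring.add_mem _ hx' hy'⟩ : RL V L) • m) = (⟨x, hx'⟩ : RL V L) • m + (⟨y, hy'⟩ : RL V L) • m :=
        (add_smul (⟨x, hx'⟩ : RL V L) (⟨y, hy'⟩ : RL V L) m :)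
      exact (congrArg f h1).trans ((map_add f _ _).trans (by rw [hx, hy]; rfl))
    | neg x hx' hx =>
      intro m
      have h1 : ((⟨-x, Subring.neg_mem _ hx'⟩ : RL V L) • m) = -((⟨x, hx'⟩ : RL V L) • m) := neg_smul (⟨x, hx'⟩ : RL V L) m
      exact (congrArg f h1).trans ((map_neg f _).trans (by rw [hx]; rfl))
    | mul x y hx' hy' hx hy =>
      intro m
      have h1 : ((⟨x * y, Subring.mul_mem _ hx' hy'⟩ : RL V L) • m) = (⟨x, hx'⟩ : RL V L) • (⟨y, hy'⟩ : RL V L) • m :=
        mul_smul (⟨x, hx'⟩ : RL V L) (⟨y, hy'⟩ : RL V L) m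
      exact (congrArg f h1).trans (by rw [hx, hy]; rfl)
  exact key r hr m

theorem nor [hL : L.Normal] (h : H) : (Nor (RL V L) (DistribMulAction.toAddEquiv V h) :) := by
  have key : ∀ (h : H) (r : AddMonoid.End V), r ∈ RL V L → ∃ r' : RL V L, ∀ v, r (h • v) = h • (r' • v) := by
    intro h r hr
    induction hr using Subring.closure_induction with
    | mem x hx =>
      obtain ⟨l, rfl⟩ := hx
      refine ⟨lr (h⁻¹ * l * h) (by simpa only [_root_.inv_inv] using hL.conj_mem l l.2 h⁻¹), ?_⟩
      intro v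
      rw [lr_smul, ← mul_smul]
      change (l : H) • h • v = _
      rw [← mul_smul]
      congr 1
      group
    | zero => exact ⟨0, fun v => by rw [zero_smul, smul_zero]; rfl⟩
    | one => exact ⟨1, fun v => by rw [one_smul]; rfl⟩
    | add x y _ _ hx hy =>
      obtain ⟨x', hx'⟩ := hx
      obtain ⟨y', hy'⟩ := hy
      exact ⟨x' + y', fun v => by rw [add_smul, smul_add, ← hx', ← hy']; rfl⟩
    | neg x _ hx =>
      obtain ⟨x', hx'⟩ := hx
      exact ⟨-x', fun v => by rw [neg_smul, smul_neg, ← hx']; rfl⟩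
    | mul x y _ _ hx hy =>
      obtain ⟨x', hx'⟩ := hx
      obtain ⟨y', hy'⟩ := hy
      exact ⟨x' * y', fun v => by rw [mul_smul, ← hx', ← hy']; rfl⟩
  refine ⟨fun r => ?_, fun r => ?_⟩
  · obtain ⟨r', hr'⟩ := key h r r.2
    exact ⟨r', hr'⟩
  · obtain ⟨r', hr'⟩ := key h⁻¹ r r.2
    exact ⟨r', hr'⟩

/-- the conjugate submodule -/
def cj [L.Normal] (h : H) (M : (Submodule (RL V L) V :)) : Submodule (RL V L) V := (cs _ (nor h) M :)

theorem mem_cj [L.Normal] {h : H} {M : (Submodule (RL V L) V :)} {v : V} : v ∈ cj h M ↔ h⁻¹ • v ∈ M := Iff.rfl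

theorem smul_mem_cj [L.Normal] {h : H} {M : (Submodule (RL V L) V :)} {v : V} : h • v ∈ cj h M ↔ v ∈ M := by
  rw [mem_cj, inv_smul_smul]

theorem cj_simple [L.Normal] (h : H) {M : (Submodule (RL V L) V :)} (hM : IsSimpleModule (RL V L) M) :
    IsSimpleModule (RL V L) (cj h M) := (cs_simple _ hM :)

theorem cs_comp_le {R : Type*} [Ring R] [Module R V] (g : V ≃+ V) (hg : Nor R g) (S : Submodule R V) :
    cs g hg (isotypicComponent R V S) ≤ isotypicComponent R V (cs g hg S) := by
  have h1 : cs g hg (isotypicComponent R V S) = csIso g hg (sSup {m | Nonempty (m ≃ₗ[R] S)}) := rfl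
  rw [h1, OrderIso.map_sSup]
  apply iSup₂_le
  rintro m ⟨φ⟩
  exact le_sSup ⟨ctEquiv g hg φ⟩

theorem cs_comp {R : Type*} [Ring R] [Module R V] (g : V ≃+ V) (hg : Nor R g) (S : Submodule R V) :
    cs g hg (isotypicComponent R V S) = isotypicComponent R V (cs g hg S) := by
  apply le_antisymm (cs_comp_le g hg S)
  have h1 := cs_mono hg (cs_comp_le g.symm hg.symm (cs g hg S))
  have h2 := cs_cs_symm hg (isotypicComponent R V (cs g hg S))
  rw [h2] at h1
  have h3 : cs g.symm hg.symm (cs g hg S) = S := cs_symm_cs hg S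
  rw [h3] at h1
  exact h1

theorem cj_comp [L.Normal] (h : H) (S : (Submodule (RL V L) V :)) :
    cj h (isotypicComponent (RL V L) V S) = isotypicComponent (RL V L) V (cj h S) := (cs_comp _ _ S :)

theorem cj_mem [L.Normal] (h : H) {c : (Submodule (RL V L) V :)} (hc : c ∈ isotypicComponents (RL V L) V) :
    cj h c ∈ isotypicComponents (RL V L) V := by
  obtain ⟨S, hS, rfl⟩ := hc
  exact ⟨cj h S, cj_simple h hS, cj_comp h S⟩

/-- the group permutes the isotypic components -/
instance compAct [L.Normal] : MulAction H ((isotypicComponents (RL V L) V :)) where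
  smul h c := ⟨cj h c, cj_mem h c.2⟩
  one_smul c := by
    apply Subtype.ext
    ext v
    change (1 : H)⁻¹ • v ∈ (c : Submodule (RL V L) V) ↔ _
    rw [inv_one, one_smul]
  mul_smul g h c := by
    apply Subtype.ext
    ext v
    change (g * h)⁻¹ • v ∈ (c : Submodule (RL V L) V) ↔ h⁻¹ • g⁻¹ • v ∈ (c : Submodule (RL V L) V)
    rw [mul_inv_rev, mul_smul]

theorem mem_smul_comp [L.Normal] {h : H} {c : (isotypicComponents (RL V L) V :)} {v : V} :
    v ∈ ((h • c : isotypicComponents (RL V L) V) : (Submodule (RL V L) V :)) ↔ h⁻¹ • v ∈ (c : Submodule (RL V L) V) := Iff.rfl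

theorem smul_mem_comp [L.Normal] {h : H} {c : (isotypicComponents (RL V L) V :)} {v : V} :
    h • v ∈ ((h • c : isotypicComponents (RL V L) V) : (Submodule (RL V L) V :)) ↔ v ∈ (c : Submodule (RL V L) V) := by
  rw [mem_smul_comp, inv_smul_smul]

/-- **Clifford**: complete reducibility passes to normal subgroups -/
theorem semisimple [Finite V] [L.Normal]
    (hcr : ∀ X : AddSubgroup V, (∀ h : H, ∀ x ∈ X, h • x ∈ X) →
      ∃ Y : AddSubgroup V, (∀ h : H, ∀ y ∈ Y, h • y ∈ Y) ∧ X ⊓ Y = ⊥ ∧ X ⊔ Y = ⊤) :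
    (IsSemisimpleModule (RL V L) V :) := by
  haveI : Finite ((Submodule (RL V L) V :)) := finite_sub
  rw [← sSup_simples_eq_top_iff_isSemisimpleModule]
  set T : (Submodule (RL V L) V :) := sSup {m | IsSimpleModule (RL V L) m} with hT
  have hT1 : ∀ h : H, cj h T ≤ T := by
    intro h
    have h1 : cj h T = csIso _ (nor h) T := rfl
    rw [h1, hT, OrderIso.map_sSup]
    apply iSup₂_le
    intro m hm
    exact le_sSup (cj_simple h hm)
  have hT2 : ∀ h : H, ∀ x ∈ T.toAddSubgroup, h • x ∈ T.toAddSubgroup := by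
    intro h x hx
    apply hT1 h
    rw [smul_mem_cj]
    exact hx
  obtain ⟨Y, hY1, hY2, hY3⟩ := hcr T.toAddSubgroup hT2
  have hY : Y = ⊥ := by
    by_contra hne
    let Y' : (Submodule (RL V L) V :) := ofInv Y (fun l _ => hY1 l)
    have hY' : Y' ≠ ⊥ := by
      intro h
      apply hne
      ext v
      rw [AddSubgroup.mem_bot, ← Submodule.mem_bot (R := RL V L), ← h]
      rfl
    obtain ⟨a, ha, haY⟩ := (IsAtomic.eq_bot_or_exists_atom_le Y').resolve_left hY'
    have ha2 : a ≤ T := le_sSup (isSimpleModule_iff_isAtom.2 ha)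
    apply ha.1
    rw [eq_bot_iff]
    intro v hv
    have h1 : v ∈ T.toAddSubgroup ⊓ Y := ⟨ha2 hv, haY hv⟩
    rw [hY2] at h1
    exact h1
  rw [hY, sup_bot_eq] at hY3
  rw [eq_top_iff]
  intro v _
  have h1 : v ∈ T.toAddSubgroup := by rw [hY3]; trivial
  exact h1

end ring

end Cfsg.Agent.H478.RC
end
end

-- part: H478/RC/Loc
section
prune_inst 0xf0007d046100000010000510d0001e6296000092000b040094800746078fd40205062621fb800f1318328854003f8068135c0430421000002a008e00411806a994a272c23340a004260001807883180c00000000000000000000000000041000000000000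
set_option linter.all false
open scoped Cfsg.Agent.FastGrp

-- part: H478/RC/Gam
section
/-!
# The group of twisted automorphisms of a simple submodule (S4191, piece `lin_of_core`)
-/

set_option autoImplicit false
set_option linter.unusedSectionVars false
set_option linter.style.haveILetI false

namespace Cfsg.Agent.H478.RC

open Cfsg.Agent.H527.RC Cfsg.Agent.Omega.EH3.Clif

universe u

variable {H V : Type u} [Group H] [AddCommGroup V] [DistribMulAction H V] {L : Subgroup H}
  (U : (Submodule (RL V L) V :))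

/-- the additive automorphisms of `U` -/
abbrev AU (U : (Submodule (RL V L) V :)) : Type u := U ≃ₗ[ℤ] U

/-- `φ` is twisted by `h` -/
def Tw (h : H) (φ : AU U) : Prop :=
  ∀ l (hl : l ∈ L) (u : U), (((φ ((lr l hl : RL V L) • u) :) : U) : V) = (h * l * h⁻¹) • ((φ u : U) : V)

theorem Tw.one : Tw U 1 1 := by
  intro l hl u
  rw [one_mul, inv_one, mul_one]
  rfl

variable {U}

seal _root_.AddMonoid.End in
theorem Tw.mul [hL : L.Normal] {h h' : H} {φ φ' : AU U} (a : Tw U h φ) (b : Tw U h' φ') : Tw U (h * h') (φ * φ') := by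
  intro l hl u
  have h1 : h' * l * h'⁻¹ ∈ L := hL.conj_mem l hl h'
  have h2 : φ' ((lr l hl : RL V L) • u) = (lr _ h1 : RL V L) • φ' u := Subtype.ext (b l hl u)
  rw [LinearEquiv.mul_apply, h2, a _ h1, LinearEquiv.mul_apply]
  congr 1
  group

seal _root_.AddMonoid.End in
theorem Tw.inv [hL : L.Normal] {h : H} {φ : AU U} (a : Tw U h φ) : Tw U h⁻¹ φ⁻¹ := by
  intro l hl u
  have h1 : h⁻¹ * l * h⁻¹⁻¹ ∈ L := hL.conj_mem l hl h⁻¹
  have h2 : φ⁻¹ ((lr l hl : RL V L) • u) = (lr _ h1 : RL V L) • φ⁻¹ u := by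
    apply φ.injective
    apply Subtype.ext
    rw [a _ h1]
    have h3 : φ ((φ⁻¹ ((lr l hl : RL V L) • u) :)) = (lr l hl : RL V L) • u := φ.apply_symm_apply _
    have h4 : φ (φ⁻¹ u) = u := φ.apply_symm_apply _
    rw [h3, h4, coe_lr_smul]
    congr 1
    group
  rw [h2]
  rfl

variable (U)

/-- the group of pairs -/
def Gh [L.Normal] : Subgroup (H × AU U) where
  carrier := {x | Tw U x.1 x.2}
  one_mem' := Tw.one U
  mul_mem' a b := Tw.mul a b
  inv_mem' a := Tw.inv a

/-- the group of the twisted automorphisms -/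
def Gam [L.Normal] : Subgroup (AU U) := (Gh U).map (MonoidHom.snd H (AU U))

variable {U}

theorem mem_Gam [L.Normal] {φ : AU U} : φ ∈ Gam U ↔ ∃ h : H, Tw U h φ := by
  constructor
  · rintro ⟨⟨h, φ'⟩, h1, rfl⟩
    exact ⟨h, h1⟩
  · rintro ⟨h, h1⟩
    exact ⟨⟨h, φ⟩, h1, rfl⟩

variable (U) in
/-- `L` acting on `U` -/
def rho : L →* AU U where
  toFun l := (AddEquiv.toIntLinearEquiv
    { toFun := fun u => (lr (l : H) l.2 : RL V L) • u
      invFun := fun u => (lr (l : H)⁻¹ (L.inv_mem l.2) : RL V L) • u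
      left_inv := fun u => Subtype.ext (inv_smul_smul (l : H) (u : V))
      right_inv := fun u => Subtype.ext (smul_inv_smul (l : H) (u : V))
      map_add' := fun u v => (smul_add _ u v : _) } : _)
  map_one' := by
    ext u
    exact one_smul H (u : V)
  map_mul' l l' := by
    ext u
    exact mul_smul (l : H) (l' : H) (u : V)

theorem rho_apply (l : L) (u : U) : ((rho U l u : U) : V) = (l : H) • (u : V) := rfl

theorem tw_rho (l : L) : Tw U l (rho U l) := by
  intro l' hl' u
  rw [rho_apply, rho_apply, coe_lr_smul, ← mul_smul, ← mul_smul]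
  congr 1
  group

theorem rho_mem [L.Normal] (l : L) : rho U l ∈ Gam U := mem_Gam.2 ⟨l, tw_rho l⟩

theorem Tw.conj [hL : L.Normal] {h : H} {φ : AU U} (a : Tw U h φ) (l : L) :
    φ * rho U l = rho U ⟨h * l * h⁻¹, hL.conj_mem l l.2 h⟩ * φ := by
  ext u
  exact a l l.2 u

theorem Tw.comm [hL : L.Normal] {φ : AU U} (a : Tw U 1 φ) (l : L) : φ * rho U l = rho U l * φ := by
  rw [a.conj]
  congr 2
  apply Subtype.ext
  simp

/-- twisted by `1`: linear -/
def Tw.lin {φ : AU U} (a : Tw U 1 φ) : U →ₗ[RL V L] U where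
  toFun := φ
  map_add' := map_add φ
  map_smul' r u := by
    apply Subtype.ext
    exact (linear_of U (U.subtype.toAddMonoidHom.comp φ.toLinearMap.toAddMonoidHom) (by
      intro l hl m
      have h1 := a l hl m
      rw [one_mul, inv_one, mul_one] at h1
      exact h1) r u : _)

theorem Tw.commute [Finite V] (hU : IsSimpleModule (RL V L) U) {φ ψ : AU U} (a : Tw U 1 φ) (b : Tw U 1 ψ) :
    φ * ψ = ψ * φ := by
  classical
  haveI := hU
  haveI : (Finite (U →ₗ[RL V L] U) :) := Finite.of_injective (fun f => (f : U → U)) DFunLike.coe_injective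
  haveI : Finite ((Module.End (RL V L) U :)) := this
  letI : DivisionRing ((Module.End (RL V L) U :)) := (Module.End.instDivisionRing : _)
  haveI h0 : IsDomain ((Module.End (RL V L) U :)) := DivisionRing.isDomain
  have h1 := (Finite.isDomain_to_isField ((Module.End (RL V L) U :))).mul_comm a.lin b.lin
  ext u
  have h2 := congrArg (fun f : Module.End (RL V L) U => ((f u : U) : V)) h1
  exact h2

instance [Finite V] : Finite (AU U) := Finite.of_injective (fun f => (f : U → U)) DFunLike.coe_injective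

theorem solvable_Gam [Finite V] [L.Normal] [hH : Group.IsSolvable H] (hU : IsSimpleModule (RL V L) U) :
    Group.IsSolvable (Gam U) := by
  have h1 : Group.IsSolvable (Gh U) := by
    let f : Gh U →* H := (MonoidHom.fst H (AU U)).comp (Gh U).subtype
    haveI : Group.IsSolvable f.ker := by
      apply Group.isSolvable_of_comm
      intro a b
      apply Subtype.ext
      apply Subtype.ext
      have ha : ((a : Gh U) : H × AU U).1 = 1 := a.2
      have hb : ((b : Gh U) : H × AU U).1 = 1 := b.2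
      have ha2 : Tw U 1 ((a : Gh U) : H × AU U).2 := by
        rw [← ha]
        exact (a : Gh U).2
      have hb2 : Tw U 1 ((b : Gh U) : H × AU U).2 := by
        rw [← hb]
        exact (b : Gh U).2
      apply Prod.ext
      · change ((a : Gh U) : H × AU U).1 * ((b : Gh U) : H × AU U).1 =
          ((b : Gh U) : H × AU U).1 * ((a : Gh U) : H × AU U).1
        rw [ha, hb]
      · exact ha2.commute hU hb2
    exact Group.isSolvable_of_ker_le_range f.ker.subtype f (by rw [Subgroup.range_subtype])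
  haveI := h1
  exact Group.isSolvable_of_surjective ((MonoidHom.snd H (AU U)).subgroupMap_surjective (Gh U))

variable (U) in
/-- the normal `p`-complement of `Gam U` -/
def Lt [Finite V] [L.Normal] (p : ℕ) [Fact p.Prime] (hU : IsSimpleModule (RL V L) U) : Subgroup (Gam U) where
  carrier := {γ | ∃ (l : L) (ε : AU U), Tw U 1 ε ∧ ¬ p ∣ orderOf ε ∧ (γ : AU U) = rho U l * ε}
  one_mem' := by
    refine ⟨1, 1, Tw.one U, ?_, by simp only [_root_.OneMemClass.coe_one, _root_.map_one, _root_.mul_one]⟩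
    rw [orderOf_one]
    exact (Fact.out : p.Prime).one_lt.ne' ∘ Nat.dvd_one.1
  mul_mem' := by
    rintro a b ⟨l, ε, h1, h2, h3⟩ ⟨l', ε', h1', h2', h3'⟩
    refine ⟨l * l', ε * ε', by simpa using h1.mul h1', ?_, ?_⟩
    · intro hd
      have h4 : Commute ε ε' := h1.commute hU h1'
      have h5 := hd.trans h4.orderOf_mul_dvd_mul_orderOf
      rcases ((Fact.out : p.Prime).dvd_mul).1 h5 with h | h
      · exact h2 h
      · exact h2' h
    · rw [Subgroup.coe_mul, h3, h3', map_mul, mul_assoc, ← mul_assoc ε, h1.comm, mul_assoc, mul_assoc]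
  inv_mem' := by
    rintro a ⟨l, ε, h1, h2, h3⟩
    refine ⟨l⁻¹, ε⁻¹, by simpa using h1.inv, by rwa [orderOf_inv], ?_⟩
    rw [Subgroup.coe_inv, h3, mul_inv_rev, map_inv]
    have h4 : Commute ε (rho U l) := h1.comm l
    exact h4.inv_left.inv_right.eq

theorem mem_Lt [Finite V] [L.Normal] {p : ℕ} [Fact p.Prime] {hU : IsSimpleModule (RL V L) U} {γ : Gam U} :
    γ ∈ Lt U p hU ↔ ∃ (l : L) (ε : AU U), Tw U 1 ε ∧ ¬ p ∣ orderOf ε ∧ (γ : AU U) = rho U l * ε := Iff.rfl

theorem rho_mem_Lt [Finite V] [L.Normal] {p : ℕ} [Fact p.Prime] (hU : IsSimpleModule (RL V L) U) (l : L) :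
    (⟨rho U l, rho_mem l⟩ : Gam U) ∈ Lt U p hU := by
  refine mem_Lt.2 ⟨l, 1, Tw.one U, ?_, by simp⟩
  rw [orderOf_one]
  exact (Fact.out : p.Prime).one_lt.ne' ∘ Nat.dvd_one.1

theorem lp_Lt [Finite V] [Finite H] {p : ℕ} [Fact p.Prime] (hLP : LP p L) [hLn : L.Normal]
    (hU : IsSimpleModule (RL V L) U) : LP p (Lt U p hU) where
  normal := by
    constructor
    rintro a ⟨l, ε, h1, h2, h3⟩ g
    obtain ⟨h, hh⟩ := mem_Gam.1 g.2
    have h4 : Tw U 1 ((g : AU U) * ε * (g : AU U)⁻¹) := by
      have := (hh.mul h1).mul hh.inv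
      simpa only [_root_.mul_one, _root_.mul_inv_cancel] using this
    refine ⟨⟨h * l * h⁻¹, hLn.conj_mem l l.2 h⟩, (g : AU U) * ε * (g : AU U)⁻¹, h4, ?_, ?_⟩
    · have : orderOf ((g : AU U) * ε * (g : AU U)⁻¹) = orderOf ε := by
        have h5 : SemiconjBy (g : AU U) ε ((g : AU U) * ε * (g : AU U)⁻¹) := by
          rw [SemiconjBy, inv_mul_cancel_right]
        exact (h5.orderOf_eq).symm
      rwa [this]
    · change (g : AU U) * (a : AU U) * (g : AU U)⁻¹ = _
      rw [h3, ← mul_assoc (g : AU U), hh.conj]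
      group
  cop := by
    intro hd
    obtain ⟨x, hx⟩ := exists_prime_orderOf_dvd_card' p hd
    obtain ⟨l, ε, h1, h2, h3⟩ := x.2
    have h4 : Commute (rho U l) ε := (h1.comm l).symm
    have h5 : orderOf (x : Gam U) = p := (Subgroup.orderOf_coe x).trans hx
    have h6 : orderOf ((x : Gam U) : AU U) = p := (Subgroup.orderOf_coe (x : Gam U)).trans h5
    rw [h3] at h6
    have h7 : p ∣ orderOf (rho U l) * orderOf ε := by
      rw [← h6]
      exact h4.orderOf_mul_dvd_mul_orderOf
    rcases ((Fact.out : p.Prime).dvd_mul).1 h7 with h | h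
    · exact hLP.cop ((h.trans (orderOf_map_dvd (rho U) l)).trans (orderOf_dvd_natCard l))
    · exact h2 h
  isP := by
    intro g
    obtain ⟨h, hh⟩ := mem_Gam.1 g.2
    obtain ⟨k, hk⟩ := hLP.isP h
    have h1 : ∀ n : ℕ, Tw U (h ^ n) ((g : AU U) ^ n) := by
      intro n
      induction n with
      | zero => simpa using Tw.one U
      | succ n ih =>
        rw [pow_succ, pow_succ]
        exact ih.mul hh
    set! l : L := ⟨h ^ p ^ k, hk⟩ with hl
    set! ε : AU U := (rho U l)⁻¹ * (g : AU U) ^ p ^ k with hε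
    have h2 : Tw U 1 ε := by
      have := (tw_rho (U := U) l).inv.mul (h1 (p ^ k))
      have h3 : ((l : H))⁻¹ * h ^ p ^ k = 1 := by
        rw [hl]
        exact inv_mul_cancel _
      rwa [h3] at this
    have h3 : (g : AU U) ^ p ^ k = rho U l * ε := by rw [hε, mul_inv_cancel_left]
    have h4 : Commute (rho U l) ε := (h2.comm l).symm
    obtain ⟨a, m, hm, ham⟩ := Nat.exists_eq_pow_mul_and_not_dvd (orderOf_pos ε).ne' p (Fact.out : p.Prime).ne_one
    refine ⟨k + a, l ^ p ^ a, ε ^ p ^ a, ?_, ?_, ?_⟩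
    · have h5 : ∀ n : ℕ, Tw U 1 (ε ^ n) := by
        intro n
        induction n with
        | zero => simpa using Tw.one U
        | succ n ih =>
          rw [pow_succ]
          simpa using ih.mul h2
      exact h5 _
    · have h6 : orderOf (ε ^ p ^ a) = m := by
        rw [orderOf_pow_of_dvd (pow_ne_zero _ (Fact.out : p.Prime).ne_zero) (by rw [ham]; exact dvd_mul_right _ _), ham,
          Nat.mul_div_cancel_left _ (pow_pos (Fact.out : p.Prime).pos a)]
      rwa [h6]
    · rw [Subgroup.coe_pow, pow_add, pow_mul, h3, h4.mul_pow, map_pow]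

end Cfsg.Agent.H478.RC
end

-- part: H478/RC/Loc
section
/-!
# Local lemmas on a simple submodule (S4191, piece `lin_of_core`)
-/

set_option autoImplicit false
set_option linter.unusedSectionVars false
set_option linter.style.haveILetI false

namespace Cfsg.Agent.H478.RC

open Cfsg.Agent.H527.RC Cfsg.Agent.Omega.EH3.Clif

universe u

variable {H V : Type u} [Group H] [AddCommGroup V] [DistribMulAction H V] {L : Subgroup H}
  {U : (Submodule (RL V L) V :)}

seal _root_.AddMonoid.End in
theorem simple_inv (hU : IsSimpleModule (RL V L) U) (X : AddSubgroup U)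
    (hX : ∀ l (hl : l ∈ L), ∀ u ∈ X, (lr l hl : RL V L) • u ∈ X) : X = ⊥ ∨ X = ⊤ := by
  let X' : (Submodule (RL V L) V :) := ofInv (X.map U.subtype.toAddMonoidHom) (by
    rintro l hl _ ⟨u, hu, rfl⟩
    exact ⟨(lr l hl : RL V L) • u, hX l hl u hu, rfl⟩)
  have hX' : ∀ u : U, (u : V) ∈ X' ↔ u ∈ X := by
    intro u
    constructor
    · rintro ⟨w, hw, h1⟩
      have h2 : w = u := Subtype.ext h1
      rw [← h2]
      exact hw
    · intro hu
      exact ⟨u, hu, rfl⟩
  have h1 : X' ≤ U := by
    rintro _ ⟨w, hw, rfl⟩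
    exact w.2
  rcases (isSimpleModule_iff_isAtom.1 hU).le_iff.1 h1 with h2 | h2
  · left
    rw [eq_bot_iff]
    intro u hu
    rw [AddSubgroup.mem_bot]
    apply Subtype.ext
    rw [← hX', h2] at hu
    exact hu
  · right
    rw [eq_top_iff]
    intro u _
    rw [← hX', h2]
    exact u.2

variable (U) in
/-- twisted additive injections -/
structure TwI (h : H) (G : U →+ V) : Prop where
  tw : ∀ l (hl : l ∈ L) (u : U), G ((lr l hl : RL V L) • u) = (h * l * h⁻¹) • G u
  inj : Function.Injective G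

seal _root_.AddMonoid.End in
theorem TwI.range_le [hL : L.Normal] (hU : IsSimpleModule (RL V L) U) {h h' : H} {G G' : U →+ V} (a : TwI U h G) (b : TwI U h' G')
    {u u' : U} (hu : u ≠ 0) (he : G u = G' u') (w : U) : ∃ w', G' w' = G w := by
  let X : AddSubgroup U :=
    { carrier := {w | ∃ w', G' w' = G w}
      zero_mem' := ⟨0, by rw [map_zero, map_zero]⟩
      add_mem' := by
        rintro x y ⟨x', hx⟩ ⟨y', hy⟩
        exact ⟨x' + y', by rw [map_add, map_add, hx, hy]⟩
      neg_mem' := by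
        rintro x ⟨x', hx⟩
        exact ⟨-x', by rw [map_neg, map_neg, hx]⟩ }
  have hX : X = ⊥ ∨ X = ⊤ := by
    apply simple_inv hU
    rintro l hl x ⟨x', hx⟩
    have h1 : h'⁻¹ * (h * l * h⁻¹) * h'⁻¹⁻¹ ∈ L := hL.conj_mem _ (hL.conj_mem l hl h) _
    refine ⟨(lr _ h1 : RL V L) • x', ?_⟩
    rw [b.tw _ h1, a.tw l hl, hx]
    congr 1
    group
  rcases hX with h1 | h1
  · exfalso
    apply hu
    have h2 : u ∈ X := ⟨u', he.symm⟩
    rw [h1] at h2
    exact h2
  · have h2 : w ∈ X := by rw [h1]; trivial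
    exact h2

/-- two twisted injections with a common nonzero value differ by a twisted automorphism -/
theorem TwI.exists_tw [Finite V] [hL : L.Normal] (hU : IsSimpleModule (RL V L) U) {h h' : H} {G G' : U →+ V} (a : TwI U h G)
    (b : TwI U h' G') {u u' : U} (hu : u ≠ 0) (he : G u = G' u') :
    ∃ φ : AU U, Tw U (h'⁻¹ * h) φ ∧ φ u = u' := by
  choose F hF using fun w => a.range_le hU b hu he w
  let f : U →ₗ[ℤ] U := (AddMonoidHom.mk' F (by
    intro x y
    apply b.inj
    rw [hF, map_add, map_add, hF, hF])).toIntLinearMap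
  have hf : Function.Injective f := by
    intro x y hxy
    apply a.inj
    rw [← hF, ← hF]
    exact congrArg G' hxy
  have hf2 : Function.Surjective f := Finite.surjective_of_injective hf
  refine ⟨LinearEquiv.ofBijective f ⟨hf, hf2⟩, ?_, ?_⟩
  · intro l hl w
    have h1 : (h'⁻¹ * h) * l * (h'⁻¹ * h)⁻¹ ∈ L := hL.conj_mem l hl _
    have h2 : F ((lr l hl : RL V L) • w) = (lr _ h1 : RL V L) • F w := by
      apply b.inj
      rw [hF, a.tw, b.tw _ h1, hF]
      congr 1
      group
    exact congrArg Subtype.val h2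
  · apply b.inj
    rw [← he, ← hF]
    rfl

/-- the `p`-part of a twisted automorphism -/
theorem Tw.exists_pel [Finite V] [L.Normal] {p : ℕ} [Fact p.Prime] {y : H} {φ : AU U} (h : Tw U y φ) (hy : PEl p y) :
    ∃ ψ : AU U, Tw U y ψ ∧ PEl p ψ ∧ ∀ u : U, φ u = u → ψ u = u := by
  obtain ⟨k, hk⟩ := hy
  obtain ⟨a, m, hm, ham⟩ := Nat.exists_eq_pow_mul_and_not_dvd (orderOf_pos φ).ne' p (Fact.out : p.Prime).ne_one
  have hco : Nat.Coprime (p ^ k) m := Nat.Coprime.pow_left k (((Fact.out : p.Prime).coprime_iff_not_dvd).2 hm)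
  obtain ⟨n, hn1, hn2⟩ := Nat.chineseRemainder hco 1 0
  have h1 : ∀ n : ℕ, Tw U (y ^ n) (φ ^ n) := by
    intro n
    induction n with
    | zero => simpa using Tw.one U
    | succ n ih =>
      rw [pow_succ, pow_succ]
      exact ih.mul h
  have h2 : y ^ n = y := by
    have h3 := pow_eq_pow_mod n hk
    have h4 := pow_eq_pow_mod 1 hk
    rw [h3, hn1, ← h4, pow_one]
  refine ⟨φ ^ n, by simpa [h2] using h1 n, ⟨a, ?_⟩, ?_⟩
  · rw [← pow_mul, ← orderOf_dvd_iff_pow_eq_one, ham, mul_comm n]
    exact Nat.mul_dvd_mul_left _ ((Nat.modEq_zero_iff_dvd).1 hn2)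
  · intro u hu
    have h5 : ∀ n : ℕ, (φ ^ n) u = u := by
      intro n
      induction n with
      | zero => rfl
      | succ n ih =>
        rw [pow_succ, LinearEquiv.mul_apply, hu, ih]
    exact h5 n

seal _root_.AddMonoid.End in
/-- **`Core` on a simple submodule** -/
theorem core_app {p t m k : ℕ} [Fact p.Prime] (hcore : Core.{u} p t m k) [Finite H] [Group.IsSolvable H] [Finite V] [L.Normal]
    (hLP : LP p L) (hpV : ¬ p ∣ Nat.card V) (hU : IsSimpleModule (RL V L) U) :
    FH m (Lt U p hU) ∨ Orbs (Gam U) k (Gd (V := U) p t (Lt U p hU)) := by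
  haveI := hU
  haveI : Nontrivial U := IsSimpleModule.nontrivial (RL V L) U
  haveI := solvable_Gam hU
  -- the exponent
  obtain ⟨r, hr, hrd⟩ := Nat.exists_prime_and_dvd (n := Nat.card U) Finite.one_lt_card.ne'
  haveI : Fact r.Prime := ⟨hr⟩
  have hrp : r ≠ p := by
    rintro rfl
    exact hpV (hrd.trans (AddSubgroup.card_addSubgroup_dvd_card U.toAddSubgroup))
  have hexp : ∀ w : U, r • w = 0 := by
    obtain ⟨x, hx⟩ := exists_prime_addOrderOf_dvd_card' (G := U) r hrd
    let X : AddSubgroup U := (nsmulAddMonoidHom (α := U) r).ker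
    have hX : X = ⊥ ∨ X = ⊤ := by
      apply simple_inv hU
      intro l hl w hw
      have h1 : r • w = 0 := hw
      change r • ((lr l hl : RL V L) • w) = 0
      rw [smul_comm, h1, smul_zero]
    have hx0 : x ∈ X := by
      change r • x = 0
      rw [← hx]
      exact addOrderOf_nsmul_eq_zero x
    rcases hX with h1 | h1
    · exfalso
      rw [h1, AddSubgroup.mem_bot] at hx0
      rw [hx0, addOrderOf_zero] at hx
      exact hr.one_lt.ne hx
    · intro w
      have h2 : w ∈ X := by rw [h1]; trivial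
      exact h2
  refine hcore (Gam U) U (Lt U p hU) r (lp_Lt hLP hU) hr hrp hexp ?_ ?_
  · intro γ hγ
    apply Subtype.ext
    ext u
    exact congrArg Subtype.val (hγ u)
  · intro X hX
    apply simple_inv hU
    intro l hl u hu
    exact hX ⟨rho U ⟨l, hl⟩, rho_mem _⟩ (rho_mem_Lt hU ⟨l, hl⟩) u hu

end Cfsg.Agent.H478.RC
end
end

-- part: H478/RC/VecB
section
prune_inst 0xf0103d044522002010180510f0001e62b2000002004b040094c0070206cfdc4025032e21f9e00d1318328854203f0068135404304230000008008a00410006a9942252c29348a104260001807883180c00000000000000000000000000041000000000000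
set_option linter.all false
open scoped Cfsg.Agent.FastGrp

-- part: H478/RC/Vec
section
/-!
# The vector attached to a colouring of the isotypic components (S4191, piece `lin_of_core`)
-/

set_option autoImplicit false
set_option linter.unusedSectionVars false
set_option linter.style.haveILetI false

namespace Cfsg.Agent.H478.RC

open Cfsg.Agent.H527.RC Cfsg.Agent.Omega.EH3.Clif

universe u

section

variable {H : Type u} (V : Type u) [Group H] [AddCommGroup V] [DistribMulAction H V] (L : Subgroup H)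

/-- the isotypic components -/
abbrev CI : Type u := (isotypicComponents (RL V L) V :)

variable [Finite V] [L.Normal]

/-- the data: simple submodules, representatives, labels, embeddings -/
structure Dat (p t q : ℕ) [Fact p.Prime] (Z : Set ℕ) where
  S : CI V L → (Submodule (RL V L) V :)
  simple : ∀ c, IsSimpleModule (RL V L) (S c)
  comp : ∀ c : CI V L, (c : (Submodule (RL V L) V :)) = isotypicComponent (RL V L) V (S c)
  o : CI V L → CI V L
  hh : CI V L → H
  ho : ∀ c, hh c • o c = c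
  inv : ∀ (y : H) c, o (y • c) = o c
  g : ∀ c, ℕ → S c
  nz : ∀ c j, j ∉ Z → g c j ≠ 0
  f : ∀ c, cj (hh c) (S (o c)) →ₗ[RL V L] V
  fnz : ∀ c, f c ≠ 0
  alt : ∀ c, FH t (Lt (S c) p (simple c)) ∨
    ((∀ j < q, Gd (V := S c) p t (Lt (S c) p (simple c)) (g c j)) ∧
      ∀ i < q, ∀ j < q, ∀ γ : Gam (S c), γ • g c i = g c j → i = j)

end

variable {H V : Type u} [Group H] [AddCommGroup V] [DistribMulAction H V] {L : Subgroup H}

theorem Tw.pow [L.Normal] {U : (Submodule (RL V L) V :)} {y : H} {φ : AU U} (h : Tw U y φ) (n : ℕ) : Tw U (y ^ n) (φ ^ n) := by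
  induction n with
  | zero => simpa using Tw.one U
  | succ n ih =>
    rw [pow_succ, pow_succ]
    exact ih.mul h

theorem Tw.zpow [L.Normal] {U : (Submodule (RL V L) V :)} {y : H} {φ : AU U} (h : Tw U y φ) (n : ℤ) : Tw U (y ^ n) (φ ^ n) := by
  cases n with
  | ofNat n => simpa using h.pow n
  | negSucc n =>
    rw [zpow_negSucc, zpow_negSucc]
    exact (h.pow (n + 1)).inv

theorem sum_unique [Finite V] [Fintype (CI V L)] {a b : CI V L → V}
    (ha : ∀ c : CI V L, a c ∈ (c : (Submodule (RL V L) V :))) (hb : ∀ c : CI V L, b c ∈ (c : Submodule (RL V L) V))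
    (h : ∑ c, a c = ∑ c, b c)
    (c : CI V L) : a c = b c := by
  have h1 : iSupIndep (fun c : CI V L => (c : (Submodule (RL V L) V :))) :=
    (sSupIndep_iff (isotypicComponents (RL V L) V)).1 (sSupIndep_isotypicComponents (RL V L) V)
  rw [iSupIndep_iff_finsetSum_eq_zero_imp_eq_zero] at h1
  have h2 := h1 Finset.univ (fun c => a c - b c) (fun c _ => Submodule.sub_mem _ (ha c) (hb c)) (by
    rw [Finset.sum_sub_distrib, h, sub_self]) c (Finset.mem_univ c)
  exact sub_eq_zero.1 h2

/-- a property of the vectors which holds on the simple submodules -/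
theorem all_of_simple (hss : (IsSemisimpleModule (RL V L) V :)) (P : V → Prop) (h0 : P 0) (hadd : ∀ v w, P v → P w → P (v + w))
    (h : ∀ m : (Submodule (RL V L) V :), IsSimpleModule (RL V L) m → ∀ v ∈ m, P v) (v : V) : P v := by
  have h1 : sSup {m : (Submodule (RL V L) V :) | IsSimpleModule (RL V L) m} = ⊤ :=
    sSup_simples_eq_top_iff_isSemisimpleModule.2 hss
  have h2 : v ∈ ⨆ i : {m : (Submodule (RL V L) V :) | IsSimpleModule (RL V L) m}, (i : Submodule (RL V L) V) := by
    rw [← sSup_eq_iSup', h1]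
    trivial
  exact Submodule.iSup_induction _ (motive := P) h2 (fun i x hx => h i i.2 x hx) h0 hadd

variable [Finite V] [hL : L.Normal] {p t q : ℕ} [Fact p.Prime] {Z : Set ℕ} (D : Dat V L p t q Z)

namespace Dat

theorem comp' (c : CI V L) : (c : (Submodule (RL V L) V :)) = isotypicComponent (RL V L) V (cj (D.hh c) (D.S (D.o c))) := by
  have h1 := congrArg (fun c : CI V L => (c : (Submodule (RL V L) V :))) (D.ho c)
  rw [← cj_comp, ← D.comp]
  exact h1.symm

/-- the twisted embedding -/
def G (c : CI V L) : D.S (D.o c) →+ V where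
  toFun w := D.f c ⟨D.hh c • (w : V), smul_mem_cj.2 w.2⟩
  map_zero' := by
    have h1 : (⟨D.hh c • ((0 : D.S (D.o c)) : V), smul_mem_cj.2 (0 : D.S (D.o c)).2⟩ : cj (D.hh c) (D.S (D.o c))) = 0 :=
      Subtype.ext (smul_zero _)
    rw [h1, map_zero]
  map_add' x y := by
    have h1 : (⟨D.hh c • ((x + y : D.S (D.o c)) : V), smul_mem_cj.2 (x + y).2⟩ : cj (D.hh c) (D.S (D.o c))) =
        ⟨D.hh c • (x : V), smul_mem_cj.2 x.2⟩ + ⟨D.hh c • (y : V), smul_mem_cj.2 y.2⟩ := Subtype.ext (smul_add _ _ _)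
    rw [h1, map_add]

theorem f_inj (c : CI V L) : Function.Injective (D.f c) := by
  haveI := cj_simple (D.hh c) (D.simple (D.o c))
  exact ((D.f c).injective_or_eq_zero.resolve_right (D.fnz c) :)

seal _root_.AddMonoid.End in
theorem twI (c : CI V L) : TwI (D.S (D.o c)) (D.hh c) (D.G c) where
  tw l hl u := by
    have h1 : D.hh c * l * (D.hh c)⁻¹ ∈ L := hL.conj_mem l hl _
    have h2 : (⟨D.hh c • (((lr l hl : RL V L) • u : D.S (D.o c)) : V), smul_mem_cj.2 ((lr l hl : RL V L) • u).2⟩ :
        cj (D.hh c) (D.S (D.o c))) = (lr _ h1 : RL V L) • ⟨D.hh c • (u : V), smul_mem_cj.2 u.2⟩ := by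
      apply Subtype.ext
      change D.hh c • (l • (u : V)) = (D.hh c * l * (D.hh c)⁻¹) • (D.hh c • (u : V))
      rw [← mul_smul, ← mul_smul]
      congr 1
      group
    change D.f c _ = _
    rw [h2, map_smul]
    rfl
  inj x y hxy := by
    have h1 := D.f_inj c hxy
    have h2 := congrArg Subtype.val h1
    exact Subtype.ext (MulAction.injective _ h2)

theorem mem_comp (c : CI V L) (w : D.S (D.o c)) : D.G c w ∈ (c : (Submodule (RL V L) V :)) := by
  rw [D.comp' c]
  haveI := cj_simple (D.hh c) (D.simple (D.o c))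
  have h1 : LinearMap.range (D.f c) ≤ isotypicComponent (RL V L) V (cj (D.hh c) (D.S (D.o c))) :=
    le_sSup ⟨(LinearEquiv.ofInjective (D.f c) (D.f_inj c)).symm⟩
  exact h1 ⟨_, rfl⟩

end Dat

theorem TwI.smul {U : (Submodule (RL V L) V :)} {h : H} {G : U →+ V} (a : TwI U h G) (y : H) :
    TwI U (y * h) ((DistribSMul.toAddMonoidHom V y).comp G) where
  tw l hl u := by
    change y • G _ = _ • y • G u
    rw [a.tw l hl, ← mul_smul, ← mul_smul]
    congr 1
    group
  inj x x' hx := a.inj (MulAction.injective y hx)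

namespace Dat

/-- the value at a component -/
def val (κ : CI V L → ℕ) (c : CI V L) : V := D.G c (D.g (D.o c) (κ c))

/-- the vector of a colouring -/
noncomputable def vec (κ : CI V L → ℕ) : V := by
  classical
  haveI : Finite (CI V L) := inferInstance
  haveI : Fintype (CI V L) := Fintype.ofFinite _
  exact ∑ c, D.val κ c

theorem smul_val {κ : CI V L → ℕ} {y : H} (hy : y • D.vec κ = D.vec κ) (c : CI V L) :
    y • D.val κ c = D.val κ (y • c) := by
  classical
  haveI : Fintype (CI V L) := (Fintype.ofFinite _ : _)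
  have h1 : D.vec κ = ∑ c, D.val κ c := by
    rw [vec]
    congr!
  rw [h1, Finset.smul_sum] at hy
  have h2 : ∑ c, y • D.val κ c = ∑ c, y • D.val κ (y⁻¹ • c) :=
    (Equiv.sum_comp (MulAction.toPerm y⁻¹) (fun c => y • D.val κ c)).symm
  rw [h2] at hy
  have h3 := sum_unique (a := fun c => y • D.val κ (y⁻¹ • c)) (b := fun c => D.val κ c) (fun c => by
    have h4 := D.mem_comp (y⁻¹ • c) (D.g (D.o (y⁻¹ • c)) (κ (y⁻¹ • c)))
    have h5 := (smul_mem_comp (h := y)).2 h4
    rw [smul_inv_smul] at h5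
    exact h5) (fun c => D.mem_comp c _) hy (y • c)
  simp only [inv_smul_smul] at h3
  exact h3

theorem lab_aux {c x : CI V L} (e : x = D.o c) {h' : H} {G' : D.S x →+ V} (hG' : TwI (D.S x) h' G') {y : H} {i j : ℕ}
    (hi : i < q) (hj : j < q) (he : y • D.G c (D.g (D.o c) i) = G' (D.g x j))
    (hB : ∀ i < q, ∀ j < q, ∀ γ : Gam (D.S (D.o c)), γ • D.g (D.o c) i = D.g (D.o c) j → i = j) : i = j := by
  subst e
  by_cases hu : D.g (D.o c) i = 0
  · have h1 : D.g (D.o c) j = 0 := by
      apply hG'.inj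
      rw [← he, hu, map_zero, smul_zero, map_zero]
    apply hB i hi j hj 1
    rw [one_smul, hu, h1]
  · obtain ⟨φ, hφ1, hφ2⟩ := ((D.twI c).smul y).exists_tw (D.simple _) hG' hu (u' := D.g (D.o c) j) he
    exact hB i hi j hj ⟨φ, mem_Gam.2 ⟨_, hφ1⟩⟩ hφ2

theorem orbit_o {c c' : CI V L} (h : c' ∈ MulAction.orbit H c) : D.o c' = D.o c := by
  obtain ⟨y, rfl⟩ := h
  exact D.inv y c

theorem exists_phi {c : CI V L} {y : H} (hy : y • c = c) {u : D.S (D.o c)} (hv : y • D.G c u = D.G c u) :
    ∃ φ : AU (D.S (D.o c)), Tw (D.S (D.o c)) ((D.hh c)⁻¹ * (y * D.hh c)) φ ∧ φ u = u := by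
  by_cases hu : u = 0
  · set! y' : H := (D.hh c)⁻¹ * (y * D.hh c) with hy'; rewrite [← hy']
    have h1 : y' • D.o c = D.o c := by
      rw [hy', mul_smul, mul_smul, D.ho, hy, inv_smul_eq_iff, D.ho]
    haveI := D.simple (D.o c)
    haveI := cj_simple y' (D.simple (D.o c))
    have h2 : cj y' (D.S (D.o c)) ≤ isotypicComponent (RL V L) V (D.S (D.o c)) := by
      rw [← D.comp]
      have h3 := congrArg (fun c : CI V L => (c : (Submodule (RL V L) V :))) h1
      rw [← h3]
      intro v hv
      have h4 : (y'⁻¹ • v) ∈ D.S (D.o c) := hv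
      change y'⁻¹ • v ∈ ((D.o c : CI V L) : Submodule (RL V L) V)
      rw [D.comp]
      exact (D.S (D.o c)).le_isotypicComponent h4
    obtain ⟨e⟩ := isIsotypicOfType_submodule_iff.1 (IsIsotypicOfType.isotypicComponent (RL V L) V (D.S (D.o c))) _ h2
    let F : D.S (D.o c) →ₗ[ℤ] D.S (D.o c) := (AddMonoidHom.mk' (fun w : D.S (D.o c) => e ⟨y' • (w : V), smul_mem_cj.2 w.2⟩) (by
      intro a b
      rw [← map_add]
      congr 1
      exact Subtype.ext (smul_add _ _ _))).toIntLinearMap
    have hF : Function.Injective F := by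
      intro a b hab
      have h30 : e ⟨y' • (a : V), smul_mem_cj.2 a.2⟩ = e ⟨y' • (b : V), smul_mem_cj.2 b.2⟩ := hab
      have h3 := congrArg Subtype.val (e.injective h30)
      exact Subtype.ext (MulAction.injective _ h3)
    refine ⟨LinearEquiv.ofBijective F ⟨hF, Finite.surjective_of_injective hF⟩, ?_, ?_⟩
    · intro l hl w
      have h3 : y' * l * y'⁻¹ ∈ L := hL.conj_mem l hl _
      have h4 : (⟨y' • (((lr l hl : RL V L) • w : D.S (D.o c)) : V), smul_mem_cj.2 ((lr l hl : RL V L) • w).2⟩ :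
          cj y' (D.S (D.o c))) = (lr _ h3 : RL V L) • ⟨y' • (w : V), smul_mem_cj.2 w.2⟩ := by
        apply Subtype.ext
        change y' • (l • (w : V)) = (y' * l * y'⁻¹) • (y' • (w : V))
        rw [← mul_smul, ← mul_smul]
        congr 1
        group
      have h5 : e ⟨y' • (((lr l hl : RL V L) • w : D.S (D.o c)) : V), smul_mem_cj.2 ((lr l hl : RL V L) • w).2⟩ =
          (lr _ h3 : RL V L) • e ⟨y' • (w : V), smul_mem_cj.2 w.2⟩ := by rw [h4, map_smul]
      exact congrArg Subtype.val h5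
    · rw [hu, map_zero]
  · obtain ⟨φ, h1, h2⟩ := ((D.twI c).smul y).exists_tw (D.simple _) (D.twI c) hu (u' := u) hv
    exact ⟨φ, h1, h2⟩

end Dat

end Cfsg.Agent.H478.RC
end

-- part: H478/RC/VecB
section
/-!
# The vector of a rigid colouring is good (S4191, piece `lin_of_core`)
-/

set_option autoImplicit false
set_option linter.unusedSectionVars false
set_option linter.style.haveILetI false

namespace Cfsg.Agent.H478.RC

open Cfsg.Agent.H527.RC Cfsg.Agent.Omega.EH3.Clif
open scoped commutatorElement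

universe u

variable {H V : Type u} [Group H] [AddCommGroup V] [DistribMulAction H V] {L : Subgroup H}

theorem comm_smul {b : H} (hb : ∀ l ∈ L, b * l = l * b) (r : RL V L) (v : V) : r • (b • v) = b • (r • v) := by
  obtain ⟨r, hr⟩ := r
  change r (b • v) = b • r v
  induction hr using Subring.closure_induction generalizing v with
  | mem x hx =>
    obtain ⟨l, rfl⟩ := hx
    change (l : H) • b • v = b • (l : H) • v
    rw [← mul_smul, ← mul_smul, hb l l.2]
  | zero => exact (smul_zero b).symm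
  | one => rfl
  | add x y _ _ hx hy =>
    change x (b • v) + y (b • v) = b • (x v + y v)
    rw [hx, hy, smul_add]
  | neg x _ hx =>
    change -x (b • v) = b • (-x v)
    rw [hx, smul_neg]
  | mul x y _ _ hx hy =>
    change x (y (b • v)) = b • x (y v)
    rw [hy, hx]

/-- an element commuting with `L` as a linear map -/
def endo {b : H} (hb : ∀ l ∈ L, b * l = l * b) : V →ₗ[RL V L] V where
  toFun v := b • v
  map_add' := smul_add b
  map_smul' r v := (comm_smul hb r v).symm

variable [Finite V] [hL : L.Normal] {p t q : ℕ} [Fact p.Prime] {Z : Set ℕ} (D : Dat V L p t q Z)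

theorem comm_fix {b : H} (hb : ∀ l ∈ L, b * l = l * b) (c : CI V L) : b • c = c := by
  have h1 := (Submodule.IsFullyInvariant.of_mem_isotypicComponents c.2 :)
  have hb' : ∀ l ∈ L, b⁻¹ * l = l * b⁻¹ := by
    intro l hl
    have := hb l hl
    rw [inv_mul_eq_iff_eq_mul, ← mul_assoc, this, mul_inv_cancel_right]
  apply Subtype.ext
  ext v
  rw [mem_smul_comp]
  constructor
  · intro h
    have h2 := h1 (endo hb) h
    rw [Submodule.mem_comap] at h2
    have h3 : endo hb (b⁻¹ • v) = v := smul_inv_smul b v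
    rwa [h3] at h2
  · intro h
    exact h1 (endo hb') h

namespace Dat

/-- rigid on the orbits -/
def _root_.Cfsg.Agent.H478.RC.Rg (H : Type*) {C : Type*} [Group H] [MulAction H C] (κ : C → ℕ) : Prop :=
  ∀ (y : H) (c : C), (∀ c' ∈ MulAction.orbit H c, κ (y • c') = κ c') → y • c = c

/-- the map to `Gam` -/
def toGam (c : CI V L) : L →* Gam (D.S (D.o c)) :=
  ((rho (D.S (D.o c))).codRestrict (Gam _) rho_mem).comp (MulAut.conjNormal (D.hh c)⁻¹).toMonoidHom

theorem toGam_apply (c : CI V L) (l : L) :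
    ((D.toGam c l : Gam (D.S (D.o c))) : AU (D.S (D.o c))) = rho _ (MulAut.conjNormal (D.hh c)⁻¹ l) := rfl

theorem toGam_eq_one {c : CI V L} {x : L} (h : D.toGam c x = 1) {w : V} (hw : w ∈ cj (D.hh c) (D.S (D.o c))) :
    (x : H) • w = w := by
  have h1 : (D.hh c)⁻¹ • w ∈ D.S (D.o c) := hw
  have h2 := congrArg (fun φ : Gam (D.S (D.o c)) => (((φ : AU _) ⟨_, h1⟩ : D.S (D.o c)) : V)) h
  simp only [toGam_apply, rho_apply, MulAut.conjNormal_apply, inv_inv] at h2
  have h3 : ((D.hh c)⁻¹ * (x : H) * D.hh c) • (D.hh c)⁻¹ • w = (D.hh c)⁻¹ • w := h2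
  rw [← mul_smul, mul_inv_cancel_right, mul_smul] at h3
  exact MulAction.injective _ h3

theorem joint (hss : (IsSemisimpleModule (RL V L) V :)) (hf : ∀ h : H, (∀ v : V, h • v = v) → h = 1) {x : L}
    (h : ∀ c, D.toGam c x = 1) : x = 1 := by
  apply Subtype.ext
  apply hf
  apply all_of_simple hss
  · exact smul_zero _
  · intro v w hv hw
    rw [smul_add, hv, hw]
  · intro m hm v hv
    let c : CI V L := ⟨(isotypicComponent (RL V L) V m :), m, hm, rfl⟩
    haveI := hm
    haveI := cj_simple (D.hh c) (D.simple (D.o c))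
    have h1 : m ≤ isotypicComponent (RL V L) V (cj (D.hh c) (D.S (D.o c))) := by
      rw [← D.comp' c]
      exact m.le_isotypicComponent
    obtain ⟨e⟩ := isIsotypicOfType_submodule_iff.1
      (IsIsotypicOfType.isotypicComponent (RL V L) V (cj (D.hh c) (D.S (D.o c)))) _ h1
    have h2 : (lr (x : H) x.2 : RL V L) • (⟨v, hv⟩ : m) = ⟨v, hv⟩ := by
      apply e.injective
      rw [map_smul]
      exact Subtype.ext (D.toGam_eq_one (h c) (e ⟨v, hv⟩).2)
    exact congrArg Subtype.val h2

/-- distinct labels are inequivalent -/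
def PB (x : CI V L) : Prop := ∀ i < q, ∀ j < q, ∀ γ : Gam (D.S x), γ • D.g x i = D.g x j → i = j

theorem fix_of_rg {κ : CI V L → ℕ} (hκ : ∀ c, κ c < q) (hR : Rg H κ) {y : H} (hy : y • D.vec κ = D.vec κ) {c : CI V L}
    (hB : D.PB (D.o c)) : y • c = c := by
  apply hR
  intro c' hc'
  have e : D.o c' = D.o c := D.orbit_o hc'
  have hB' : D.PB (D.o c') := by rw [e]; exact hB
  have h1 := D.smul_val hy c'
  exact (D.lab_aux (c := c') (D.inv y c') (D.twI (y • c')) (hκ c') (hκ (y • c')) h1 hB').symm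

/-- **The vector is good.** -/
theorem gd_vec (hss : (IsSemisimpleModule (RL V L) V :)) (hf : ∀ h : H, (∀ v : V, h • v = v) → h = 1)
    {κ : CI V L → ℕ} (hκ : ∀ c, κ c < q) (hR : Rg H κ) : Gd p t L (D.vec κ) := by
  intro y hyp hyv
  have hle : ⁅L, Subgroup.zpowers y⁆ ≤ L := Subgroup.commutator_le_left _ _
  refine (FH.subdirect (I := CI V L) (G' := fun c => Gam (D.S (D.o c)))
    (fun c => (D.toGam c).comp (Subgroup.inclusion hle)) ?_ ?_ :)
  · intro x hx
    have h1 := D.joint hss hf (x := Subgroup.inclusion hle x) hx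
    have h2 := congrArg (fun z : L => (z : H)) h1
    exact Subtype.ext h2
  · intro c
    rcases D.alt (D.o c) with hA | ⟨hG, hB⟩
    · refine FH.subgroup (B := Lt _ p (D.simple (D.o c))) ?_ hA
      rintro _ ⟨x, rfl⟩
      exact rho_mem_Lt (D.simple (D.o c)) _
    · have h1 : y • c = c := D.fix_of_rg hκ hR hyv hB
      have h2 := D.smul_val hyv c
      rw [h1] at h2
      obtain ⟨φ, hφ1, hφ2⟩ := D.exists_phi h1 h2
      have hyp' : PEl p ((D.hh c)⁻¹ * (y * D.hh c)) := by
        obtain ⟨k, hk⟩ := hyp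
        refine ⟨k, ?_⟩
        have h3 : (D.hh c)⁻¹ * (y * D.hh c) = (D.hh c)⁻¹ * y * (D.hh c)⁻¹⁻¹ := by group
        rw [h3, conj_pow, hk]
        group
      obtain ⟨ψ, hψ1, hψ2, hψ3⟩ := hφ1.exists_pel hyp'
      have hψ4 := hψ3 _ hφ2
      let ψ' : Gam (D.S (D.o c)) := ⟨ψ, mem_Gam.2 ⟨_, hψ1⟩⟩
      have h4 : PEl p ψ' := by
        obtain ⟨k, hk⟩ := hψ2
        exact ⟨k, Subtype.ext hk⟩
      refine FH.subgroup ?_ (hG (κ c) (hκ c) ψ' h4 hψ4)
      -- the commutators
      have h5 : ⁅L, Subgroup.zpowers y⁆ ≤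
          ((⁅Lt _ p (D.simple (D.o c)), Subgroup.zpowers ψ'⁆ : Subgroup (Gam (D.S (D.o c)))).comap (D.toGam c)).map L.subtype := by
        rw [Subgroup.commutator_le]
        rintro g hg _ ⟨n, rfl⟩
        refine ⟨⟨⁅g, y ^ n⁆, hle (Subgroup.commutator_mem_commutator hg ⟨n, rfl⟩)⟩, ?_, rfl⟩
        have h6 : D.toGam c ⟨⁅g, y ^ n⁆, hle (Subgroup.commutator_mem_commutator hg ⟨n, rfl⟩)⟩ =
            ⁅D.toGam c ⟨g, hg⟩, ψ' ^ n⁆ := by
          set! y' : H := (D.hh c)⁻¹ * (y * D.hh c) with hy'; rewrite [← hy'] at hψ1 hyp' hφ1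
          set! g' : L := MulAut.conjNormal (D.hh c)⁻¹ ⟨g, hg⟩ with hg'
          have h7 : Tw (D.S (D.o c)) (y' ^ n) (ψ ^ n) := hψ1.zpow n
          have h8 : y' ^ n = (D.hh c)⁻¹ * y ^ n * D.hh c := by
            have h3 : y' = (D.hh c)⁻¹ * y * (D.hh c)⁻¹⁻¹ := by rw [hy']; group
            rw [h3, conj_zpow, inv_inv]
          have h9 : (MulAut.conjNormal (D.hh c)⁻¹ (⟨⁅g, y ^ n⁆, hle (Subgroup.commutator_mem_commutator hg ⟨n, rfl⟩)⟩ : L) : L) =
              g' * ⟨y' ^ n * ((g'⁻¹ : L) : H) * (y' ^ n)⁻¹, hL.conj_mem _ (g'⁻¹).2 _⟩ := by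
            apply Subtype.ext
            change (D.hh c)⁻¹ * ⁅g, y ^ n⁆ * (D.hh c)⁻¹⁻¹ = ((D.hh c)⁻¹ * g * (D.hh c)⁻¹⁻¹) *
              (y' ^ n * ((D.hh c)⁻¹ * g * (D.hh c)⁻¹⁻¹)⁻¹ * (y' ^ n)⁻¹)
            rw [h8, commutatorElement_def]
            group
          have h10 := h7.conj (g'⁻¹)
          apply Subtype.ext
          simp only [toGam_apply D c (⟨⁅g, y ^ n⁆, _⟩), h9, map_mul (rho (D.S (D.o c))) g' (⟨y' ^ n * ↑g'⁻¹ * (y' ^ n)⁻¹, _⟩), eq_mul_inv_of_mul_eq h10.symm, commutatorElement_def ((D.toGam c) ⟨g, hg⟩) (ψ' ^ n), Subgroup.coe_mul,             Subgroup.coe_mul (Gam (D.S (D.o c))) ((D.toGam c) ⟨g, hg⟩ * ψ' ^ n) (((D.toGam c) ⟨g, hg⟩)⁻¹), Subgroup.coe_mul (Gam (D.S (D.o c))) ((D.toGam c) ⟨g, hg⟩) (ψ' ^ n), Subgroup.coe_inv (Gam (D.S (D.o c))) ((D.toGam c) ⟨g, hg⟩), Subgroup.coe_inv (Gam (D.S (D.o c))) (ψ' ^ n), Subgroup.coe_zpow (Gam (D.S (D.o c))) ψ' n, toGam_apply D c (⟨g, hg⟩), map_inv (rho (D.S (D.o c))) g']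
          change rho _ g' * (ψ ^ n * (rho _ g')⁻¹ * (ψ ^ n)⁻¹) = rho _ g' * ψ ^ n * (rho _ g')⁻¹ * (ψ ^ n)⁻¹
          group
        rw [SetLike.mem_coe, Subgroup.mem_comap, h6]
        exact Subgroup.commutator_mem_commutator (rho_mem_Lt (D.simple (D.o c)) _) ⟨n, rfl⟩
      rintro _ ⟨x, rfl⟩
      obtain ⟨l, hl1, hl2⟩ := h5 x.2
      have h6 : Subgroup.inclusion hle x = l := Subtype.ext hl2.symm
      rw [MonoidHom.comp_apply, h6]
      exact hl1

seal _root_.AddMonoid.End in
/-- **The stabilizer in the central part.** -/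
theorem stab_vec {κ : CI V L → ℕ} {b : H} (hb : ∀ l ∈ L, b * l = l * b) (hv : b • D.vec κ = D.vec κ) {c : CI V L}
    (hc : κ c ∉ Z) (w : cj (D.hh c) (D.S (D.o c))) : b • D.f c w = D.f c w := by
  have h1 := D.smul_val hv c
  rw [comm_fix hb c] at h1
  let X : AddSubgroup (cj (D.hh c) (D.S (D.o c))) :=
    { carrier := {w | b • D.f c w = D.f c w}
      zero_mem' := by
        change b • D.f c 0 = D.f c 0
        rw [map_zero, smul_zero]
      add_mem' := by
        intro x y hx hy
        change b • D.f c (x + y) = D.f c (x + y)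
        have hx' : b • D.f c x = D.f c x := hx
        have hy' : b • D.f c y = D.f c y := hy
        rw [map_add, smul_add, hx', hy']
      neg_mem' := by
        intro x hx
        change b • D.f c (-x) = D.f c (-x)
        have hx' : b • D.f c x = D.f c x := hx
        rw [map_neg, smul_neg, hx'] }
  have hX : X = ⊥ ∨ X = ⊤ := by
    apply simple_inv (cj_simple (D.hh c) (D.simple (D.o c)))
    intro l hl x hx
    have hx' : b • D.f c x = D.f c x := hx
    change b • D.f c ((lr l hl : RL V L) • x) = D.f c ((lr l hl : RL V L) • x)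
    rw [map_smul, ← comm_smul hb, hx']
  rcases hX with h2 | h2
  · exfalso
    have h3 : (⟨D.hh c • (D.g (D.o c) (κ c) : V), smul_mem_cj.2 (D.g (D.o c) (κ c)).2⟩ : cj (D.hh c) (D.S (D.o c))) ∈ X := h1
    rw [h2, AddSubgroup.mem_bot] at h3
    apply D.nz (D.o c) (κ c) hc
    have h4 := congrArg Subtype.val h3
    have h5 : D.hh c • (D.g (D.o c) (κ c) : V) = 0 := h4
    rw [smul_eq_zero_iff_eq] at h5
    exact Subtype.ext h5
  · have h3 : w ∈ X := by rw [h2]; trivial
    exact h3

end Dat

end Cfsg.Agent.H478.RC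
end

private theorem dce_16740dfc0fc0 : _root_.True := by
  try have : _root_.True := by simp only [_root_.Cfsg.Agent.H478.RC.Dat.vec.eq_1]
  exact _root_.True.intro
end

-- part: H120/RC/Ord
section
prune_inst 0xf00059004400002010180580e10002203400009200400400040006440b4840420503280109800113002a828000000008124c04b00000000000000400000006299082520033500c00260091000004000000000000000000000000000000000004000000000
set_option linter.all false
open scoped Cfsg.Agent.FastGrp

-- part: H120/RC/Sob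
section
/-!
# S4191, SOB: orders of solvable linear groups without normal subgroups in the characteristic (helper120)
-/

set_option autoImplicit false

namespace Cfsg.Agent.H120.RC

open Cfsg.Agent.H527.RC

universe u w

section

variable {G : Type w} [Group G] {X : Type u} [AddCommGroup X]

/-- restriction to an invariant subgroup -/
def resHom (φ : G →* AddMonoid.End X) (U : AddSubgroup X) (hU : ∀ g : G, ∀ x ∈ U, φ g x ∈ U) :
    G →* AddMonoid.End U where
  toFun g := ((φ g : X →+ X).comp U.subtype).codRestrict U (fun x => hU g x x.2)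
  map_one' := by
    ext x
    show φ 1 (x : X) = (x : X)
    rw [map_one]
    rfl
  map_mul' a b := by
    ext x
    show φ (a * b) (x : X) = φ a (φ b (x : X))
    rw [map_mul]
    rfl

/-- the action on the quotient by an invariant subgroup -/
def quoHom (φ : G →* AddMonoid.End X) (U : AddSubgroup X) (hU : ∀ g : G, ∀ x ∈ U, φ g x ∈ U) :
    G →* AddMonoid.End (X ⧸ U) where
  toFun g := QuotientAddGroup.map U U (φ g : X →+ X) (fun x hx => hU g x hx)
  map_one' := by
    refine AddMonoidHom.ext fun x => ?_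
    obtain ⟨x, rfl⟩ := QuotientAddGroup.mk_surjective x
    show ((φ 1 x : X) : X ⧸ U) = ((x : X) : X ⧸ U)
    rw [map_one]
    rfl
  map_mul' a b := by
    refine AddMonoidHom.ext fun x => ?_
    obtain ⟨x, rfl⟩ := QuotientAddGroup.mk_surjective x
    show ((φ (a * b) x : X) : X ⧸ U) = ((φ a (φ b x) : X) : X ⧸ U)
    rw [map_mul]
    rfl

theorem quoHom_apply (φ : G →* AddMonoid.End X) (U : AddSubgroup X) (hU : ∀ g : G, ∀ x ∈ U, φ g x ∈ U) (g : G)
    (x : X) : quoHom φ U hU g (x : X ⧸ U) = ((φ g x : X) : X ⧸ U) := rfl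

/-- an irreducible module -/
theorem irr [Finite G] [Finite X] (hG : Group.IsSolvable G) (φ : G →* AddMonoid.End X)
    (hirr : ∀ U : AddSubgroup X, (∀ g : G, ∀ x ∈ U, φ g x ∈ U) → U = ⊥ ∨ U = ⊤) :
    φ.ker.index ≤ Nat.card X ^ 3 := by
  set ψ := φ.toHomUnits with hψ
  have hval : ∀ g : G, ((ψ g : (AddMonoid.End X)ˣ) : AddMonoid.End X) = φ g := fun g => rfl
  have hker : φ.ker = ψ.ker := by
    ext g
    rw [MonoidHom.mem_ker, MonoidHom.mem_ker, ← Units.val_inj, hval, Units.val_one]
  rw [hker, Subgroup.index_ker]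
  have hsm : ∀ (a : ψ.range) (x : X), a • x = ((a : (AddMonoid.End X)ˣ) : AddMonoid.End X) x := fun a x => rfl
  have hfin : Finite ψ.range := Set.finite_range ψ
  have hfs : FaithfulSMul ψ.range X := by
    refine ⟨fun {a b} h => ?_⟩
    apply Subtype.ext
    apply Units.ext
    exact AddMonoidHom.ext fun x => h x
  have hsol : Group.IsSolvable ψ.range := Group.isSolvable_of_surjective (f := ψ.rangeRestrict)
    ψ.rangeRestrict_surjective
  obtain ⟨v₁, v₂, v₃, hv⟩ := Cfsg.Agent.H578.base3 (A := ψ.range) (V := X) hsol (by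
    intro U hU
    rcases hirr U (fun g x hx => hU ⟨ψ g, g, rfl⟩ x hx) with rfl | rfl
    · exact ⟨⊤, fun _ _ _ => trivial, by simp only [_root_.le_top, _root_.inf_of_le_left], by simp only [_root_.le_top, _root_.sup_of_le_right]⟩
    · exact ⟨⊥, fun a x hx => by
        rw [AddSubgroup.mem_bot] at hx ⊢
        rw [hx, smul_zero], by simp only [_root_.le_top, _root_.inf_of_le_right], by simp⟩)
  have hinj : Function.Injective (fun a : ψ.range => (a • v₁, a • v₂, a • v₃)) := by
    intro a b hab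
    simp only [Prod.mk.injEq] at hab
    have h1 := hv (b⁻¹ * a) (by rw [mul_smul, hab.1, inv_smul_smul]) (by rw [mul_smul, hab.2.1, inv_smul_smul])
      (by rw [mul_smul, hab.2.2, inv_smul_smul])
    exact (inv_mul_eq_one.1 h1).symm
  refine (Nat.card_le_card_of_injective _ hinj).trans (le_of_eq ?_)
  rw [Nat.card_prod, Nat.card_prod]
  ring

/-- a normal subgroup of small index all of whose elements act as `q`-elements -/
theorem claim {q : ℕ} (hG : Group.IsSolvable G) [Finite G] : ∀ (n : ℕ) (X : Type u) [AddCommGroup X] [Finite X]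
    (φ : G →* AddMonoid.End X), (∀ x : X, q • x = 0) → Nat.card X = n →
    ∃ N : Subgroup G, N.Normal ∧ N.index ≤ Nat.card X ^ 3 ∧ ∀ g ∈ N, ∃ k : ℕ, ∀ x : X, φ (g ^ q ^ k) x = x := by
  intro n
  induction n using Nat.strong_induction_on with
  | _ n ih =>
    intro X _ _ φ hq hn
    by_cases hirr : ∀ U : AddSubgroup X, (∀ g : G, ∀ x ∈ U, φ g x ∈ U) → U = ⊥ ∨ U = ⊤
    · refine ⟨φ.ker, inferInstance, irr hG φ hirr, fun g hg => ⟨0, fun x => ?_⟩⟩
      rw [pow_zero, pow_one, MonoidHom.mem_ker.1 hg]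
      rfl
    push Not at hirr
    obtain ⟨U, hU, hU0, hU1⟩ := hirr
    have hcard : Nat.card X = Nat.card (X ⧸ U) * Nat.card U := AddSubgroup.card_eq_card_quotient_mul_card_addSubgroup U
    have h1 : 1 < Nat.card U := by
      rw [Finite.one_lt_card_iff_nontrivial]
      exact (AddSubgroup.nontrivial_iff_ne_bot U).2 hU0
    have h2 : 1 < Nat.card (X ⧸ U) := by
      have h3 : U.index ≠ 1 := fun h => hU1 (AddSubgroup.index_eq_one.1 h)
      have h4 : 0 < Nat.card (X ⧸ U) := Nat.card_pos
      have h5 : U.index = Nat.card (X ⧸ U) := rfl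
      omega
    obtain ⟨N₁, hN₁, hi₁, hk₁⟩ := ih (Nat.card U) (by rw [← hn, hcard]; nlinarith only [h1, h2]) U (resHom φ U hU)
      (fun x => Subtype.ext (hq x)) rfl
    obtain ⟨N₂, hN₂, hi₂, hk₂⟩ := ih (Nat.card (X ⧸ U)) (by rw [← hn, hcard]; nlinarith only [h1, h2]) (X ⧸ U) (quoHom φ U hU)
      (fun x => by
        obtain ⟨x, rfl⟩ := QuotientAddGroup.mk_surjective x
        have h := congrArg (fun y : X => (y : X ⧸ U)) (hq x)
        simpa only [_root_.QuotientAddGroup.mk_nsmul, _root_.QuotientAddGroup.mk_zero] using h) rfl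
    refine ⟨N₁ ⊓ N₂, inferInstance, ?_, ?_⟩
    · refine Subgroup.index_inf_le.trans ?_
      rw [hcard, mul_pow, mul_comm (Nat.card (X ⧸ U) ^ 3)]
      exact Nat.mul_le_mul hi₁ hi₂
    · intro g hg
      obtain ⟨k₁, h₁⟩ := hk₁ g hg.1
      obtain ⟨k₂, h₂⟩ := hk₂ g hg.2
      have hpow : ∀ (Y : Type u) [AddCommGroup Y] (ψ : G →* AddMonoid.End Y) (a : G), (∀ y : Y, ψ a y = y) →
          ∀ (j : ℕ) (y : Y), ψ (a ^ j) y = y := by
        intro Y _ ψ a ha j
        induction j with
        | zero => intro y; rw [pow_zero, map_one]; rfl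
        | succ j ih =>
          intro y
          rw [pow_succ, map_mul]
          show ψ (a ^ j) (ψ a y) = y
          rw [ha, ih]
      set h := g ^ q ^ (k₁ + k₂) with hh
      have e₁ : ∀ x : U, φ h (x : X) = x := by
        intro x
        have h3 := hpow U (resHom φ U hU) _ h₁ (q ^ k₂) x
        rw [← pow_mul, ← pow_add] at h3
        exact congrArg Subtype.val h3
      have e₂ : ∀ x : X, φ h x - x ∈ U := by
        intro x
        have h3 := hpow (X ⧸ U) (quoHom φ U hU) _ h₂ (q ^ k₁) (x : X ⧸ U)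
        rw [← pow_mul, ← pow_add, add_comm k₂, quoHom_apply] at h3
        have h4 := QuotientAddGroup.eq.1 h3.symm
        rwa [neg_add_eq_sub] at h4
      refine ⟨k₁ + k₂ + 1, fun x => ?_⟩
      have e₃ : ∀ j : ℕ, φ (h ^ j) x = x + j • (φ h x - x) := by
        intro j
        induction j with
        | zero => rw [pow_zero, map_one, zero_smul, add_zero]; rfl
        | succ j ih =>
          rw [pow_succ', map_mul]
          show φ h (φ (h ^ j) x) = _
          rw [ih, map_add, map_nsmul, e₁ ⟨_, e₂ x⟩, succ_nsmul]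
          abel
      rw [pow_succ, pow_mul, ← hh, e₃, hq, add_zero]

end

end Cfsg.Agent.H120.RC
end

-- part: H120/RC/Ord
section
/-!
# S4191, ORDP: orders of primitive solvable linear groups (helper120)

* `relIndex_cent_le` : `|C(A) : S| ≤ e ^ 6`;
* `card_range_le_log` : `|Gal| ≤ log_2 |F|`;
* `card_le` : `|L| ≤ |Gal| (|F| - 1) e ^ 8`.
-/

set_option autoImplicit false
set_option linter.unusedSectionVars false

namespace Cfsg.Agent.H120.RC

open scoped Pointwise commutatorElement
open Cfsg.Agent.H822.Cls Cfsg.Agent.H308.ClsNum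

universe u w v

section

variable {L : Type u} {U : Type v} {F : Type w} [Group L] [Finite L] [AddCommGroup U] [Finite U] [Nontrivial U]
  [DistribMulAction L U] [Field F] [Finite F] [Module F U] (D : Prim L U F)

theorem conjX_one (y : D.S ⧸ D.A.subgroupOf D.S) : conjX D 1 y = y := by
  obtain ⟨s, rfl⟩ := QuotientGroup.mk_surjective y
  exact conjX_mk D 1 s s (by group)

theorem conjX_mul (a b : L) (y : D.S ⧸ D.A.subgroupOf D.S) : conjX D (a * b) y = conjX D a (conjX D b y) := by
  obtain ⟨s, rfl⟩ := QuotientGroup.mk_surjective y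
  have hb : b * s * b⁻¹ ∈ D.S := D.S_normal.conj_mem s s.2 b
  have hab : a * (b * s * b⁻¹) * a⁻¹ ∈ D.S := D.S_normal.conj_mem _ hb a
  rw [conjX_mk D b s ⟨_, hb⟩ rfl, conjX_mk D a ⟨_, hb⟩ ⟨_, hab⟩ rfl]
  exact conjX_mk D (a * b) s ⟨_, hab⟩ (by
    show a * (b * s * b⁻¹) * a⁻¹ = a * b * s * (a * b)⁻¹
    group)

/-- the action of `L` on the `q`-part of `S / A` -/
noncomputable def actK (q : ℕ) : L →* AddMonoid.End (Additive (K D q)) where
  toFun x := MonoidHom.toAdditive (conjK D q x)
  map_one' := by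
    refine AddMonoidHom.ext fun y => ?_
    exact congrArg Additive.ofMul (Subtype.ext (conjX_one D (y.toMul : K D q)))
  map_mul' a b := by
    refine AddMonoidHom.ext fun y => ?_
    exact congrArg Additive.ofMul (Subtype.ext (conjX_mul D a b (y.toMul : K D q)))

/-- a normal subgroup of index at most `|X_q| ^ 3` acting trivially on the `q`-part -/
theorem exists_triv [Group.IsSolvable L] {q : ℕ} (hq : q.Prime) :
    ∃ N : Subgroup L, N.Normal ∧ N.index ≤ Nat.card (K D q) ^ 3 ∧ ∀ x ∈ N, D.Triv q x := by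
  obtain ⟨N, hN, hi, hk⟩ := claim (q := q) (G := L) inferInstance (Nat.card (Additive (K D q))) (Additive (K D q))
    (actK D q) (fun x => by
      refine congrArg Additive.ofMul (Subtype.ext ?_ : (x.toMul : K D q) ^ q = 1)
      exact x.toMul.2) rfl
  refine ⟨N, hN, hi, ?_⟩
  refine D.ss q hq N hN fun x hx => ?_
  obtain ⟨k, hk⟩ := hk x hx
  refine ⟨k, fun s hs hsq => ?_⟩
  have h1 : conjK D q (x ^ q ^ k) = conjK D q 1 := by
    refine MonoidHom.ext fun y => ?_
    have h2 := congrArg Additive.toMul (hk (Additive.ofMul y))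
    have h3 : conjK D q (x ^ q ^ k) y = y := h2
    rw [h3]
    exact (Subtype.ext (conjX_one D (y : D.S ⧸ D.A.subgroupOf D.S))).symm
  have h2 := conjK_eq D h1 hs hsq
  rwa [inv_one, one_mul] at h2

theorem card_K_eq {Q : Finset ℕ} {m : ℕ → ℕ} (hN : D.Num Q m) {q : ℕ} (hq : q ∈ Q) :
    Nat.card (K D q) = q ^ (2 * m q) := by
  rw [← relIndex_W]
  exact hN.card_part q hq _ fun s => mem_W D

/-- `|C(A) : S| ≤ e ^ 6` -/
theorem relIndex_cent_le [Group.IsSolvable L] {Q : Finset ℕ} {m : ℕ → ℕ} (hN : D.Num Q m) :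
    D.S.relIndex (Subgroup.centralizer (D.A : Set L)) ≤ (∏ q ∈ Q, q ^ m q) ^ 6 := by
  classical
  have hex : ∀ q : Q, ∃ N : Subgroup L, N.Normal ∧ N.index ≤ Nat.card (K D (q : ℕ)) ^ 3 ∧ ∀ x ∈ N, D.Triv (q : ℕ) x :=
    fun q => exists_triv D (hN.prime q q.2)
  choose N hNn hNi hNt using hex
  set C := Subgroup.centralizer (D.A : Set L)
  have h1 : (⨅ q : Q, N q) ⊓ C ≤ D.S := by
    intro c hc
    refine mem_of_triv D hN hc.2 fun q hq => ?_
    exact hNt ⟨q, hq⟩ c ((Subgroup.mem_iInf.1 hc.1) ⟨q, hq⟩)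
  have h2 : D.S.relIndex C ≤ ((⨅ q : Q, N q) ⊓ C).relIndex C :=
    Subgroup.relIndex_le_of_le_left h1 (by
      rw [Subgroup.relIndex]
      exact Subgroup.FiniteIndex.index_ne_zero)
  rw [Subgroup.inf_relIndex_right] at h2
  have h3 : (⨅ q : Q, N q).relIndex C ≤ (⨅ q : Q, N q).index := by
    rw [← Subgroup.relIndex_top_right]
    exact Subgroup.relIndex_le_of_le_right le_top (by
      rw [Subgroup.relIndex]
      exact Subgroup.FiniteIndex.index_ne_zero)
  refine (h2.trans h3).trans ((Subgroup.index_iInf_le N).trans ?_)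
  rw [← Finset.prod_pow, ← Finset.prod_coe_sort Q (fun q => (q ^ m q) ^ 6)]
  refine Finset.prod_le_prod' fun q _ => ?_
  refine (hNi q).trans (le_of_eq ?_)
  rw [card_K_eq D hN q.2, ← pow_mul, ← pow_mul]
  congr 1
  ring

theorem card_A_le : Nat.card D.A ≤ Nat.card F - 1 := by
  rw [← Nat.card_units]
  exact Nat.card_le_card_of_injective D.ι D.ι_inj

theorem index_cent : (Subgroup.centralizer (D.A : Set L)).index = Nat.card D.σ.range := by
  rw [← D.σ_ker, Subgroup.index_ker]

theorem card_eq : Nat.card L = Nat.card D.σ.range * D.S.relIndex (Subgroup.centralizer (D.A : Set L)) *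
    D.A.relIndex D.S * Nat.card D.A := by
  rw [← index_cent, ← Subgroup.relIndex_bot_left D.A, mul_comm _ (D.S.relIndex _), Subgroup.relIndex_mul_index D.S_le,
    mul_comm D.S.index, Subgroup.relIndex_mul_index D.A_le, mul_comm D.A.index, Subgroup.relIndex_mul_index bot_le,
    Subgroup.index_bot]

/-- `|L| ≤ |Gal| (|F| - 1) e ^ 8` -/
theorem card_le [Group.IsSolvable L] {Q : Finset ℕ} {m : ℕ → ℕ} (hN : D.Num Q m) :
    Nat.card L ≤ Nat.card D.σ.range * (Nat.card F - 1) * (∏ q ∈ Q, q ^ m q) ^ 8 := by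
  rw [card_eq D, hN.relIndex]
  calc Nat.card D.σ.range * D.S.relIndex (Subgroup.centralizer (D.A : Set L)) * (∏ q ∈ Q, q ^ m q) ^ 2 *
        Nat.card D.A
      ≤ Nat.card D.σ.range * (∏ q ∈ Q, q ^ m q) ^ 6 * (∏ q ∈ Q, q ^ m q) ^ 2 * (Nat.card F - 1) := by
        gcongr
        · exact relIndex_cent_le D hN
        · exact card_A_le D
    _ = Nat.card D.σ.range * (Nat.card F - 1) * (∏ q ∈ Q, q ^ m q) ^ 8 := by ring

end

/-- the automorphism group of a finite field of order `p ^ f` has order at most `f` -/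
theorem card_ringEquiv_le (F : Type*) [Field F] [Finite F] {p f : ℕ} (hp : p.Prime) (hF : Nat.card F = p ^ f) :
    Nat.card (F ≃+* F) ≤ f := by
  have : Fact p.Prime := ⟨hp⟩
  have : Fintype F := Fintype.ofFinite F
  have hf : 0 < f := by
    rcases Nat.eq_zero_or_pos f with h | h
    · rw [h, pow_zero] at hF
      have := Finite.one_lt_card (α := F)
      omega
    · exact h
  have hchar : CharP F p := by
    have := charP_of_card_eq_prime_pow (R := F) (f := f) (by rw [← Nat.card_eq_fintype_card]; exact hF)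
    exact this
  let _ : Algebra (ZMod p) F := ZMod.algebra F p
  let e : (F ≃+* F) → Gal(F/ZMod p) := fun τ => AlgEquiv.ofRingEquiv (f := τ) (by
    intro x
    have h1 : (τ : F →+* F).comp (algebraMap (ZMod p) F) = algebraMap (ZMod p) F := RingHom.ext_zmod _ _
    exact RingHom.congr_fun h1 x)
  have he : Function.Injective e := by
    intro a b hab
    ext x
    exact DFunLike.congr_fun hab x
  have hfin : Module.finrank (ZMod p) F = f := by
    have h1 := Module.natCard_eq_pow_finrank (K := ZMod p) (V := F)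
    rw [hF, Nat.card_zmod] at h1
    exact (Nat.pow_right_injective hp.two_le h1).symm
  refine (Nat.card_le_card_of_injective e he).trans ?_
  rw [← hfin, Nat.card_eq_fintype_card]
  exact AlgEquiv.card_le

theorem card_range_le {L U F : Type*} [Group L] [AddCommGroup U] [DistribMulAction L U] [Field F] [Finite F]
    [Module F U] (D : Prim L U F) {p f : ℕ} (hp : p.Prime) (hF : Nat.card F = p ^ f) :
    Nat.card D.σ.range ≤ f := by
  have : Finite (F ≃+* F) := DFunLike.finite _
  exact (Nat.card_le_card_of_injective _ Subtype.val_injective).trans (card_ringEquiv_le F hp hF)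

theorem card_range_le_log {L U F : Type*} [Group L] [AddCommGroup U] [DistribMulAction L U] [Field F] [Finite F]
    [Module F U] (D : Prim L U F) : Nat.card D.σ.range ≤ Nat.log 2 (Nat.card F) := by
  have : Fintype F := Fintype.ofFinite F
  obtain ⟨p, _, f, hp, hF⟩ := FiniteField.card' F
  rw [← Nat.card_eq_fintype_card] at hF
  refine (card_range_le D hp hF).trans ?_
  rw [hF]
  exact Nat.le_log_of_pow_le one_lt_two (Nat.pow_le_pow_left hp.two_le _)

/-- `|L| ≤ log_2 |F| (|F| - 1) e ^ 8` -/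
theorem card_le_log {L U F : Type*} [Group L] [Finite L] [Group.IsSolvable L] [AddCommGroup U] [Finite U]
    [Nontrivial U] [DistribMulAction L U] [Field F] [Finite F] [Module F U] (D : Prim L U F) {Q : Finset ℕ}
    {m : ℕ → ℕ} (hN : D.Num Q m) :
    Nat.card L ≤ Nat.log 2 (Nat.card F) * (Nat.card F - 1) * (∏ q ∈ Q, q ^ m q) ^ 8 := by
  refine (card_le D hN).trans ?_
  gcongr
  exact card_range_le_log D

end Cfsg.Agent.H120.RC
end
end

-- part: H62/RC/RatTwo_mg
section
prune_inst 0x200004001000002010000590010000200400009000000000008005460000400005022000098004000802000000010020000004204000000000000400000006298080100001000000020081000000000000000000000000000000000000000000000000000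
set_option linter.all false
open scoped Cfsg.Agent.FastGrp

-- part: H62/RC/Conv
section
/-!
# Subgroups acting on invariant subgroups: passage to the faithful quotient (for S4191, RAT2)
-/

set_option autoImplicit false

namespace Cfsg.Agent.H62.RC

open Subgroup MulAction

universe u

/-- faithful action (elementwise) -/
def Faith (P V : Type u) [Group P] [AddCommGroup V] [DistribMulAction P V] : Prop :=
  ∀ g : P, (∀ v : V, g • v = v) → g = 1

section defs

variable {P V : Type u} [Group P] [AddCommGroup V] [DistribMulAction P V]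

/-- the pointwise centralizer of `X` in `H` -/
def fx (H : Subgroup P) (X : AddSubgroup V) : Subgroup P where
  carrier := {g | g ∈ H ∧ ∀ x ∈ X, g • x = x}
  one_mem' := ⟨H.one_mem, fun x _ => one_smul _ x⟩
  mul_mem' := fun {a b} ha hb => ⟨H.mul_mem ha.1 hb.1, fun x hx => by
    rw [mul_smul, hb.2 x hx, ha.2 x hx]⟩
  inv_mem' := fun {a} ha => ⟨H.inv_mem ha.1, fun x hx => by
    rw [inv_smul_eq_iff, ha.2 x hx]⟩

theorem fx_le_stab (H : Subgroup P) {X : AddSubgroup V} {x : V} (hx : x ∈ X) :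
    fx H X ≤ H ⊓ stabilizer P x := fun _ h => ⟨h.1, h.2 x hx⟩

/-- the action of `H` on the invariant subgroup `X` -/
def actHom (H : Subgroup P) (X : AddSubgroup V) (hX : ∀ h ∈ H, ∀ x ∈ X, h • x ∈ X) :
    ↥H →* (↥X ≃ₗ[ℤ] ↥X) where
  toFun h := AddEquiv.toIntLinearEquiv
    { toFun := fun x => ⟨(h : P) • (x : V), hX h h.2 x x.2⟩
      invFun := fun x => ⟨(h : P)⁻¹ • (x : V), hX _ (H.inv_mem h.2) x x.2⟩
      left_inv := fun x => Subtype.ext (inv_smul_smul _ _)
      right_inv := fun x => Subtype.ext (smul_inv_smul _ _)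
      map_add' := fun x y => Subtype.ext (smul_add _ _ _) }
  map_one' := by
    ext x
    exact one_smul P (x : V)
  map_mul' a b := by
    ext x
    exact mul_smul (a : P) (b : P) (x : V)

end defs

section card

theorem card_comap {A B : Type*} [Group A] [Finite A] [Group B] (f : A →* B)
    (hf : Function.Surjective f) (T : Subgroup B) :
    Nat.card (T.comap f) = Nat.card f.ker * Nat.card T := by
  have : Finite B := Finite.of_surjective f hf
  have h1 := (T.comap f).card_mul_index
  rw [T.index_comap_of_surjective hf] at h1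
  have h2 := T.card_mul_index
  have h3 : Nat.card f.ker * Nat.card B = Nat.card A := by
    have h4 := f.ker.card_mul_index
    rw [Subgroup.index_ker, MonoidHom.range_eq_top.2 hf, Subgroup.card_top] at h4
    exact h4
  have hi : T.index ≠ 0 := Subgroup.FiniteIndex.index_ne_zero
  apply Nat.eq_of_mul_eq_mul_right (Nat.pos_of_ne_zero hi)
  rw [h1, mul_assoc, h2, h3]

end card

section conv

variable {P V : Type u} [Group P] [Finite P] [AddCommGroup V] [DistribMulAction P V]

/-- **Passage to the faithful quotient.** -/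
theorem conv (hP : IsPGroup 2 P) (H : Subgroup P) (X : AddSubgroup V)
    (hX : ∀ h ∈ H, ∀ x ∈ X, h • x ∈ X) :
    ∃ (Q : Type u) (_ : Group Q) (_ : Finite Q) (_ : DistribMulAction Q ↥X) (f : ↥H →* Q),
      IsPGroup 2 Q ∧ Faith Q ↥X ∧ Function.Surjective f ∧
      (∀ (h : H) (x : X), ((f h • x : X) : V) = (h : P) • (x : V)) ∧
      Nat.card H = Nat.card (fx H X) * Nat.card Q ∧
      ∀ x : X, Nat.card ↥(H ⊓ stabilizer P (x : V)) =
        Nat.card (fx H X) * Nat.card (stabilizer Q x) := by
  let φ := actHom H X hX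
  have hs : Function.Surjective φ.rangeRestrict := φ.rangeRestrict_surjective
  have hfin : Finite φ.range := Finite.of_surjective _ hs
  have hact : ∀ (h : H) (x : X), ((φ.rangeRestrict h • x : X) : V) = (h : P) • (x : V) :=
    fun h x => rfl
  have hk : (φ.rangeRestrict.ker).map H.subtype = fx H X := by
    ext g
    constructor
    · rintro ⟨h, hh, rfl⟩
      refine ⟨h.2, fun x hx => ?_⟩
      have h1 : φ.rangeRestrict h = 1 := hh
      have h2 := hact h ⟨x, hx⟩
      rw [h1, one_smul] at h2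
      exact h2.symm
    · rintro ⟨hg, hx⟩
      refine ⟨⟨g, hg⟩, ?_, rfl⟩
      show φ.rangeRestrict ⟨g, hg⟩ = 1
      apply Subtype.ext
      apply LinearEquiv.ext
      intro x
      apply Subtype.ext
      exact hx x x.2
  have hkc : Nat.card φ.rangeRestrict.ker = Nat.card (fx H X) := by
    rw [← hk]
    exact Nat.card_congr
      (Subgroup.equivMapOfInjective _ _ H.subtype_injective).toEquiv
  refine ⟨φ.range, inferInstance, hfin, inferInstance, φ.rangeRestrict,
    IsPGroup.of_surjective (hP.to_subgroup H) _ hs, ?_, hs, hact, ?_, ?_⟩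
  · intro q hq
    apply Subtype.ext
    apply LinearEquiv.ext
    intro x
    exact hq x
  · rw [← hkc]
    have h1 := card_comap φ.rangeRestrict hs ⊤
    rw [Subgroup.comap_top, Subgroup.card_top, Subgroup.card_top] at h1
    exact h1
  · intro x
    rw [← hkc, ← card_comap φ.rangeRestrict hs]
    have h2 : ((stabilizer φ.range x).comap φ.rangeRestrict).map H.subtype =
        H ⊓ stabilizer P (x : V) := by
      ext g
      constructor
      · rintro ⟨h, hh, rfl⟩
        refine ⟨h.2, ?_⟩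
        have h3 : φ.rangeRestrict h • x = x := hh
        have h4 := hact h x
        rw [h3] at h4
        exact h4.symm
      · rintro ⟨hg, hx⟩
        refine ⟨⟨g, hg⟩, ?_, rfl⟩
        show φ.rangeRestrict ⟨g, hg⟩ • x = x
        apply Subtype.ext
        exact hx
    rw [← h2]
    exact Nat.card_congr
      (Subgroup.equivMapOfInjective _ _ H.subtype_injective).symm.toEquiv

end conv

section odd

variable {P V : Type u} [Group P] [AddCommGroup V] [DistribMulAction P V]

theorem eq_zero_of_add_self (hV : ¬ 2 ∣ Nat.card V) {v : V} (h : v + v = 0) : v = 0 := by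
  have h1 : addOrderOf v ∣ 2 := addOrderOf_dvd_of_nsmul_eq_zero (by rw [two_nsmul, h])
  have h2 : addOrderOf v ∣ Nat.card V := addOrderOf_dvd_natCard v
  rcases (Nat.dvd_prime Nat.prime_two).1 h1 with h3 | h3
  · exact AddMonoid.addOrderOf_eq_one_iff.1 h3
  · rw [h3] at h2
    exact absurd h2 hV

theorem eq_zero_of_eq_neg (hV : ¬ 2 ∣ Nat.card V) {v : V} (h : v = -v) : v = 0 :=
  eq_zero_of_add_self hV (by nth_rw 2 [h]; exact add_neg_cancel v)

theorem exists_half (hV : ¬ 2 ∣ Nat.card V) (v : V) : ∃ w : V, w + w = v := by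
  obtain ⟨k, hk⟩ : ∃ k, Nat.card V = 2 * k + 1 := ⟨Nat.card V / 2, by omega⟩
  refine ⟨(k + 1) • v, ?_⟩
  rw [← add_nsmul, show k + 1 + (k + 1) = Nat.card V + 1 by omega, add_nsmul, card_nsmul_eq_zero',
    zero_add, one_nsmul]

/-- fixed vectors of `s` -/
def plus (V : Type u) [AddCommGroup V] [DistribMulAction P V] (s : P) : AddSubgroup V where
  carrier := {v | s • v = v}
  zero_mem' := smul_zero s
  add_mem' := fun {a b} ha hb => by
    show s • (a + b) = a + b
    rw [smul_add, show s • a = a from ha, show s • b = b from hb]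
  neg_mem' := fun {a} ha => by
    show s • (-a) = -a
    rw [smul_neg, show s • a = a from ha]

/-- vectors inverted by `s` -/
def minus (V : Type u) [AddCommGroup V] [DistribMulAction P V] (s : P) : AddSubgroup V where
  carrier := {v | s • v = -v}
  zero_mem' := by
    show s • (0 : V) = -0
    rw [smul_zero, neg_zero]
  add_mem' := fun {a b} ha hb => by
    show s • (a + b) = -(a + b)
    rw [smul_add, show s • a = -a from ha, show s • b = -b from hb, neg_add]
  neg_mem' := fun {a} ha => by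
    show s • (-a) = - -a
    rw [smul_neg, show s • a = -a from ha]

theorem plus_inf_minus (hV : ¬ 2 ∣ Nat.card V) (s : P) : plus V s ⊓ minus V s = ⊥ := by
  rw [eq_bot_iff]
  rintro v ⟨h1, h2⟩
  have h3 : s • v = v := h1
  have h4 : s • v = -v := h2
  exact (AddSubgroup.mem_bot).2 (eq_zero_of_eq_neg hV (h3.symm.trans h4))

theorem exists_dec (hV : ¬ 2 ∣ Nat.card V) {s : P} (hs : s * s = 1) (v : V) :
    ∃ x ∈ plus V s, ∃ y ∈ minus V s, v = x + y := by
  obtain ⟨w, hw⟩ := exists_half hV v
  have h1 : s • s • w = w := by rw [← mul_smul, hs, one_smul]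
  refine ⟨w + s • w, ?_, w - s • w, ?_, ?_⟩
  · show s • (w + s • w) = w + s • w
    rw [smul_add, h1, add_comm]
  · show s • (w - s • w) = -(w - s • w)
    rw [smul_sub, h1, neg_sub]
  · rw [← hw]
    abel

/-- components of a fixed vector -/
theorem comp_of_fix {X Y : AddSubgroup V} (hXY : X ⊓ Y = ⊥) {g : P} (hX : ∀ x ∈ X, g • x ∈ X)
    (hY : ∀ y ∈ Y, g • y ∈ Y) {x y : V} (hx : x ∈ X) (hy : y ∈ Y) (h : g • (x + y) = x + y) :
    g • x = x ∧ g • y = y := by
  have h1 : g • x - x = -(g • y - y) := by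
    rw [smul_add] at h
    have h2 : g • x + g • y - (x + y) = 0 := by rw [h, sub_self]
    have h3 : g • x - x + (g • y - y) = 0 := by rw [← h2]; abel
    exact eq_neg_of_add_eq_zero_left h3
  have h2 : g • x - x ∈ X ⊓ Y :=
    ⟨X.sub_mem (hX x hx) hx, h1 ▸ Y.neg_mem (Y.sub_mem (hY y hy) hy)⟩
  rw [hXY, AddSubgroup.mem_bot] at h2
  rw [h2] at h1
  exact ⟨sub_eq_zero.1 h2, sub_eq_zero.1 (neg_eq_zero.1 h1.symm)⟩

/-- `s` acts as `-1` if it has no fixed vectors -/
theorem eq_neg_of_plus (hV : ¬ 2 ∣ Nat.card V) {s : P} (hs : s * s = 1) (h : plus V s = ⊥)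
    (v : V) : s • v = -v := by
  obtain ⟨x, hx, y, hy, rfl⟩ := exists_dec hV hs v
  rw [h, AddSubgroup.mem_bot] at hx
  rw [hx, zero_add]
  exact hy

theorem exists_minus {s : P} (hss : s * s = 1) {v : V} (hv : s • v ≠ v) :
    ∃ y ∈ minus V s, y ≠ 0 := by
  refine ⟨v - s • v, ?_, fun h => hv (sub_eq_zero.1 h).symm⟩
  show s • (v - s • v) = -(v - s • v)
  rw [smul_sub, ← mul_smul, hss, one_smul, neg_sub]

/-- a vector with trivial stabilizer for commutative groups -/
theorem exists_regular [Finite P] (hP : IsPGroup 2 P) (hV : ¬ 2 ∣ Nat.card V) (hf : Faith P V)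
    (hc : ∀ a b : P, a * b = b * a) : ∃ v : V, stabilizer P v = ⊥ := by
  have hwf : ∃ v : V, ∀ w : V, Nat.card (stabilizer P v) ≤ Nat.card (stabilizer P w) := by
    obtain ⟨n, ⟨v, hv⟩, hn⟩ := WellFounded.has_min (wellFounded_lt (α := ℕ))
      (Set.range fun v : V => Nat.card (stabilizer P v)) ⟨_, ⟨0, rfl⟩⟩
    exact ⟨v, fun w => not_lt.1 fun h => hn _ ⟨w, rfl⟩ (by rw [← hv]; exact h)⟩
  obtain ⟨v, hv⟩ := hwf
  refine ⟨v, ?_⟩
  by_contra hne
  have h2 : 2 ∣ Nat.card (stabilizer P v) := by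
    have hf2 : Fact (Nat.Prime 2) := ⟨Nat.prime_two⟩
    obtain ⟨n, hn⟩ := IsPGroup.iff_card.1 (hP.to_subgroup (stabilizer P v))
    rcases Nat.eq_zero_or_pos n with h0 | h0
    · exfalso
      apply hne
      rw [h0, pow_zero] at hn
      exact Subgroup.card_eq_one.1 hn
    · rw [hn]
      exact dvd_pow_self 2 h0.ne'
  have hf2 : Fact (Nat.Prime 2) := ⟨Nat.prime_two⟩
  obtain ⟨s, hs⟩ := exists_prime_orderOf_dvd_card' 2 h2
  have hs1 : (s : P) * s = 1 := by
    have h3 := pow_orderOf_eq_one s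
    rw [hs, pow_two] at h3
    exact congrArg Subtype.val h3
  have hsne : (s : P) ≠ 1 := by
    intro h
    have h4 : s = 1 := Subtype.ext h
    rw [h4, orderOf_one] at hs
    omega
  obtain ⟨u, hu⟩ : ∃ u : V, (s : P) • u ≠ u := by
    by_contra h
    push Not at h
    exact hsne (hf _ h)
  obtain ⟨y, hy, hy0⟩ := exists_minus hs1 hu
  have hplus : ∀ g : P, ∀ x ∈ plus V (s : P), g • x ∈ plus V (s : P) := by
    intro g x hx
    show (s : P) • g • x = g • x
    rw [← mul_smul, hc, mul_smul, show (s : P) • x = x from hx]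
  have hminus : ∀ g : P, ∀ x ∈ minus V (s : P), g • x ∈ minus V (s : P) := by
    intro g x hx
    show (s : P) • g • x = -(g • x)
    rw [← mul_smul, hc, mul_smul, show (s : P) • x = -x from hx, smul_neg]
  have hvs : v ∈ plus V (s : P) := s.2
  have hlt : stabilizer P (v + y) < stabilizer P v := by
    refine lt_of_le_of_ne ?_ ?_
    · intro g hg
      exact (comp_of_fix (plus_inf_minus hV (s : P)) (hplus g) (hminus g) hvs hy hg).1
    · intro h
      have h5 : (s : P) ∈ stabilizer P (v + y) := by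
        rw [h]
        exact s.2
      have h6 := (comp_of_fix (plus_inf_minus hV (s : P)) (hplus s) (hminus s) hvs hy h5).2
      have h7 : (s : P) • y = -y := hy
      rw [h7] at h6
      exact hy0 (eq_zero_of_eq_neg hV h6.symm)
  have h8 := hv (v + y)
  have h9 : Nat.card (stabilizer P (v + y)) < Nat.card (stabilizer P v) := by
    have := Set.Finite.subset (Set.toFinite (stabilizer P v : Set P)) hlt.le
    exact Set.ncard_lt_ncard hlt (Set.toFinite _)
  omega

end odd

end Cfsg.Agent.H62.RC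
end

-- part: H62/RC/TransCase
section
/-!
# `2`-groups transitive on the nonzero vectors (for S4191, RAT2)
-/

set_option autoImplicit false

namespace Cfsg.Agent.H62.RC

open Subgroup MulAction

universe u

theorem num_even {s j : ℕ} (h : s * s = 2 ^ j + 1) : s = 3 := by
  have hs : 1 < s := by
    by_contra hlt
    have h1 : s * s ≤ 1 * 1 := Nat.mul_le_mul (by omega) (by omega)
    have h2 : 0 < 2 ^ j := by positivity
    omega
  obtain ⟨t, rfl⟩ : ∃ t, s = t + 1 := ⟨s - 1, by omega⟩
  have h1 : t * (t + 2) = 2 ^ j := by linarith only [h]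
  obtain ⟨a, -, ha⟩ := (Nat.dvd_prime_pow Nat.prime_two).1 ⟨_, h1.symm⟩
  obtain ⟨b, -, hb⟩ := (Nat.dvd_prime_pow Nat.prime_two).1 (show t + 2 ∣ 2 ^ j from
    ⟨t, by rw [← h1, mul_comm]⟩)
  rcases a with _ | _ | a
  · simp only [pow_zero] at ha
    rw [ha] at hb
    rcases b with _ | b
    · simp at hb
    · rw [pow_succ] at hb
      omega
  · simp only [zero_add, pow_one] at ha
    omega
  · exfalso
    rcases b with _ | _ | b
    · simp at hb
    · simp only [zero_add, pow_one] at hb
      omega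
    · rw [ha] at hb
      have e1 : 2 ^ (a + 1 + 1) = 4 * 2 ^ a := by ring
      have e2 : 2 ^ (b + 1 + 1) = 4 * 2 ^ b := by ring
      rw [e1, e2] at hb
      omega

theorem num_odd {r l j : ℕ} (hr : 2 < r) (ho : Odd r) (h : r ^ (2 * l + 1) = 2 ^ j + 1) :
    l = 0 := by
  have hodd : Odd (∑ i ∈ Finset.range (2 * l + 1), r ^ i) := by
    rw [Finset.odd_sum_iff_odd_card_odd]
    have : Finset.filter (fun x => Odd (r ^ x)) (Finset.range (2 * l + 1)) =
        Finset.range (2 * l + 1) := by
      apply Finset.filter_true_of_mem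
      intro x _
      exact ho.pow
    rw [this, Finset.card_range]
    exact ⟨l, rfl⟩
  have h1 : (∑ i ∈ Finset.range (2 * l + 1), r ^ i) * (r - 1) = 2 ^ j := by
    have h0 : 1 ≤ r := by omega
    rw [geom_sum_mul_of_one_le h0, h, Nat.add_sub_cancel]
  obtain ⟨a, -, ha⟩ := (Nat.dvd_prime_pow Nat.prime_two).1 (Dvd.intro _ h1)
  rcases a with _ | a
  · rw [pow_zero] at ha
    by_contra hl
    have h2 : ∑ i ∈ Finset.range 2, r ^ i ≤ ∑ i ∈ Finset.range (2 * l + 1), r ^ i :=
      Finset.sum_le_sum_of_subset (Finset.range_mono (by omega))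
    have h3 : ∑ i ∈ Finset.range 2, r ^ i = 1 + r := by
      rw [Finset.sum_range_succ, Finset.sum_range_one, pow_zero, pow_one]
    rw [h3, ha] at h2
    omega
  · exfalso
    rw [ha] at hodd
    rw [← Nat.not_even_iff_odd] at hodd
    exact hodd (even_two.pow_of_ne_zero (by omega))

theorem num_pow {r m j : ℕ} (hr : 2 < r) (ho : Odd r) (hm : m ≠ 0) (h : r ^ m = 2 ^ j + 1) :
    m = 1 ∨ r ^ m = 9 := by
  rcases Nat.even_or_odd' m with ⟨l, rfl | rfl⟩
  · right
    have h1 : r ^ l = 3 := num_even (by rw [← pow_add, ← two_mul, h])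
    rw [two_mul, pow_add, h1]
    rfl
  · left
    rw [num_odd hr ho h]

section

variable {Q W : Type u} [Group Q] [Finite Q] [AddCommGroup W] [Finite W] [DistribMulAction Q W]

omit [Finite Q] [Finite W] in
/-- in a group of prime order nonzero vectors have trivial stabilizers -/
theorem smul_eq_of_prime (hp : (Nat.card W).Prime) {x : W} (hx : x ≠ 0) {q : Q} (hq : q • x = x)
    (y : W) : q • y = y := by
  have hf : Fact (Nat.card W).Prime := ⟨hp⟩
  have h1 : y ∈ AddSubgroup.zmultiples x := by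
    have h2 : AddSubgroup.zmultiples x = ⊤ :=
      zmultiples_eq_top_of_prime_card (p := Nat.card W) rfl hx
    rw [h2]
    exact AddSubgroup.mem_top y
  obtain ⟨k, rfl⟩ := AddSubgroup.mem_zmultiples_iff.1 h1
  rw [smul_comm, hq]

/-- the fixed vectors of an element -/
def fixed (q : Q) : AddSubgroup W where
  carrier := {v | q • v = v}
  zero_mem' := smul_zero q
  add_mem' := fun {a b} ha hb => by
    show q • (a + b) = a + b
    rw [smul_add, show q • a = a from ha, show q • b = b from hb]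
  neg_mem' := fun {a} ha => by
    show q • (-a) = -a
    rw [smul_neg, show q • a = a from ha]

/-- order `9` : a `2`-group fixing a nonzero vector has order at most `2` -/
theorem card_le_two_of_nine (hQ : IsPGroup 2 Q) (hf : Faith Q W) (h9 : Nat.card W = 9) {x : W}
    (hx3 : addOrderOf x = 3) (S : Subgroup Q) (hS : ∀ s ∈ S, s • x = x) : Nat.card S ≤ 2 := by
  classical
  have hU : Nat.card (AddSubgroup.zmultiples x) = 3 := by rw [Nat.card_zmultiples, hx3]
  -- free action on the complement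
  have hfree : ∀ s ∈ S, ∀ w : W, w ∉ AddSubgroup.zmultiples x → s • w = w → s = 1 := by
    intro s hs w hw hsw
    have h1 : AddSubgroup.zmultiples x ≤ fixed s := by
      rw [AddSubgroup.zmultiples_le]
      exact hS s hs
    have h2 : Nat.card (fixed (W := W) s) ∣ 9 := by
      rw [← h9]
      exact AddSubgroup.card_addSubgroup_dvd_card _
    have h3 : Nat.card (fixed (W := W) s) ≠ 3 := by
      intro h3
      have h4 : AddSubgroup.zmultiples x = fixed s :=
        AddSubgroup.eq_of_le_of_card_ge h1 (by rw [hU, h3])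
      exact hw (h4 ▸ hsw)
    have h4 : 3 ≤ Nat.card (fixed (W := W) s) := by
      rw [← hU]
      exact AddSubgroup.card_le_of_le h1
    have h5 : Nat.card (fixed (W := W) s) = 9 := by
      obtain ⟨k, hk, hk'⟩ := (Nat.dvd_prime_pow Nat.prime_three).1
        (show Nat.card (fixed (W := W) s) ∣ 3 ^ 2 from h2)
      rw [hk'] at h3 h4 ⊢
      rcases k with _ | _ | _ | k
      · norm_num at h4
      · exact absurd rfl h3
      · rfl
      · omega
    have h6 : fixed (W := W) s = ⊤ := AddSubgroup.eq_top_of_card_eq _ (by rw [h5, h9])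
    apply hf
    intro v
    have : v ∈ fixed (W := W) s := h6 ▸ AddSubgroup.mem_top v
    exact this
  let Ω : SubMulAction S W :=
    { carrier := {w | w ∉ AddSubgroup.zmultiples x}
      smul_mem' := by
        intro s w hw hsw
        apply hw
        have h1 : ∀ y ∈ AddSubgroup.zmultiples x, (s : Q)⁻¹ • y = y := by
          intro y hy
          obtain ⟨k, rfl⟩ := AddSubgroup.mem_zmultiples_iff.1 hy
          rw [smul_comm, hS _ (S.inv_mem s.2)]
        have h2 := h1 _ hsw
        rw [show s • w = (s : Q) • w from rfl, inv_smul_smul] at h2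
        rw [h2]
        exact hsw }
  have hst : ∀ w : Ω, stabilizer S w = ⊥ := by
    intro w
    rw [eq_bot_iff]
    intro s hs
    have h1 : s • w = w := hs
    have h2 : (s : Q) • (w : W) = w := congrArg Subtype.val h1
    exact Subgroup.mem_bot.2 (Subtype.ext (hfree s s.2 w w.2 h2))
  have hdvd : Nat.card S ∣ Nat.card Ω := by
    rw [Nat.card_congr (selfEquivOrbitsQuotientProd hst), Nat.card_prod]
    exact dvd_mul_left _ _
  have hcard : Nat.card Ω = 6 := by
    have h1 : Nat.card Ω = Nat.card {w : W // ¬ w ∈ (AddSubgroup.zmultiples x : Set W)} := rfl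
    have h2 : Nat.card {w : W // w ∈ (AddSubgroup.zmultiples x : Set W)} +
        Nat.card {w : W // ¬ w ∈ (AddSubgroup.zmultiples x : Set W)} = Nat.card W := by
      rw [← Nat.card_sum]
      exact Nat.card_congr (Equiv.sumCompl _)
    have h3 : Nat.card {w : W // w ∈ (AddSubgroup.zmultiples x : Set W)} = 3 := hU
    omega
  rw [hcard] at hdvd
  have hf2 : Fact (Nat.Prime 2) := ⟨Nat.prime_two⟩
  obtain ⟨k, hk⟩ := IsPGroup.iff_card.1 (hQ.to_subgroup S)
  rw [hk] at hdvd ⊢
  rcases k with _ | _ | k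
  · norm_num
  · norm_num
  · exfalso
    have h1 : 4 ∣ 6 := (Dvd.intro (2 ^ k) (by ring) : 4 ∣ 2 ^ (k + 1 + 1)).trans hdvd
    revert h1
    decide

/-- **The transitive case.** -/
theorem trans_case (hQ : IsPGroup 2 Q) (hW : ¬ 2 ∣ Nat.card W) (hf : Faith Q W) {x : W}
    (hx : x ≠ 0) (ht : ∀ y : W, y ≠ 0 → ∃ q : Q, q • x = y) :
    Nat.card Q = (Nat.card W - 1) * Nat.card (stabilizer Q x) ∧
      (((Nat.card W).Prime ∧ Nat.card (stabilizer Q x) = 1) ∨
        (Nat.card W = 9 ∧ Nat.card (stabilizer Q x) ≤ 2)) := by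
  classical
  have hf2 : Fact (Nat.Prime 2) := ⟨Nat.prime_two⟩
  have hidx : (stabilizer Q x).index = Nat.card W - 1 := by
    rw [index_stabilizer]
    have h1 : orbit Q x = {y : W | y ≠ 0} := by
      ext y
      constructor
      · rintro ⟨q, rfl⟩
        intro h
        exact hx ((smul_eq_zero_iff_eq q).1 h)
      · intro hy
        obtain ⟨q, hq⟩ := ht y hy
        exact ⟨q, hq⟩
    rw [h1]
    have h2 : {y : W | y ≠ 0} = ({0} : Set W)ᶜ := rfl
    rw [h2, Set.ncard_compl, Set.ncard_singleton]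
  refine ⟨by rw [← hidx, mul_comm, Subgroup.card_mul_index], ?_⟩
  obtain ⟨j, hj⟩ := hQ.index (stabilizer Q x)
  rw [hidx] at hj
  have hpos : 0 < Nat.card W := Nat.card_pos
  have hcard : Nat.card W = 2 ^ j + 1 := by omega
  have hne1 : Nat.card W ≠ 1 := by
    have : 0 < 2 ^ j := by positivity
    omega
  obtain ⟨r, hr, hrd⟩ := Nat.exists_prime_and_dvd hne1
  have hfr : Fact r.Prime := ⟨hr⟩
  have hr2 : r ≠ 2 := by
    rintro rfl
    exact hW hrd
  have hrgt : 2 < r := lt_of_le_of_ne hr.two_le (Ne.symm hr2)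
  have hro : Odd r := hr.odd_of_ne_two hr2
  have := Fintype.ofFinite W
  obtain ⟨w, hw⟩ := exists_prime_addOrderOf_dvd_card (G := W) r
    (by rwa [← Nat.card_eq_fintype_card])
  have hord : ∀ y : W, y ≠ 0 → addOrderOf y = addOrderOf x := by
    intro y hy
    obtain ⟨q, rfl⟩ := ht y hy
    exact addOrderOf_injective (DistribSMul.toAddMonoidHom W q) (MulAction.injective q) x
  have hw0 : w ≠ 0 := by
    rintro rfl
    rw [addOrderOf_zero] at hw
    exact hr.one_lt.ne hw
  have hxr : addOrderOf x = r := by rw [← hord w hw0, hw]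
  obtain ⟨m, hm⟩ : ∃ m, Nat.card W = r ^ m := by
    have h1 : IsPGroup r (Multiplicative W) := by
      intro y
      refine ⟨1, ?_⟩
      rw [pow_one]
      by_cases hy : Multiplicative.toAdd y = 0
      · have h2 : y = 1 := hy
        rw [h2, one_pow]
      · have h2 := hord _ hy
        have h3 : r • Multiplicative.toAdd y = 0 := by
          rw [← hxr, ← h2]
          exact addOrderOf_nsmul_eq_zero _
        exact h3
    obtain ⟨m, hm⟩ := IsPGroup.iff_card.1 h1
    exact ⟨m, hm⟩
  have hm0 : m ≠ 0 := by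
    rintro rfl
    exact hne1 (by rw [hm, pow_zero])
  rcases num_pow hrgt hro hm0 (hm ▸ hcard) with h1 | h1
  · left
    have hp : (Nat.card W).Prime := by
      rw [hm, h1, pow_one]
      exact hr
    refine ⟨hp, ?_⟩
    rw [Subgroup.card_eq_one, eq_bot_iff]
    intro q hq
    exact Subgroup.mem_bot.2 (hf q fun y => smul_eq_of_prime hp hx hq y)
  · right
    have h9 : Nat.card W = 9 := by rw [hm, h1]
    refine ⟨h9, ?_⟩
    have hr3 : r = 3 := by
      have h2 : r ∣ 9 := h9 ▸ hrd
      have h3 : r ∣ 3 ^ 2 := by simpa using h2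
      exact (Nat.prime_dvd_prime_iff_eq hr Nat.prime_three).1 (hr.dvd_of_dvd_pow h3)
    exact card_le_two_of_nine hQ hf h9 (by rw [hxr, hr3]) _ fun s hs => hs

end

end Cfsg.Agent.H62.RC
end

-- part: H62/RC/RatTwo
section
/-!
# Large orbits of `2`-groups (task RAT2 of S4191)

`rat_two : Rat 2 7 15`: a `2`-group `P` acting faithfully on an abelian group `V` of odd order has a
vector `v` with `15 ν(C_P(v)) ≤ 7 ν(P)`.
-/

set_option autoImplicit false

namespace Cfsg.Agent.H62.RC

open Subgroup MulAction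

universe u

/-- the numerical claim -/
def Star (n a : ℕ) : Prop := 15 * a + 8 ≤ 7 * n ∨ (n ≤ 1 ∧ a = 0) ∨ (n = 3 ∧ a ≤ 1)

/-- a vector with small stabilizer -/
def Claim (P V : Type u) [Group P] [AddCommGroup V] [DistribMulAction P V] : Prop :=
  ∃ (v : V) (n a : ℕ), Nat.card P = 2 ^ n ∧ Nat.card (stabilizer P v) ≤ 2 ^ a ∧ Star n a

/-- the induction hypothesis -/
def IHyp (N : ℕ) : Prop :=
  ∀ (P V : Type u) [Group P] [Finite P] [AddCommGroup V] [Finite V] [DistribMulAction P V],
    IsPGroup 2 P → ¬ 2 ∣ Nat.card V → Faith P V → Nat.card V < N → Claim P V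

section general

variable {P V : Type u} [Group P] [Finite P] [AddCommGroup V] [Finite V] [DistribMulAction P V]

omit [Finite V] in
theorem Claim.ne_zero (h : Claim P V) (hV : ∃ v : V, v ≠ 0) :
    ∃ (v : V) (n a : ℕ), v ≠ 0 ∧ Nat.card P = 2 ^ n ∧ Nat.card (stabilizer P v) ≤ 2 ^ a ∧
      Star n a := by
  obtain ⟨v, n, a, h1, h2, h3⟩ := h
  by_cases hv : v = 0
  · subst hv
    have h4 : stabilizer P (0 : V) = ⊤ := by
      rw [eq_top_iff]
      intro g _
      exact smul_zero g
    rw [h4, Subgroup.card_top, h1] at h2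
    have h5 : n ≤ a := (Nat.pow_le_pow_iff_right (by norm_num)).1 h2
    have h6 : n = 0 ∧ a = 0 := by
      rcases h3 with h | h | h <;> omega
    obtain ⟨w, hw⟩ := hV
    refine ⟨w, 0, 0, hw, by rw [h1, h6.1], ?_, Or.inr (Or.inl ⟨by omega, rfl⟩)⟩
    have h7 : Nat.card (stabilizer P w) ≤ Nat.card P := Subgroup.card_le_card_group _
    rw [h1, h6.1] at h7
    exact h7
  · exact ⟨v, n, a, hv, h1, h2, h3⟩

omit [Finite P] in
theorem card_lt_of_ne_top {X : AddSubgroup V} (hX : X ≠ ⊤) : Nat.card X < Nat.card V := by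
  refine lt_of_le_of_ne (AddSubgroup.card_le_card_addGroup X) fun h => hX ?_
  exact AddSubgroup.eq_top_of_card_eq X h

omit [Finite P] [Finite V] in
theorem odd_sub (hV : ¬ 2 ∣ Nat.card V) (X : AddSubgroup V) : ¬ 2 ∣ Nat.card X :=
  fun h => hV (h.trans (AddSubgroup.card_addSubgroup_dvd_card X))

theorem rel (IH : IHyp.{u} (Nat.card V)) (hP : IsPGroup 2 P) (hV : ¬ 2 ∣ Nat.card V)
    (H : Subgroup P) (X : AddSubgroup V) (hX : ∀ h ∈ H, ∀ x ∈ X, h • x ∈ X) (hX1 : X ≠ ⊤)
    (hX0 : ∃ x ∈ X, x ≠ 0) :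
    ∃ x ∈ X, x ≠ 0 ∧ ∃ n a : ℕ, Nat.card H = Nat.card (fx H X) * 2 ^ n ∧
      Nat.card ↥(H ⊓ stabilizer P x) ≤ Nat.card (fx H X) * 2 ^ a ∧ Star n a := by
  obtain ⟨Q, i1, i2, i3, f, hQ, hf, -, -, h1, h2⟩ := conv hP H X hX
  obtain ⟨x0, hx0, hx0'⟩ := hX0
  obtain ⟨x, n, a, hx, h3, h4, h5⟩ :=
    (IH Q X hQ (odd_sub hV X) hf (card_lt_of_ne_top hX1)).ne_zero
      ⟨⟨x0, hx0⟩, fun h => hx0' (congrArg Subtype.val h)⟩
  refine ⟨x, x.2, fun h => hx (Subtype.ext h), n, a, by rw [h1, h3], ?_, h5⟩
  rw [h2 x]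
  exact Nat.mul_le_mul_left _ h4

theorem rel_trans (hP : IsPGroup 2 P) (hV : ¬ 2 ∣ Nat.card V)
    (H : Subgroup P) (X : AddSubgroup V) (hX : ∀ h ∈ H, ∀ x ∈ X, h • x ∈ X) {x : V} (hx : x ∈ X)
    (hx0 : x ≠ 0) (ht : ∀ y ∈ X, y ≠ 0 → ∃ h ∈ H, h • x = y) :
    Nat.card H = (Nat.card X - 1) * Nat.card ↥(H ⊓ stabilizer P x) ∧
      (((Nat.card X).Prime ∧ Nat.card ↥(H ⊓ stabilizer P x) = Nat.card (fx H X)) ∨
        (Nat.card X = 9 ∧ Nat.card ↥(H ⊓ stabilizer P x) ≤ Nat.card (fx H X) * 2)) := by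
  obtain ⟨Q, i1, i2, i3, f, hQ, hf, hs, hact, h1, h2⟩ := conv hP H X hX
  obtain ⟨h3, h4⟩ := trans_case hQ (odd_sub hV X) hf (x := ⟨x, hx⟩)
    (fun h => hx0 (congrArg Subtype.val h)) (by
      intro y hy
      obtain ⟨h, hh, hxy⟩ := ht y y.2 (fun h => hy (Subtype.ext h))
      refine ⟨f ⟨h, hh⟩, Subtype.ext ?_⟩
      rw [hact]
      exact hxy)
  have h5 := h2 ⟨x, hx⟩
  simp only at h5
  refine ⟨?_, ?_⟩
  · rw [h1, h3, h5]
    ring
  · rcases h4 with ⟨h6, h7⟩ | ⟨h6, h7⟩
    · left
      refine ⟨h6, ?_⟩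
      rw [h5, h7, mul_one]
    · right
      refine ⟨h6, ?_⟩
      rw [h5]
      exact Nat.mul_le_mul_left _ h7

omit [Finite V] in
theorem rel_regular (hP : IsPGroup 2 P) (hV : ¬ 2 ∣ Nat.card V)
    (H : Subgroup P) (X : AddSubgroup V) (hX : ∀ h ∈ H, ∀ x ∈ X, h • x ∈ X)
    (hc : ∀ a ∈ H, ∀ b ∈ H, a * b = b * a) (hk : fx H X = ⊥) :
    ∃ y ∈ X, H ⊓ stabilizer P y = ⊥ := by
  obtain ⟨Q, i1, i2, i3, f, hQ, hf, hs, hact, h1, h2⟩ := conv hP H X hX
  obtain ⟨y, hy⟩ := exists_regular hQ (odd_sub hV X) hf (by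
    intro a b
    obtain ⟨a, rfl⟩ := hs a
    obtain ⟨b, rfl⟩ := hs b
    rw [← map_mul, ← map_mul]
    congr 1
    exact Subtype.ext (hc a a.2 b b.2))
  refine ⟨y, y.2, ?_⟩
  rw [← Subgroup.card_eq_one, h2 y, hk, hy, Subgroup.card_bot, Subgroup.card_bot]

theorem card_count {K S S' : Subgroup P} (hKS : K ≤ S') (hS : S ≤ S') {a b : ℕ}
    (h1 : Nat.card S' ≤ Nat.card K * 2 ^ a) (h2 : Nat.card ↥(K ⊓ S) ≤ 2 ^ b) :
    Nat.card S ≤ 2 ^ (a + b) := by
  have h3 : Nat.card ↥(K ⊓ S) * K.relIndex S = Nat.card S := by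
    have := Subgroup.relIndex_mul_relIndex ⊥ (K ⊓ S) S bot_le inf_le_right
    rwa [Subgroup.relIndex_bot_left, Subgroup.relIndex_bot_left, Subgroup.inf_relIndex_right]
      at this
  have h4 : Nat.card K * K.relIndex S' = Nat.card S' := by
    have := Subgroup.relIndex_mul_relIndex ⊥ K S' bot_le hKS
    rwa [Subgroup.relIndex_bot_left, Subgroup.relIndex_bot_left] at this
  have h5 : K.relIndex S' ≤ 2 ^ a := by
    rw [← h4] at h1
    exact Nat.le_of_mul_le_mul_left h1 Nat.card_pos
  have h6 : K.relIndex S ≤ K.relIndex S' :=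
    Subgroup.relIndex_le_of_le_right hS (Subgroup.FiniteIndex.index_ne_zero)
  rw [← h3, pow_add, mul_comm]
  exact Nat.mul_le_mul (h6.trans h5) h2

end general

/-! ### Central involutions with fixed points -/

section reducible

variable {P V : Type u} [Group P] [Finite P] [AddCommGroup V] [Finite V] [DistribMulAction P V]

theorem Star.add {n1 a1 n2 a2 : ℕ} (h1 : Star n1 a1) (h2 : Star n2 a2) :
    Star (n1 + n2) (a1 + a2) := by
  unfold Star at *
  omega

theorem red_step (IH : IHyp.{u} (Nat.card V)) (hP : IsPGroup 2 P) (hV : ¬ 2 ∣ Nat.card V)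
    (hf : Faith P V) {s : P} (hs : s * s = 1) (hs1 : s ≠ 1) (hc : ∀ g, s * g = g * s)
    (hfix : plus V s ≠ ⊥) : Claim P V := by
  have hplus : ∀ g : P, ∀ x ∈ plus V s, g • x ∈ plus V s := by
    intro g x hx
    show s • g • x = g • x
    rw [← mul_smul, hc, mul_smul, show s • x = x from hx]
  have hminus : ∀ g : P, ∀ x ∈ minus V s, g • x ∈ minus V s := by
    intro g x hx
    show s • g • x = -(g • x)
    rw [← mul_smul, hc, mul_smul, show s • x = -x from hx, smul_neg]
  have hinf := plus_inf_minus hV s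
  obtain ⟨u, hu⟩ : ∃ u : V, s • u ≠ u := by
    by_contra h
    push Not at h
    exact hs1 (hf _ h)
  obtain ⟨y0, hy0, hy0'⟩ := exists_minus hs hu
  obtain ⟨x0, hx0, hx0'⟩ : ∃ x ∈ plus V s, x ≠ 0 := by
    by_contra h
    push Not at h
    exact hfix ((AddSubgroup.eq_bot_iff_forall _).2 h)
  have hX1 : plus V s ≠ ⊤ := by
    intro h
    rw [h, top_inf_eq] at hinf
    rw [hinf] at hy0
    exact hy0' hy0
  have hY1 : minus V s ≠ ⊤ := by
    intro h
    rw [h, inf_top_eq] at hinf
    rw [hinf] at hx0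
    exact hx0' hx0
  obtain ⟨x, hx, -, n1, a1, h1, h2, h3⟩ := rel IH hP hV ⊤ (plus V s) (fun g _ => hplus g) hX1
    ⟨x0, hx0, hx0'⟩
  obtain ⟨y, hy, -, n2, a2, h4, h5, h6⟩ := rel IH hP hV (fx ⊤ (plus V s)) (minus V s)
    (fun g _ => hminus g) hY1 ⟨y0, hy0, hy0'⟩
  have hbot : fx (fx (⊤ : Subgroup P) (plus V s)) (minus V s) = ⊥ := by
    rw [eq_bot_iff]
    rintro g ⟨⟨-, h7⟩, h8⟩
    refine Subgroup.mem_bot.2 (hf g fun v => ?_)
    obtain ⟨x, hx, y, hy, rfl⟩ := exists_dec hV hs v
    rw [smul_add, h7 x hx, h8 y hy]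
  rw [hbot, Subgroup.card_bot, one_mul] at h4 h5
  rw [Subgroup.card_top, h4, ← pow_add] at h1
  refine ⟨x + y, n1 + n2, a1 + a2, by rw [h1, add_comm], ?_, h3.add h6⟩
  have hle : fx (⊤ : Subgroup P) (plus V s) ≤ ⊤ ⊓ stabilizer P x := fx_le_stab _ hx
  refine card_count hle ?_ h2 ?_
  · intro g hg
    exact ⟨Subgroup.mem_top g, (comp_of_fix hinf (hplus g) (hminus g) hx hy hg).1⟩
  · refine le_trans (Subgroup.card_le_of_le ?_) h5
    intro g hg
    exact ⟨hg.1, (comp_of_fix hinf (hplus g) (hminus g) hx hy hg.2).2⟩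

end reducible

/-! ### Normal four-subgroups -/

section imprimitive

variable {P V : Type u} [Group P] [AddCommGroup V] [DistribMulAction P V]

/-- the data of a noncentral involution `a` of a normal four-subgroup `⟨a, z⟩`, `z` acting as `-1` -/
structure Four (P V : Type u) [Group P] [AddCommGroup V] [DistribMulAction P V] (a z t : P) :
    Prop where
  odd : ¬ 2 ∣ Nat.card V
  faith : Faith P V
  aa : a * a = 1
  neg : ∀ v : V, z • v = -v
  cj : ∀ g, g * a = a * g ∨ g * a = a * z * g
  tt : t * a = a * z * t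
  ha : ∃ x ∈ plus V a, x ≠ 0
  ha' : ∃ x ∈ minus V a, x ≠ 0

variable {a z t : P}

/-- the stabilizer of the blocks -/
def P0 (a : P) : Subgroup P := Subgroup.centralizer ({a} : Set P)

theorem mem_P0 {g : P} : g ∈ P0 a ↔ g * a = a * g := Subgroup.mem_centralizer_singleton_iff

theorem plus_of_mem {g : P} (hg : g ∈ P0 a) : ∀ x ∈ plus V a, g • x ∈ plus V a := by
  intro x hx
  show a • g • x = g • x
  rw [← mul_smul, ← mem_P0.1 hg, mul_smul, show a • x = x from hx]

theorem minus_of_mem {g : P} (hg : g ∈ P0 a) : ∀ x ∈ minus V a, g • x ∈ minus V a := by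
  intro x hx
  show a • g • x = -(g • x)
  rw [← mul_smul, ← mem_P0.1 hg, mul_smul, show a • x = -x from hx, smul_neg]

namespace Four

theorem eq_neg (h : Four P V a z t) {g : P} (hg : g ∉ P0 a) (v : V) :
    g • a • v = -(a • g • v) := by
  have h1 : g * a = a * z * g := (h.cj g).resolve_left fun h' => hg (mem_P0.2 h')
  rw [← mul_smul, h1, mul_assoc, mul_smul, mul_smul, h.neg, smul_neg]

theorem plus_minus (h : Four P V a z t) {g : P} (hg : g ∉ P0 a) :
    ∀ x ∈ plus V a, g • x ∈ minus V a := by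
  intro x hx
  have h1 := h.eq_neg hg x
  rw [show a • x = x from hx] at h1
  show a • g • x = -(g • x)
  rw [eq_comm, neg_eq_iff_eq_neg]
  exact h1

theorem minus_plus (h : Four P V a z t) {g : P} (hg : g ∉ P0 a) :
    ∀ x ∈ minus V a, g • x ∈ plus V a := by
  intro x hx
  have h1 := h.eq_neg hg x
  rw [show a • x = -x from hx, smul_neg] at h1
  show a • g • x = g • x
  exact (neg_injective h1).symm

theorem inf (h : Four P V a z t) : plus V a ⊓ minus V a = ⊥ := plus_inf_minus h.odd a

theorem dec (h : Four P V a z t) (v : V) : ∃ x ∈ plus V a, ∃ y ∈ minus V a, v = x + y :=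
  exists_dec h.odd h.aa v

theorem ne_t (h : Four P V a z t) : t ∉ P0 a := by
  intro ht
  have h1 := mem_P0.1 ht
  rw [h.tt, mul_assoc] at h1
  have h2 : z * t = t := mul_left_cancel h1
  have h3 : z = 1 := by simpa using h2
  obtain ⟨x, hx, hx0⟩ := h.ha
  have h4 := h.neg x
  rw [h3, one_smul] at h4
  exact hx0 (eq_zero_of_eq_neg h.odd h4)

/-- products of two elements outside are inside -/
theorem mul_mem (h : Four P V a z t) {g k : P} (hg : g ∉ P0 a) (hk : k ∉ P0 a) :
    g * k ∈ P0 a := by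
  rw [mem_P0]
  have h1 : ∀ v : V, (g * k * a) • v = (a * (g * k)) • v := by
    intro v
    rw [mul_smul, mul_smul, h.eq_neg hk, smul_neg, h.eq_neg hg, neg_neg, mul_smul, mul_smul]
  have h2 : (a * (g * k))⁻¹ * (g * k * a) = 1 := by
    apply h.faith
    intro v
    rw [mul_smul, h1, inv_smul_smul]
  exact (inv_mul_eq_one.1 h2).symm

theorem index (h : Four P V a z t) : (P0 a).index = 2 := by
  rw [Subgroup.index_eq_two_iff]
  refine ⟨t, fun b => ?_⟩
  by_cases hb : b ∈ P0 a
  · refine Or.inr ⟨hb, fun h1 => h.ne_t ?_⟩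
    exact ((P0 a).mul_mem_cancel_left hb).1 h1
  · exact Or.inl ⟨h.mul_mem hb h.ne_t, hb⟩

theorem a_mem (_h : Four P V a z t) : a ∈ fx (P0 a) (plus V a) :=
  ⟨mem_P0.2 rfl, fun _ hx => hx⟩

theorem a_ne (h : Four P V a z t) : a ≠ 1 := by
  rintro rfl
  obtain ⟨x, hx, hx0⟩ := h.ha'
  have h1 : (1 : P) • x = -x := hx
  rw [one_smul] at h1
  exact hx0 (eq_zero_of_eq_neg h.odd h1)

theorem fx_bot (h : Four P V a z t) : fx (fx (P0 a) (plus V a)) (minus V a) = ⊥ := by
  rw [eq_bot_iff]
  rintro g ⟨⟨-, h7⟩, h8⟩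
  refine Subgroup.mem_bot.2 (h.faith g fun v => ?_)
  obtain ⟨x, hx, y, hy, rfl⟩ := h.dec v
  rw [smul_add, h7 x hx, h8 y hy]

theorem plus_ne_top (h : Four P V a z t) : plus V a ≠ ⊤ := by
  intro h1
  obtain ⟨x, hx, hx0⟩ := h.ha'
  have h2 := h.inf
  rw [h1, top_inf_eq] at h2
  rw [h2] at hx
  exact hx0 hx

theorem minus_ne_top (h : Four P V a z t) : minus V a ≠ ⊤ := by
  intro h1
  obtain ⟨x, hx, hx0⟩ := h.ha
  have h2 := h.inf
  rw [h1, inf_top_eq] at h2
  rw [h2] at hx
  exact hx0 hx

/-- the conjugate of `C(V₁)` is `C(V₂)` -/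
theorem conj_mem (h : Four P V a z t) {g : P} (hg : g ∈ fx (P0 a) (plus V a)) :
    t * g * t⁻¹ ∈ fx (P0 a) (minus V a) := by
  have hti : t⁻¹ ∉ P0 a := fun h1 => h.ne_t (by simpa using (P0 a).inv_mem h1)
  refine ⟨?_, fun y hy => ?_⟩
  · by_contra h1
    have h2 : t * g ∈ P0 a := by
      have := h.mul_mem h1 h.ne_t
      simpa using this
    exact h.ne_t (((P0 a).mul_mem_cancel_right hg.1).1 h2)
  · rw [mul_smul, mul_smul, hg.2 _ (h.minus_plus hti y hy), smul_inv_smul]

theorem card_sq [Finite P] (h : Four P V a z t) :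
    Nat.card (fx (P0 a) (plus V a)) * Nat.card (fx (P0 a) (plus V a)) ≤ Nat.card (P0 a) := by
  rw [← Nat.card_prod]
  let f : ↥(fx (P0 a) (plus V a)) × ↥(fx (P0 a) (plus V a)) → ↥(P0 a) :=
    fun k => ⟨k.1 * (t * k.2 * t⁻¹), (P0 a).mul_mem k.1.2.1 (h.conj_mem k.2.2).1⟩
  refine Nat.card_le_card_of_injective f ?_
  rintro ⟨k, l⟩ ⟨k', l'⟩ he
  have h1 : (k : P) * (t * l * t⁻¹) = k' * (t * l' * t⁻¹) := congrArg Subtype.val he
  have h2 : (k' : P)⁻¹ * k = t * (l' * (l : P)⁻¹) * t⁻¹ := by
    have h3 : (k : P) = k' * (t * l' * t⁻¹) * (t * l * t⁻¹)⁻¹ := eq_mul_inv_of_mul_eq h1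
    rw [h3]
    group
  have h4 : (k' : P)⁻¹ * k ∈ fx (P0 a) (plus V a) :=
    (fx (P0 a) (plus V a)).mul_mem ((fx (P0 a) (plus V a)).inv_mem k'.2) k.2
  have h5 : (k' : P)⁻¹ * k ∈ fx (P0 a) (minus V a) := by
    rw [h2]
    exact h.conj_mem ((fx (P0 a) (plus V a)).mul_mem l'.2 ((fx (P0 a) (plus V a)).inv_mem l.2))
  have h6 : (k' : P)⁻¹ * k = 1 := by
    have h7 : (k' : P)⁻¹ * k ∈ fx (fx (P0 a) (plus V a)) (minus V a) := ⟨h4, h5.2⟩
    rw [h.fx_bot] at h7
    exact Subgroup.mem_bot.1 h7
  have h8 : k = k' := Subtype.ext (inv_mul_eq_one.1 h6).symm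
  rw [h6] at h2
  have h9 : l = l' := by
    apply Subtype.ext
    have h10 : (l' : P) * (l : P)⁻¹ = 1 := by
      have h11 : t⁻¹ * (t * (l' * (l : P)⁻¹) * t⁻¹) * t = t⁻¹ * 1 * t := by rw [← h2]
      simpa only [mul_assoc, _root_.inv_mul_cancel_left, _root_.inv_mul_cancel, _root_.mul_one] using h11
    exact (mul_inv_eq_one.1 h10).symm
  rw [h8, h9]

/-- the stabilizer of `x + y` -/
theorem comb [Finite P] (h : Four P V a z t) {x y : V} (hx : x ∈ plus V a) (hy : y ∈ minus V a)
    {m n : ℕ} (h1 : Nat.card ↥(P0 a ⊓ stabilizer P x) ≤ Nat.card (fx (P0 a) (plus V a)) * 2 ^ m)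
    (h2 : Nat.card ↥(fx (P0 a) (plus V a) ⊓ stabilizer P y) ≤ 2 ^ n) :
    Nat.card ↥(P0 a ⊓ stabilizer P (x + y)) ≤ 2 ^ (m + n) := by
  have hle : fx (P0 a) (plus V a) ≤ P0 a ⊓ stabilizer P x := fx_le_stab _ hx
  refine card_count hle ?_ h1 (le_trans (Subgroup.card_le_of_le ?_) h2)
  · intro g hg
    exact ⟨hg.1, (comp_of_fix h.inf (plus_of_mem hg.1) (minus_of_mem hg.1) hx hy hg.2).1⟩
  · rintro g ⟨hg1, hg2⟩
    exact ⟨hg1, (comp_of_fix h.inf (plus_of_mem hg1.1) (minus_of_mem hg1.1) hx hy hg2.2).2⟩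

theorem comb_one [Finite P] (h : Four P V a z t) {x y : V} (hx : x ∈ plus V a)
    (hy : y ∈ minus V a) {m n : ℕ}
    (h1 : Nat.card ↥(P0 a ⊓ stabilizer P x) ≤ Nat.card (fx (P0 a) (plus V a)) * 2 ^ m)
    (h2 : Nat.card ↥(fx (P0 a) (plus V a) ⊓ stabilizer P y) ≤ 2 ^ n) :
    Nat.card (stabilizer P (x + y)) ≤ 2 ^ (m + n + 1) := by
  have h3 := h.comb hx hy h1 h2
  have h4 : Nat.card ↥(P0 a ⊓ stabilizer P (x + y)) * (P0 a).relIndex (stabilizer P (x + y)) =
      Nat.card (stabilizer P (x + y)) := by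
    have := Subgroup.relIndex_mul_relIndex ⊥ (P0 a ⊓ stabilizer P (x + y))
      (stabilizer P (x + y)) bot_le inf_le_right
    rwa [Subgroup.relIndex_bot_left, Subgroup.relIndex_bot_left, Subgroup.inf_relIndex_right]
      at this
  have h5 : (P0 a).relIndex (stabilizer P (x + y)) ≤ 2 := by
    have h6 : (P0 a).relIndex (stabilizer P (x + y)) ≤ (P0 a).relIndex ⊤ :=
      Subgroup.relIndex_le_of_le_right le_top (Subgroup.FiniteIndex.index_ne_zero)
    rwa [Subgroup.relIndex_top_right, h.index] at h6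
  rw [← h4, pow_succ]
  exact Nat.mul_le_mul h3 h5

theorem comb_zero [Finite P] (h : Four P V a z t) {x y : V} (hx : x ∈ plus V a)
    (hy : y ∈ minus V a) (hxy : ∀ g : P, g • x ≠ y) {m n : ℕ}
    (h1 : Nat.card ↥(P0 a ⊓ stabilizer P x) ≤ Nat.card (fx (P0 a) (plus V a)) * 2 ^ m)
    (h2 : Nat.card ↥(fx (P0 a) (plus V a) ⊓ stabilizer P y) ≤ 2 ^ n) :
    Nat.card (stabilizer P (x + y)) ≤ 2 ^ (m + n) := by
  have h3 := h.comb hx hy h1 h2
  refine le_trans (Subgroup.card_le_of_le ?_) h3
  intro g hg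
  refine ⟨?_, hg⟩
  by_contra hg0
  have h4 : g • (x + y) = x + y := hg
  rw [smul_add] at h4
  have h5 : g • x - y = -(g • y - x) := by
    have h6 : g • x - y + (g • y - x) = 0 := by
      rw [show g • x - y + (g • y - x) = (g • x + g • y) - (x + y) by abel, h4, sub_self]
    exact eq_neg_of_add_eq_zero_left h6
  have h6 : g • x - y ∈ plus V a ⊓ minus V a := by
    refine ⟨?_, (minus V a).sub_mem (h.plus_minus hg0 x hx) hy⟩
    rw [h5]
    exact (plus V a).neg_mem ((plus V a).sub_mem (h.minus_plus hg0 y hy) hx)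
  rw [h.inf, AddSubgroup.mem_bot] at h6
  exact hxy g (sub_eq_zero.1 h6)

end Four

/-- the numbers of an induced pair -/
theorem star_ind {n1 a1 n2 a2 : ℕ} (h1 : Star n1 a1) (h2 : 15 * a2 + 8 ≤ 7 * n2) (h : n2 ≤ n1) :
    Star (n1 + n2 + 1) (a1 + a2 + 1) := by
  unfold Star at *
  rcases h1 with h1 | ⟨h1, h1'⟩ | ⟨h1, h1'⟩
  · omega
  · omega
  · have h3 : a2 = 0 := by omega
    have h4 : 2 ≤ n2 := by omega
    omega

theorem imprim_step [Finite P] [Finite V] (IH : IHyp.{u} (Nat.card V)) (hP : IsPGroup 2 P)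
    (h : Four P V a z t) : Claim P V := by
  have hf2 : Fact (Nat.Prime 2) := ⟨Nat.prime_two⟩
  have hV := h.odd
  have hpos : ∀ S : Subgroup P, 0 < Nat.card S := fun S => Nat.card_pos
  obtain ⟨x, hx, hx0, n1, a1, h1, h2, h3⟩ := rel IH hP hV (P0 a) (plus V a)
    (fun g hg => plus_of_mem hg) h.plus_ne_top h.ha
  obtain ⟨y, hy, hy0, n2, a2, h4, h5, h6⟩ := rel IH hP hV (fx (P0 a) (plus V a)) (minus V a)
    (fun g hg => minus_of_mem hg.1) h.minus_ne_top h.ha'
  rw [h.fx_bot, Subgroup.card_bot, one_mul] at h4 h5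
  have hcP : Nat.card P = 2 ^ (n1 + n2 + 1) := by
    rw [← (P0 a).card_mul_index, h.index, h1, h4, pow_succ, pow_add]
    ring
  -- `n2 ≤ n1`
  have hn : n2 ≤ n1 := by
    have h7 := h.card_sq
    rw [h1, h4] at h7
    exact (Nat.pow_le_pow_iff_right (by norm_num)).1 (Nat.le_of_mul_le_mul_left h7 (by positivity))
  have hn2 : n2 ≠ 0 := by
    rintro rfl
    rw [pow_zero, Subgroup.card_eq_one] at h4
    have h7 := h.a_mem
    rw [h4] at h7
    exact h.a_ne (Subgroup.mem_bot.1 h7)
  -- the transitive case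
  have htrans : (∀ y' ∈ minus V a, y' ≠ 0 → ∃ g : P, g • x = y') →
      Nat.card (P0 a) = (Nat.card (plus V a) - 1) * Nat.card ↥(P0 a ⊓ stabilizer P x) ∧
      (((Nat.card (plus V a)).Prime ∧
          Nat.card ↥(P0 a ⊓ stabilizer P x) = Nat.card (fx (P0 a) (plus V a))) ∨
        (Nat.card (plus V a) = 9 ∧
          Nat.card ↥(P0 a ⊓ stabilizer P x) ≤ Nat.card (fx (P0 a) (plus V a)) * 2)) := by
    intro hc
    refine rel_trans hP hV (P0 a) (plus V a) (fun g hg => plus_of_mem hg) hx hx0 ?_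
    intro x' hx' hx0'
    obtain ⟨g, hg⟩ := hc (t • x') (h.plus_minus h.ne_t x' hx')
      (fun h7 => hx0' ((smul_eq_zero_iff_eq t).1 h7))
    have hg0 : g ∉ P0 a := by
      intro h7
      have h8 := plus_of_mem h7 x hx
      have h9 : g • x ∈ plus V a ⊓ minus V a := ⟨h8, hg ▸ h.plus_minus h.ne_t x' hx'⟩
      rw [h.inf, AddSubgroup.mem_bot] at h9
      exact hx0 ((smul_eq_zero_iff_eq g).1 h9)
    have hti : t⁻¹ ∉ P0 a := fun h1 => h.ne_t (by simpa using (P0 a).inv_mem h1)
    exact ⟨t⁻¹ * g, h.mul_mem hti hg0, by rw [mul_smul, hg, inv_smul_smul]⟩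
  -- the order of the stabilizer of `x` in the case `|V₁| = 9`
  have hnine : Nat.card (P0 a) = (9 - 1) * Nat.card ↥(P0 a ⊓ stabilizer P x) →
      Nat.card ↥(P0 a ⊓ stabilizer P x) ≤ Nat.card (fx (P0 a) (plus V a)) * 2 →
      (n1 = 3 ∧ Nat.card ↥(P0 a ⊓ stabilizer P x) = Nat.card (fx (P0 a) (plus V a))) ∨
      (n1 = 4 ∧ Nat.card ↥(P0 a ⊓ stabilizer P x) = Nat.card (fx (P0 a) (plus V a)) * 2) := by
    intro h7 h8
    obtain ⟨k, hk⟩ := IsPGroup.iff_card.1 (hP.to_subgroup (P0 a ⊓ stabilizer P x))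
    rw [h1, h4, hk, ← pow_add, show 9 - 1 = 2 ^ 3 by norm_num, ← pow_add] at h7
    have h9 : n2 + n1 = 3 + k := Nat.pow_right_injective (le_refl 2) h7
    rw [h4, hk, ← pow_succ] at h8
    have h10 : k ≤ n2 + 1 := (Nat.pow_le_pow_iff_right (by norm_num)).1 h8
    have h11 : n2 ≤ k := by
      have h12 : Nat.card (fx (P0 a) (plus V a)) ≤ Nat.card ↥(P0 a ⊓ stabilizer P x) :=
        Subgroup.card_le_of_le (fx_le_stab _ hx)
      rw [h4, hk] at h12
      exact (Nat.pow_le_pow_iff_right (by norm_num)).1 h12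
    rcases (by omega : k = n2 ∨ k = n2 + 1) with h13 | h13
    · left
      exact ⟨by omega, by rw [hk, h4, h13]⟩
    · right
      exact ⟨by omega, by rw [hk, h4, h13, pow_succ]⟩
  rcases h6 with h6 | ⟨h6, h6'⟩ | ⟨h6, h6'⟩
  · exact ⟨x + y, _, _, hcP, h.comb_one hx hy h2 h5, star_ind h3 h6 hn⟩
  · -- `|K| = 2`
    have hn2' : n2 = 1 := by omega
    subst hn2'
    have hK : ∀ y' ∈ minus V a, y' ≠ 0 →
        Nat.card ↥(fx (P0 a) (plus V a) ⊓ stabilizer P y') ≤ 2 ^ 0 := by
      intro y' hy' hy0'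
      have h7 : fx (P0 a) (plus V a) ⊓ stabilizer P y' < fx (P0 a) (plus V a) := by
        refine lt_of_le_of_ne inf_le_left fun h8 => ?_
        have h9 : a ∈ fx (P0 a) (plus V a) ⊓ stabilizer P y' := by
          rw [h8]
          exact h.a_mem
        have h10 : a • y' = y' := h9.2
        have h11 : a • y' = -y' := hy'
        exact hy0' (eq_zero_of_eq_neg hV (h10.symm.trans h11))
      have h8 : Nat.card ↥(fx (P0 a) (plus V a) ⊓ stabilizer P y') <
          Nat.card (fx (P0 a) (plus V a)) := Set.ncard_lt_ncard h7 (Set.toFinite _)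
      rw [h4] at h8
      simp only [pow_one, pow_zero] at h8 ⊢
      omega
    by_cases hc : ∀ y' ∈ minus V a, y' ≠ 0 → ∃ g : P, g • x = y'
    · obtain ⟨h7, h8⟩ := htrans hc
      rcases h8 with ⟨h8, h9⟩ | ⟨h8, h9⟩
      · -- prime order
        refine ⟨x + y, _, _, hcP, h.comb_one (m := 0) (n := 0) hx hy (by rw [h9, pow_zero, mul_one])
          (hK y hy hy0), ?_⟩
        have h10 : n1 ≠ 0 := by omega
        unfold Star
        omega
      · rw [h8] at h7
        rcases hnine h7 h9 with ⟨h10, h11⟩ | ⟨h10, h11⟩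
        · refine ⟨x + y, _, _, hcP, h.comb_one (m := 0) (n := 0) hx hy
            (by rw [h11, pow_zero, mul_one]) (hK y hy hy0), ?_⟩
          unfold Star
          omega
        · refine ⟨x + y, _, _, hcP, h.comb_one (m := 1) (n := 0) hx hy
            (by rw [h11, pow_one]) (hK y hy hy0), ?_⟩
          unfold Star
          omega
    · push Not at hc
      obtain ⟨y', hy', hy0', hxy⟩ := hc
      refine ⟨x + y', _, _, hcP, h.comb_zero (n := 0) hx hy' hxy h2 (hK y' hy' hy0'), ?_⟩
      unfold Star at *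
      (clear * - h3; omega)
  · -- `|K| = 8`
    subst h6
    by_cases hreg : ∃ y' ∈ minus V a, fx (P0 a) (plus V a) ⊓ stabilizer P y' = ⊥
    · obtain ⟨y', hy', hr⟩ := hreg
      refine ⟨x + y', _, _, hcP, h.comb_one (n := 0) hx hy' h2 (by
        rw [hr, Subgroup.card_bot, pow_zero]), ?_⟩
      exact star_ind (a2 := 0) h3 (by omega) hn
    · -- `K` is nonabelian
      have hnc : ∃ g ∈ fx (P0 a) (plus V a), ∃ k ∈ fx (P0 a) (plus V a), g * k ≠ k * g := by
        by_contra hc
        push Not at hc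
        exact hreg (rel_regular hP hV _ (minus V a) (fun g hg => minus_of_mem hg.1) hc h.fx_bot)
      have hK : ∀ y' ∈ minus V a, y' ≠ 0 →
          Nat.card ↥(fx (P0 a) (plus V a) ⊓ stabilizer P y') ≤ 2 ^ 1 := by
        intro y' hy' hy0'
        by_contra hlt
        have ha : a ∉ fx (P0 a) (plus V a) ⊓ stabilizer P y' := by
          intro h9
          have h10 : a • y' = y' := h9.2
          have h11 : a • y' = -y' := hy'
          exact hy0' (eq_zero_of_eq_neg hV (h10.symm.trans h11))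
        obtain ⟨C, hC⟩ : ∃ C, C = fx (P0 a) (plus V a) ⊓ stabilizer P y' := ⟨_, rfl⟩
        rw [← hC] at hlt ha
        have hCK : C ≤ fx (P0 a) (plus V a) := hC ▸ inf_le_left
        have hC8 : Nat.card C < 8 := by
          have h7 : C < fx (P0 a) (plus V a) := lt_of_le_of_ne hCK fun h8 => ha (h8 ▸ h.a_mem)
          have h8 : Nat.card C < Nat.card (fx (P0 a) (plus V a)) :=
            Set.ncard_lt_ncard h7 (Set.toFinite _)
          rw [h4] at h8
          omega
        obtain ⟨k, hk⟩ := IsPGroup.iff_card.1 (hP.to_subgroup C)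
        have hC4 : Nat.card C = 2 ^ 2 := by
          have h7 : k < 3 := (Nat.pow_lt_pow_iff_right (by norm_num : 1 < 2)).1 (by
            rw [← hk]
            exact hC8)
          have h8 : 1 < k := (Nat.pow_lt_pow_iff_right (by norm_num : 1 < 2)).1 (by
            rw [← hk]
            omega)
          rw [hk, show k = 2 by omega]
        have hCc := IsPGroup.isMulCommutative_of_card_eq_prime_sq hC4
        -- `K = C ∪ aC`
        have hidx : C.relIndex (fx (P0 a) (plus V a)) = 2 := by
          have := Subgroup.relIndex_mul_relIndex ⊥ C (fx (P0 a) (plus V a)) bot_le hCK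
          rw [Subgroup.relIndex_bot_left, Subgroup.relIndex_bot_left, h4, hC4] at this
          omega
        have hdec : ∀ g ∈ fx (P0 a) (plus V a), g ∈ C ∨ a * g ∈ C := by
          intro g hg
          by_contra h7
          push Not at h7
          have h8 : ((C.subgroupOf (fx (P0 a) (plus V a)))).index = 2 := hidx
          have h9 := (Subgroup.mul_mem_iff_of_index_two h8 (a := ⟨a, h.a_mem⟩) (b := ⟨g, hg⟩))
          rw [Subgroup.mem_subgroupOf, Subgroup.mem_subgroupOf, Subgroup.mem_subgroupOf] at h9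
          exact h7.2 (h9.2 ⟨fun h' => absurd h' ha, fun h' => absurd h' h7.1⟩)
        obtain ⟨g, hg, k', hk', hne⟩ := hnc
        apply hne
        have hag : ∀ g ∈ fx (P0 a) (plus V a), g * a = a * g := fun g hg => mem_P0.1 hg.1
        have hcom : ∀ c ∈ C, ∀ d ∈ C, c * d = d * c := fun c hc d hd =>
          congrArg Subtype.val (hCc.is_comm.comm ⟨c, hc⟩ ⟨d, hd⟩)
        have hw : ∀ g ∈ fx (P0 a) (plus V a), ∃ c ∈ C, g = c ∨ g = a * c := by
          intro g hg
          rcases hdec g hg with h7 | h7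
          · exact ⟨g, h7, Or.inl rfl⟩
          · exact ⟨a * g, h7, Or.inr (by rw [← mul_assoc, h.aa, one_mul])⟩
        obtain ⟨c, hc, hgc⟩ := hw g hg
        obtain ⟨d, hd, hkd⟩ := hw k' hk'
        have hac : a * c = c * a := (hag c (hCK hc)).symm
        have had : a * d = d * a := (hag d (hCK hd)).symm
        have hcd : Commute c d := hcom c hc d hd
        have hac' : Commute a c := hac
        have had' : Commute a d := had
        rcases hgc with rfl | rfl <;> rcases hkd with rfl | rfl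
        · exact hcd
        · exact (hac'.symm.mul_right hcd).eq
        · exact (had'.mul_left hcd).eq
        · exact (((Commute.refl a).mul_right had').mul_left
            (hac'.symm.mul_right hcd)).eq
      by_cases hc : ∀ y' ∈ minus V a, y' ≠ 0 → ∃ g : P, g • x = y'
      · obtain ⟨h7, h8⟩ := htrans hc
        rcases h8 with ⟨h8, h9⟩ | ⟨h8, h9⟩
        · -- prime order: `K` has a regular orbit
          exfalso
          apply hreg
          refine ⟨y, hy, ?_⟩
          rw [eq_bot_iff]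
          rintro g ⟨hg1, hg2⟩
          have hti : t⁻¹ ∉ P0 a := fun h1 => h.ne_t (by simpa using (P0 a).inv_mem h1)
          have h10 : ∀ y' ∈ minus V a, g • y' = y' := by
            intro y' hy'
            have hfp : Fact (Nat.card (plus V a)).Prime := ⟨h8⟩
            have h12 : (⟨t⁻¹ • y, h.minus_plus hti y hy⟩ : plus V a) ≠ 0 := fun h' =>
              hy0 ((smul_eq_zero_iff_eq t⁻¹).1 (congrArg Subtype.val h'))
            have h13 : (⟨t⁻¹ • y', h.minus_plus hti y' hy'⟩ : plus V a) ∈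
                AddSubgroup.zmultiples (⟨t⁻¹ • y, h.minus_plus hti y hy⟩ : plus V a) := by
              rw [zmultiples_eq_top_of_prime_card (p := Nat.card (plus V a)) rfl h12]
              exact AddSubgroup.mem_top _
            obtain ⟨k, hk⟩ := AddSubgroup.mem_zmultiples_iff.1 h13
            have h14 : k • (t⁻¹ • y) = t⁻¹ • y' := congrArg Subtype.val hk
            have h15 : k • y = y' := by
              rw [← smul_comm t⁻¹ k y] at h14
              exact MulAction.injective t⁻¹ h14
            rw [← h15, smul_comm, show g • y = y from hg2]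
          have h11 : g ∈ fx (fx (P0 a) (plus V a)) (minus V a) := ⟨hg1, h10⟩
          rwa [h.fx_bot] at h11
        · rw [h8] at h7
          rcases hnine h7 h9 with ⟨h10, h11⟩ | ⟨h10, h11⟩
          · exfalso
            apply hreg
            refine ⟨t • x, h.plus_minus h.ne_t x hx, ?_⟩
            have hti : t⁻¹ ∉ P0 a := fun h1 => h.ne_t (by simpa using (P0 a).inv_mem h1)
            have h12 : fx (P0 a) (plus V a) = P0 a ⊓ stabilizer P x :=
              Subgroup.eq_of_le_of_card_ge (fx_le_stab _ hx) (by rw [h11])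
            rw [eq_bot_iff]
            rintro g ⟨hg1, hg2⟩
            have hg3 : g • t • x = t • x := hg2
            have h13 : t⁻¹ * g * t ∈ P0 a ⊓ stabilizer P x := by
              refine ⟨?_, ?_⟩
              · refine h.mul_mem (fun h14 => hti ?_) h.ne_t
                exact ((P0 a).mul_mem_cancel_right hg1.1).1 h14
              · show (t⁻¹ * g * t) • x = x
                rw [mul_smul, mul_smul, hg3, inv_smul_smul]
            rw [← h12] at h13
            have h14 := h.conj_mem h13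
            have h15 : t * (t⁻¹ * g * t) * t⁻¹ = g := by group
            rw [h15] at h14
            have h16 : g ∈ fx (fx (P0 a) (plus V a)) (minus V a) := ⟨hg1, h14.2⟩
            rwa [h.fx_bot] at h16
          · refine ⟨x + y, _, _, hcP, h.comb_one (m := 1) (n := 1) hx hy
              (by rw [h11, pow_one]) (hK y hy hy0), ?_⟩
            unfold Star
            omega
      · push Not at hc
        obtain ⟨y', hy', hy0', hxy⟩ := hc
        refine ⟨x + y', _, _, hcP, h.comb_zero hx hy' hxy h2 (hK y' hy' hy0'), ?_⟩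
        unfold Star at *
        (clear * - h3; omega)

end imprimitive

/-! ### No normal four-subgroups -/

section main

variable {P V : Type u} [Group P] [Finite P] [AddCommGroup V] [Finite V] [DistribMulAction P V]

omit [Finite V] in
/-- all normal abelian subgroups cyclic: stabilizers have order at most two -/
theorem card_stab_le_two (hP : IsPGroup 2 P)
    (hneg : ∀ s : P, s * s = 1 → s ≠ 1 → (∀ g, s * g = g * s) → plus V s = ⊥)
    (hcyc : ∀ A : Subgroup P, A.Normal → IsMulCommutative A → IsCyclic A) {v : V} (hv : v ≠ 0) :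
    Nat.card (stabilizer P v) ≤ 2 := by
  have hf2 : Fact (Nat.Prime 2) := ⟨Nat.prime_two⟩
  obtain ⟨A, hA, hAn, hAi⟩ : ∃ A : Subgroup P, IsCyclic A ∧ A.Normal ∧ A.index ≤ 2 := by
    rcases Cfsg.Agent.Classification.NormalCyclic.exists_cyclic_index_two hP hcyc with h | h
    · refine ⟨⊤, ?_, inferInstance, by rw [Subgroup.index_top]; omega⟩
      exact isCyclic_of_surjective (Subgroup.topEquiv (G := P)).symm
        (Subgroup.topEquiv (G := P)).symm.surjective
    · obtain ⟨A, hA, hi⟩ := h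
      exact ⟨A, hA, Subgroup.normal_of_index_eq_two hi, hi.le⟩
  have hbot : stabilizer P v ⊓ A = ⊥ := by
    by_contra hne
    have h2 : 2 ∣ Nat.card ↥(stabilizer P v ⊓ A) := by
      obtain ⟨n, hn⟩ := IsPGroup.iff_card.1 (hP.to_subgroup (stabilizer P v ⊓ A))
      rcases Nat.eq_zero_or_pos n with h0 | h0
      · exfalso
        apply hne
        rw [h0, pow_zero] at hn
        exact Subgroup.card_eq_one.1 hn
      · rw [hn]
        exact dvd_pow_self 2 h0.ne'
    obtain ⟨s, hs⟩ := exists_prime_orderOf_dvd_card' 2 h2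
    have hso : orderOf (s : P) = 2 := by rw [Subgroup.orderOf_coe, hs]
    have hs1 : (s : P) * s = 1 := by
      have h3 := pow_orderOf_eq_one (s : P)
      rwa [hso, pow_two] at h3
    have hsne : (s : P) ≠ 1 := by
      intro h
      rw [h, orderOf_one] at hso
      omega
    have hcen : ∀ g : P, (s : P) * g = g * s := by
      intro g
      -- `A` has only one involution
      have h3 : g * s * g⁻¹ ∈ A := hAn.conj_mem _ s.2.2 g
      have h4 : (⟨g * s * g⁻¹, h3⟩ : A) = ⟨s, s.2.2⟩ := by
        by_contra hne'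
        classical
        have := Fintype.ofFinite A
        have h5 := IsCyclic.card_pow_eq_one_le (α := A) (n := 2) (by norm_num)
        have h6 : ({1, ⟨s, s.2.2⟩, ⟨g * s * g⁻¹, h3⟩} : Finset A) ⊆
            Finset.univ.filter fun x : A => x ^ 2 = 1 := by
          intro y hy
          simp only [Finset.mem_insert, Finset.mem_singleton] at hy
          rw [Finset.mem_filter]
          refine ⟨Finset.mem_univ _, ?_⟩
          rcases hy with rfl | rfl | rfl
          · exact one_pow 2
          · rw [pow_two]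
            exact Subtype.ext hs1
          · rw [pow_two]
            apply Subtype.ext
            show g * s * g⁻¹ * (g * s * g⁻¹) = 1
            rw [show g * (s : P) * g⁻¹ * (g * s * g⁻¹) = g * (s * s) * g⁻¹ by group, hs1, mul_one,
              mul_inv_cancel]
        have h7 : ({1, ⟨s, s.2.2⟩, ⟨g * s * g⁻¹, h3⟩} : Finset A).card = 3 := by
          rw [Finset.card_eq_three]
          refine ⟨_, _, _, ?_, ?_, ?_, rfl⟩
          · intro h
            exact hsne (congrArg Subtype.val h).symm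
          · intro h
            exact hsne (conj_eq_one_iff.1 (congrArg Subtype.val h).symm)
          · exact Ne.symm hne'
        have h8 := Finset.card_le_card h6
        rw [h7] at h8
        omega
      have h5 : g * s * g⁻¹ = s := congrArg Subtype.val h4
      exact (mul_inv_eq_iff_eq_mul.1 h5).symm
    have h3 := hneg s hs1 hsne hcen
    have h4 : v ∈ plus V (s : P) := s.2.1
    rw [h3, AddSubgroup.mem_bot] at h4
    exact hv h4
  have h1 : Nat.card (stabilizer P v) = A.relIndex (stabilizer P v) := by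
    have := Subgroup.relIndex_mul_relIndex ⊥ (A ⊓ stabilizer P v) (stabilizer P v) bot_le
      inf_le_right
    rw [Subgroup.relIndex_bot_left, Subgroup.relIndex_bot_left, Subgroup.inf_relIndex_right,
      inf_comm, hbot, Subgroup.card_bot, one_mul] at this
    exact this.symm
  have h2 : A.relIndex (stabilizer P v) ≤ A.relIndex ⊤ :=
    Subgroup.relIndex_le_of_le_right le_top (Subgroup.FiniteIndex.index_ne_zero)
  rw [Subgroup.relIndex_top_right] at h2
  omega

omit [Finite P] [Finite V] in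
/-- groups of order at most `4` are commutative -/
theorem comm_of_card {n : ℕ} (h : Nat.card P = 2 ^ n) (hn : n ≤ 2) : ∀ a b : P, a * b = b * a := by
  have hf2 : Fact (Nat.Prime 2) := ⟨Nat.prime_two⟩
  rcases (by omega : n = 0 ∨ n = 1 ∨ n = 2) with rfl | rfl | rfl
  · rw [pow_zero] at h
    have := (Nat.card_eq_one_iff_unique.1 h).1
    exact fun a b => Subsingleton.elim _ _
  · rw [pow_one] at h
    have := isCyclic_of_prime_card (p := 2) h
    intro a b
    obtain ⟨g, hg⟩ := this.exists_generator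
    obtain ⟨m, rfl⟩ := Subgroup.mem_zpowers_iff.1 (hg a)
    obtain ⟨n, rfl⟩ := Subgroup.mem_zpowers_iff.1 (hg b)
    exact zpow_mul_comm g m n
  · exact (IsPGroup.isMulCommutative_of_card_eq_prime_sq h).is_comm.comm

theorem claim_of (IH : IHyp.{u} (Nat.card V)) (hP : IsPGroup 2 P) (hV : ¬ 2 ∣ Nat.card V)
    (hf : Faith P V) : Claim P V := by
  have hf2 : Fact (Nat.Prime 2) := ⟨Nat.prime_two⟩
  obtain ⟨n, hn⟩ := IsPGroup.iff_card.1 hP
  by_cases hc : ∃ s : P, s * s = 1 ∧ s ≠ 1 ∧ (∀ g, s * g = g * s) ∧ plus V s ≠ ⊥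
  · obtain ⟨s, h1, h2, h3, h4⟩ := hc
    exact red_step IH hP hV hf h1 h2 h3 h4
  push Not at hc
  by_cases hP1 : Nat.card P = 1
  · refine ⟨0, 0, 0, by rw [hP1, pow_zero], ?_, Or.inr (Or.inl ⟨by omega, rfl⟩)⟩
    rw [pow_zero, ← hP1]
    exact Subgroup.card_le_card_group _
  -- `V ≠ 0`
  obtain ⟨v, hv⟩ : ∃ v : V, v ≠ 0 := by
    by_contra h
    push Not at h
    apply hP1
    rw [Nat.card_eq_one_iff_unique]
    refine ⟨⟨fun a b => ?_⟩, ⟨1⟩⟩
    rw [hf a fun v => by rw [h v, smul_zero], hf b fun v => by rw [h v, smul_zero]]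
  by_cases hcyc : ∀ A : Subgroup P, A.Normal → IsMulCommutative A → IsCyclic A
  · have h2 := card_stab_le_two hP hc hcyc hv
    by_cases hn2 : n ≤ 2
    · obtain ⟨w, hw⟩ := exists_regular hP hV hf (comm_of_card hn hn2)
      refine ⟨w, n, 0, hn, by rw [hw, Subgroup.card_bot, pow_zero], ?_⟩
      unfold Star
      omega
    · refine ⟨v, n, 1, hn, by rw [pow_one]; exact h2, ?_⟩
      unfold Star
      omega
  · push Not at hcyc
    obtain ⟨A, hA, hAc, hnc⟩ := hcyc
    have hA' : ∀ x ∈ A, ∀ y ∈ A, x * y = y * x := fun x hx y hy =>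
      congrArg Subtype.val (hAc.is_comm.comm ⟨x, hx⟩ ⟨y, hy⟩)
    -- `Ω = Ω₁(A)`
    let Om : Subgroup P :=
      { carrier := {x | x ∈ A ∧ x * x = 1}
        one_mem' := ⟨A.one_mem, one_mul 1⟩
        mul_mem' := fun {x y} hx hy => ⟨A.mul_mem hx.1 hy.1, by
          have hxy : Commute x y := hA' x hx.1 y hy.1
          rw [hxy.symm.mul_mul_mul_comm, hx.2, hy.2, one_mul]⟩
        inv_mem' := fun {x} hx => ⟨A.inv_mem hx.1, by
          rw [← mul_inv_rev, hx.2, inv_one]⟩ }
    have hOn : Om.Normal := ⟨fun x hx g => ⟨hA.conj_mem x hx.1 g, by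
      rw [show g * x * g⁻¹ * (g * x * g⁻¹) = g * (x * x) * g⁻¹ by group, hx.2, mul_one,
        mul_inv_cancel]⟩⟩
    have hO4 : 2 ^ 2 ≤ Nat.card Om := by
      by_contra hlt
      apply hnc
      let _ : CommGroup A := { (inferInstance : Group A) with mul_comm := hAc.is_comm.comm }
      have h1 : IsPGroup 2 A := hP.to_subgroup A
      refine Cfsg.Agent.Transfer.PGroupNormal.isCyclic_of_card_ker_pow_le h1 ?_
      have h2 : ((powMonoidHom 2 : A →* A).ker).map A.subtype = Om := by
        ext x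
        constructor
        · rintro ⟨y, hy, rfl⟩
          refine ⟨y.2, ?_⟩
          have h3 : y ^ 2 = 1 := hy
          rw [pow_two] at h3
          exact congrArg Subtype.val h3
        · rintro ⟨hx1, hx2⟩
          refine ⟨⟨x, hx1⟩, ?_, rfl⟩
          show (⟨x, hx1⟩ : A) ^ 2 = 1
          rw [pow_two]
          exact Subtype.ext hx2
      have h3 : Nat.card (powMonoidHom 2 : A →* A).ker = Nat.card Om := by
        rw [← h2]
        exact Nat.card_congr (Subgroup.equivMapOfInjective _ _ A.subtype_injective).toEquiv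
      rw [h3]
      obtain ⟨m, hm⟩ := IsPGroup.iff_card.1 (hP.to_subgroup Om)
      rw [hm] at hlt ⊢
      have h4 : m < 2 := (Nat.pow_lt_pow_iff_right (by norm_num : 1 < 2)).1 (not_le.1 hlt)
      calc 2 ^ m ≤ 2 ^ 1 := Nat.pow_le_pow_right (by norm_num) (by omega)
        _ = 2 := pow_one 2
    obtain ⟨E, hEn, hEO, hE4⟩ :=
      Cfsg.Agent.Transfer.PGroupNormal.exists_normal_le_card hP hOn hO4
    have hEb : E ≠ ⊥ := by
      rintro rfl
      rw [Subgroup.card_bot] at hE4
      norm_num at hE4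
    obtain ⟨z, hzE, hzc, hzo⟩ :=
      Cfsg.Agent.Transfer.PGroupNormal.exists_mem_inf_center_orderOf hP E hEb
    have hzg : ∀ g : P, z * g = g * z := fun g => (Subgroup.mem_center_iff.1 hzc g).symm
    have hz1 : z ≠ 1 := by
      rintro rfl
      rw [orderOf_one] at hzo
      omega
    have hzz : z * z = 1 := (hEO hzE).2
    have hzneg : ∀ v : V, z • v = -v := eq_neg_of_plus hV hzz (hc z hzz hz1 hzg)
    -- an element outside `⟨z⟩`
    obtain ⟨a, haE, haz⟩ : ∃ a ∈ E, a ∉ Subgroup.zpowers z := by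
      by_contra h
      push Not at h
      have h1 : Nat.card E ≤ Nat.card (Subgroup.zpowers z) := Subgroup.card_le_of_le h
      rw [hE4, Nat.card_zpowers, hzo] at h1
      norm_num at h1
    have haa : a * a = 1 := (hEO haE).2
    have ha1 : a ≠ 1 := by
      rintro rfl
      exact haz (Subgroup.one_mem _)
    have hazne : a ≠ z := by
      rintro rfl
      exact haz (Subgroup.mem_zpowers _)
    have hmem : ∀ e ∈ E, e = 1 ∨ e = z ∨ e = a ∨ e = a * z := by
      intro e he
      by_contra hne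
      push Not at hne
      obtain ⟨h1, h2, h3, h4⟩ := hne
      have h5 : ({1, z, a, a * z, e} : Set P) ⊆ E := by
        rintro y (rfl | rfl | rfl | rfl | rfl)
        · exact E.one_mem
        · exact hzE
        · exact haE
        · exact E.mul_mem haE hzE
        · exact he
      have h6 : ({1, z, a, a * z, e} : Set P).ncard = 5 := by
        have e1 : a * z ≠ 1 := fun h => hazne
          ((eq_inv_of_mul_eq_one_left h).trans (inv_eq_of_mul_eq_one_left hzz))
        have e2 : a * z ≠ z := fun h => ha1 (by simpa using h)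
        have e3 : a * z ≠ a := fun h => hz1 (by simpa using h)
        rw [Set.ncard_insert_of_notMem, Set.ncard_insert_of_notMem, Set.ncard_insert_of_notMem,
          Set.ncard_pair]
        · exact Ne.symm h4
        · simp only [Set.mem_insert_iff, Set.mem_singleton_iff, not_or]
          exact ⟨Ne.symm e3, Ne.symm h3⟩
        · simp only [Set.mem_insert_iff, Set.mem_singleton_iff, not_or]
          exact ⟨Ne.symm hazne, Ne.symm e2, Ne.symm h2⟩
        · simp only [Set.mem_insert_iff, Set.mem_singleton_iff, not_or]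
          exact ⟨Ne.symm hz1, Ne.symm ha1, Ne.symm e1, Ne.symm h1⟩
      have h7 : ({1, z, a, a * z, e} : Set P).ncard ≤ (E : Set P).ncard :=
        Set.ncard_le_ncard h5 (Set.toFinite _)
      have h8 : (E : Set P).ncard = 4 := by
        rw [← Nat.card_coe_set_eq]
        exact hE4
      omega
    have hcj : ∀ g, g * a = a * g ∨ g * a = a * z * g := by
      intro g
      rcases hmem _ (hEn.conj_mem a haE g) with h1 | h1 | h1 | h1
      · exact absurd (conj_eq_one_iff.1 h1) ha1
      · exfalso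
        apply hazne
        have h2 : g * a = z * g := mul_inv_eq_iff_eq_mul.1 h1
        rw [hzg g] at h2
        exact mul_left_cancel h2
      · exact Or.inl (mul_inv_eq_iff_eq_mul.1 h1)
      · exact Or.inr (mul_inv_eq_iff_eq_mul.1 h1)
    -- `a` is not central
    have hplus : plus V a ≠ ⊥ := by
      intro h
      apply hazne
      have h1 := eq_neg_of_plus hV haa h
      have h2 : z⁻¹ * a = 1 := by
        apply hf
        intro v
        rw [mul_smul, h1, inv_smul_eq_iff, hzneg]
      exact (inv_mul_eq_one.1 h2).symm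
    obtain ⟨t, ht⟩ : ∃ t : P, ¬ a * t = t * a := by
      by_contra h
      push Not at h
      exact hplus (hc a haa ha1 h)
    have htt : t * a = a * z * t := (hcj t).resolve_left fun h => ht h.symm
    obtain ⟨u, hu⟩ : ∃ u : V, a • u ≠ u := by
      by_contra h
      push Not at h
      exact ha1 (hf _ h)
    have h4 : Four P V a z t :=
      { odd := hV
        faith := hf
        aa := haa
        neg := hzneg
        cj := hcj
        tt := htt
        ha := by
          by_contra h
          push Not at h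
          exact hplus ((AddSubgroup.eq_bot_iff_forall _).2 h)
        ha' := exists_minus haa hu }
    exact imprim_step IH hP h4

theorem claim : ∀ N : ℕ, IHyp.{u} N := by
  intro N
  induction N with
  | zero =>
    intro P V _ _ _ _ _ _ _ _ h
    exact absurd h (Nat.not_lt_zero _)
  | succ N ih =>
    intro P V _ _ _ _ _ hP hV hf hlt
    exact claim_of (fun P' V' _ _ _ _ _ h1 h2 h3 h4 => ih P' V' h1 h2 h3 (by omega)) hP hV hf

/-- **[RAT2]** -/
theorem rat_two : H527.RC.Rat.{u} 2 7 15 := by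
  intro P V _ _ _ _ _ hP hV hf
  have hf2 : Fact (Nat.Prime 2) := ⟨Nat.prime_two⟩
  obtain ⟨v, n, a, h1, h2, h3⟩ := claim (Nat.card V + 1) P V hP hV hf (Nat.lt_succ_self _)
  refine ⟨v, ?_⟩
  obtain ⟨b, hb⟩ := IsPGroup.iff_card.1 (hP.to_subgroup (stabilizer P v))
  rw [hb] at h2
  have h4 : b ≤ a := (Nat.pow_le_pow_iff_right (by norm_num)).1 h2
  rw [h1, hb, Nat.Prime.factorization_pow Nat.prime_two, Nat.Prime.factorization_pow Nat.prime_two,
    Finsupp.single_eq_same, Finsupp.single_eq_same]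
  unfold Star at h3
  omega

end main

end Cfsg.Agent.H62.RC
end

-- part: H242/RC/RatRing
section
/-!
# S4191 (team RC), large orbits of `p`-groups: orthogonal idempotents (helper242)

Plan: `tools/plans/S4191.md`, section 2.
-/

set_option autoImplicit false

namespace Cfsg.Agent.H242.RC

open Finset

/-- `B`, `Z` : commuting images of two groups of order `p` in a ring, `∑ Z = 0`, `u = 1 / p`. -/
structure Fr {R : Type*} [Ring R] {p : ℕ} [NeZero p] (Bf Zf : ZMod p → R) (u : R) : Prop where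
  up : u * (p : R) = 1
  uc : ∀ x : R, u * x = x * u
  b0 : Bf 0 = 1
  z0 : Zf 0 = 1
  badd : ∀ k l, Bf (k + l) = Bf k * Bf l
  zadd : ∀ k l, Zf (k + l) = Zf k * Zf l
  comm : ∀ k l, Zf k * Bf l = Bf l * Zf k
  zsum : ∑ i, Zf i = 0

/-- the projector on the part where `b = z ^ (-i)` -/
noncomputable def E {R : Type*} [Ring R] {p : ℕ} [NeZero p] (Bf Zf : ZMod p → R) (u : R) (i : ZMod p) : R :=
  u * ∑ k, Bf k * Zf (i * k)

section

variable {R : Type*} [Ring R] {p : ℕ} [hp : Fact p.Prime] {Bf Zf : ZMod p → R} {u : R}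

theorem Fr.sum_mul (h : Fr Bf Zf u) {a : ZMod p} (ha : a ≠ 0) : ∑ k, Zf (a * k) = 0 := by
  rw [← h.zsum]
  exact Fintype.sum_equiv (Equiv.mulLeft₀ a ha) _ _ fun k => rfl

theorem Fr.sum_mul' (h : Fr Bf Zf u) {a : ZMod p} (ha : a ≠ 0) : ∑ k, Zf (k * a) = 0 := by
  rw [← h.sum_mul ha]
  exact Finset.sum_congr rfl fun k _ => by rw [mul_comm]

theorem Fr.sum_E (h : Fr Bf Zf u) : ∑ i, E Bf Zf u i = 1 := by
  have h1 : ∑ i, E Bf Zf u i = u * ∑ k, Bf k * ∑ i, Zf (i * k) := by
    simp only [E]
    rw [← Finset.mul_sum, Finset.sum_comm]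
    congr 1
    exact Finset.sum_congr rfl fun k _ => (Finset.mul_sum _ _ _).symm
  rw [h1, Finset.sum_eq_single 0]
  · have h2 : ∑ i : ZMod p, Zf (i * 0) = (p : R) := by
      rw [Finset.sum_congr rfl fun i _ => by rw [mul_zero, h.z0], Finset.sum_const, Finset.card_univ, ZMod.card,
        nsmul_eq_mul, mul_one]
    rw [h2, h.b0, one_mul, h.up]
  · intro k _ hk
    rw [h.sum_mul' hk, mul_zero]
  · intro hk
    exact absurd (Finset.mem_univ _) hk

theorem Fr.E_mul (h : Fr Bf Zf u) (i j : ZMod p) : E Bf Zf u i * E Bf Zf u j = if i = j then E Bf Zf u i else 0 := by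
  have h1 : E Bf Zf u i * E Bf Zf u j = u * (u * ∑ k, ∑ l, Bf k * Zf (i * k) * (Bf l * Zf (j * l))) := by
    have h2 : (∑ k, Bf k * Zf (i * k)) * (∑ l, Bf l * Zf (j * l)) =
        ∑ k, ∑ l, Bf k * Zf (i * k) * (Bf l * Zf (j * l)) := Finset.sum_mul_sum _ _ _ _
    rw [← h2]
    simp only [E]
    rw [mul_assoc, ← mul_assoc _ u, ← h.uc, mul_assoc]
  have h3 : ∀ k : ZMod p, ∑ l, Bf k * Zf (i * k) * (Bf l * Zf (j * l)) = ∑ m, Bf m * Zf (j * m) * Zf ((i - j) * k) := by
    intro k
    refine Fintype.sum_equiv (Equiv.addLeft k) _ _ fun l => ?_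
    rw [Equiv.coe_addLeft]
    have e1 : Bf k * Zf (i * k) * (Bf l * Zf (j * l)) = Bf (k + l) * Zf (i * k + j * l) := by
      rw [h.badd, h.zadd, mul_assoc (Bf k), ← mul_assoc (Zf (i * k)), h.comm]
      simp only [mul_assoc]
    rw [e1, mul_assoc, ← h.zadd]
    congr 2
    ring
  rw [h1, Finset.sum_congr rfl fun k _ => h3 k, Finset.sum_comm]
  have h4 : ∀ m : ZMod p, ∑ k, Bf m * Zf (j * m) * Zf ((i - j) * k) = Bf m * Zf (j * m) * ∑ k, Zf ((i - j) * k) :=
    fun m => (Finset.mul_sum _ _ _).symm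
  rw [Finset.sum_congr rfl fun m _ => h4 m, ← Finset.sum_mul]
  by_cases hij : i = j
  · rw [if_pos hij, hij, sub_self]
    have h5 : ∑ k : ZMod p, Zf (0 * k) = (p : R) := by
      rw [Finset.sum_congr rfl fun k _ => by rw [zero_mul, h.z0], Finset.sum_const, Finset.card_univ, ZMod.card,
        nsmul_eq_mul, mul_one]
    have h6 : ∀ S : R, u * (S * (p : R)) = S := fun S => by rw [← mul_assoc, h.uc, mul_assoc, h.up, mul_one]
    rw [h5, h6, E]
  · rw [if_neg hij, h.sum_mul (sub_ne_zero.2 hij), mul_zero, mul_zero, mul_zero]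

/-- equivariance -/
theorem Fr.conj_E (h : Fr Bf Zf u) {x : R} {c : ZMod p} (hz : ∀ k, x * Zf k = Zf k * x)
    (hb : ∀ k, x * Bf k = Bf k * Zf (c * k) * x) (i : ZMod p) : x * E Bf Zf u i = E Bf Zf u (i + c) * x := by
  simp only [E]
  rw [← mul_assoc, ← h.uc, mul_assoc, mul_assoc, Finset.mul_sum, Finset.sum_mul]
  congr 1
  refine Finset.sum_congr rfl fun k _ => ?_
  rw [← mul_assoc, hb, mul_assoc, hz, ← mul_assoc, mul_assoc (Bf k), ← h.zadd]
  congr 3
  ring

/-- `b z^i` acts trivially on the image of `E i` -/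
theorem Fr.bz_E (h : Fr Bf Zf u) (i : ZMod p) : Bf 1 * Zf i * E Bf Zf u i = E Bf Zf u i := by
  simp only [E]
  rw [← mul_assoc, ← h.uc, mul_assoc, Finset.mul_sum]
  congr 1
  refine Fintype.sum_equiv (Equiv.addLeft 1) _ _ fun k => ?_
  rw [Equiv.coe_addLeft, h.badd, mul_add, mul_one, h.zadd, mul_assoc (Bf 1), ← mul_assoc (Zf i), h.comm]
  simp only [mul_assoc]

end

end Cfsg.Agent.H242.RC
end

-- part: H242/RC/RatStr
section
/-!
# S4191 (team RC), large orbits of `p`-groups: the structure theorem (helper242)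

`struct` : a `p`-group (`p` odd) acting faithfully on an abelian group of order prime to `p` acts fixed point freely, or has
an equivariant idempotent, or permutes `p` blocks cyclically.
-/

set_option autoImplicit false
set_option linter.unusedSectionVars false

namespace Cfsg.Agent.H242.RC

open Finset

section

variable {P V : Type*} [Group P] [AddCommGroup V] [DistribMulAction P V]

/-- the representation as endomorphisms -/
def rh : P →* AddMonoid.End V := DistribMulAction.toAddMonoidEnd P V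

theorem rh_apply (g : P) (v : V) : (rh g : AddMonoid.End V) v = g • v := rfl

theorem end_mul (a b : AddMonoid.End V) (v : V) : (a * b) v = a (b v) := rfl

theorem end_sum {ι : Type*} (s : Finset ι) (a : ι → AddMonoid.End V) (v : V) : (∑ i ∈ s, a i) v = ∑ i ∈ s, a i v := by
  classical
  induction s using Finset.induction_on with
  | empty => rfl
  | insert i s hi ih =>
    rw [Finset.sum_insert hi, Finset.sum_insert hi, ← ih]
    rfl

theorem rh_eq_one {g : P} (hf : ∀ g : P, (∀ v : V, g • v = v) → g = 1) (h : (rh g : AddMonoid.End V) = 1) : g = 1 := by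
  apply hf
  intro v
  rw [← rh_apply, h]
  rfl

variable {p : ℕ} [hp : Fact p.Prime]

theorem exists_u [Finite V] (hV : ¬ p ∣ Nat.card V) : ∃ m : ℕ, ((m : AddMonoid.End V)) * (p : AddMonoid.End V) = 1 := by
  have hcop : Nat.Coprime p (Nat.card V) := (Nat.Prime.coprime_iff_not_dvd hp.out).2 hV
  obtain ⟨a, b, hab⟩ := (Nat.isCoprime_iff_coprime.2 hcop)
  -- `a p + b |V| = 1`
  refine ⟨(a % (Nat.card V : ℤ)).toNat, ?_⟩
  have hpos : (0 : ℤ) < Nat.card V := by exact_mod_cast Nat.card_pos
  have h0 : 0 ≤ a % (Nat.card V : ℤ) := Int.emod_nonneg _ hpos.ne'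
  ext v
  rw [end_mul, AddMonoid.End.natCast_apply, AddMonoid.End.natCast_apply]
  have hz : ∀ w : V, (Nat.card V : ℤ) • w = 0 := by
    intro w
    rw [natCast_zsmul, card_nsmul_eq_zero']
  have h1 : ((a % (Nat.card V : ℤ)).toNat : ℤ) = a - (Nat.card V : ℤ) * (a / (Nat.card V : ℤ)) := by
    rw [Int.toNat_of_nonneg h0, Int.emod_def]
  rw [← natCast_zsmul (p • v), ← natCast_zsmul v p, h1, sub_smul, mul_smul, hz, sub_zero, smul_smul]
  have h2 : a * (p : ℤ) = 1 - b * (Nat.card V : ℤ) := by linarith only [hab]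
  rw [h2, sub_smul, one_smul, mul_smul, hz, smul_zero, sub_zero]
  rfl

theorem pow_val_add {z : P} (hz : z ^ p = 1) (k l : ZMod p) : z ^ (k + l).val = z ^ k.val * z ^ l.val := by
  rw [ZMod.val_add, ← pow_add]
  conv_rhs => rw [← Nat.div_add_mod (k.val + l.val) p, pow_add, pow_mul, hz, one_pow, one_mul]

theorem pow_natCast_val {z : P} (hz : z ^ p = 1) (n : ℕ) : z ^ (n : ZMod p).val = z ^ n := by
  rw [ZMod.val_natCast]
  conv_rhs => rw [← Nat.div_add_mod n p, pow_add, pow_mul, hz, one_pow, one_mul]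

theorem pow_val_mul {z : P} (hz : z ^ p = 1) (k l : ZMod p) : z ^ (k * l).val = z ^ (k.val * l.val) := by
  rw [← pow_natCast_val hz (k.val * l.val), Nat.cast_mul, ZMod.natCast_zmod_val, ZMod.natCast_zmod_val]

/-- a central element of order `p`: fixed point free, or an equivariant idempotent -/
theorem split [Finite V] (hV : ¬ p ∣ Nat.card V) (hf : ∀ g : P, (∀ v : V, g • v = v) → g = 1) {z : P} (hz : z ^ p = 1)
    (hz1 : z ≠ 1) (hc : ∀ g : P, g * z = z * g) :
    (∑ k : ZMod p, (rh (z ^ k.val) : AddMonoid.End V) = 0) ∨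
      ∃ e : AddMonoid.End V, e * e = e ∧ e ≠ 0 ∧ e ≠ 1 ∧ ∀ g : P, rh g * e = e * rh g := by
  obtain ⟨m, hm⟩ := exists_u (V := V) hV
  set N : AddMonoid.End V := ∑ k : ZMod p, rh (z ^ k.val) with hN
  have hmc : ∀ x : AddMonoid.End V, (m : AddMonoid.End V) * x = x * m := fun x => (Nat.cast_commute m x).eq
  have hpc : ∀ x : AddMonoid.End V, (p : AddMonoid.End V) * x = x * p := fun x => (Nat.cast_commute p x).eq
  have h1 : ∀ k : ZMod p, rh (z ^ k.val) * N = N := by
    intro k
    rw [hN, Finset.mul_sum]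
    refine Fintype.sum_equiv (Equiv.addLeft k) _ _ fun l => ?_
    rw [Equiv.coe_addLeft, pow_val_add hz, map_mul]
  have h2 : N * N = p * N := by
    nth_rewrite 1 [hN]
    rw [Finset.sum_mul, Finset.sum_congr rfl fun k _ => h1 k, Finset.sum_const, Finset.card_univ, ZMod.card,
      nsmul_eq_mul]
  have h3 : ∀ g : P, rh g * N = N * rh g := by
    intro g
    rw [hN, Finset.mul_sum, Finset.sum_mul]
    refine Finset.sum_congr rfl fun k _ => ?_
    rw [← map_mul, ← map_mul]
    congr 1
    exact ((show Commute g z from hc g).pow_right _).eq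
  by_cases hN0 : N = 0
  · exact Or.inl hN0
  right
  have hpm : (p : AddMonoid.End V) * m = 1 := by rw [← hmc, hm]
  refine ⟨m * N, ?_, ?_, ?_, ?_⟩
  · calc (m : AddMonoid.End V) * N * (m * N) = m * (N * m) * N := by simp only [mul_assoc]
      _ = m * (m * N) * N := by rw [hmc N]
      _ = m * (m * (N * N)) := by simp only [mul_assoc]
      _ = m * (m * (p * N)) := by rw [h2]
      _ = m * ((m * p) * N) := by simp only [mul_assoc]
      _ = m * N := by rw [hm, one_mul]
  · intro h
    apply hN0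
    calc N = (p : AddMonoid.End V) * m * N := by rw [hpm, one_mul]
      _ = 0 := by rw [mul_assoc, h, mul_zero]
  · intro h
    apply hz1
    apply rh_eq_one (V := V) hf
    have h4 : N = (p : AddMonoid.End V) := by
      calc N = (p : AddMonoid.End V) * m * N := by rw [hpm, one_mul]
        _ = p := by rw [mul_assoc, h, mul_one]
    have h5 := h1 1
    rw [ZMod.val_one, pow_one, h4] at h5
    calc (rh z : AddMonoid.End V) = rh z * ((p : AddMonoid.End V) * (m : AddMonoid.End V)) := by rw [hpm, mul_one]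
      _ = 1 := by rw [← mul_assoc, h5, hpm]
  · intro g
    rw [← mul_assoc, ← hmc, mul_assoc, h3, ← mul_assoc]

/-- cyclic groups -/
theorem fpf_of_cyclic [Finite P] (hP : IsPGroup p P) (hc : IsCyclic P) (hV : ¬ p ∣ Nat.card V) [Finite V] {z : P}
    (hz : z ^ p = 1) (h0 : ∑ k : ZMod p, (rh (z ^ k.val) : AddMonoid.End V) = 0) (g : P) (v : V) (hv : v ≠ 0)
    (hgv : g • v = v) : g = 1 := by
  classical
  by_contra hg
  obtain ⟨k, hk⟩ := hP g
  -- a power of `g` of order `p`
  obtain ⟨g', hg', hg'o⟩ : ∃ g' ∈ Subgroup.zpowers g, orderOf g' = p := by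
    obtain ⟨n, hn⟩ := (IsPGroup.iff_orderOf.1 hP) g
    have hn0 : n ≠ 0 := by
      rintro rfl
      rw [pow_zero, orderOf_eq_one_iff] at hn
      exact hg hn
    refine ⟨g ^ p ^ (n - 1), Subgroup.pow_mem _ (Subgroup.mem_zpowers g) _, ?_⟩
    rw [orderOf_pow, hn, Nat.gcd_eq_right (pow_dvd_pow p (Nat.sub_le n 1)), Nat.pow_div (Nat.sub_le n 1) hp.out.pos]
    have : n - (n - 1) = 1 := by omega
    rw [this, pow_one]
  have : Fintype P := Fintype.ofFinite P
  have h1 : z ∈ Subgroup.zpowers g' := by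
    have h2 : (Finset.univ.filter fun a : P => a ∈ Subgroup.zpowers g') ⊆
        Finset.univ.filter fun a : P => a ^ p = 1 := by
      intro a ha
      rw [Finset.mem_filter] at ha ⊢
      refine ⟨ha.1, ?_⟩
      obtain ⟨j, rfl⟩ := ha.2
      show (g' ^ j) ^ p = 1
      rw [← zpow_natCast, ← zpow_mul, mul_comm, zpow_mul, zpow_natCast, ← hg'o, pow_orderOf_eq_one, one_zpow]
    have h3 : (Finset.univ.filter fun a : P => a ∈ Subgroup.zpowers g').card = p := by
      rw [← Fintype.card_subtype, ← Nat.card_eq_fintype_card]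
      exact (Nat.card_zpowers g').trans hg'o
    have h4 := IsCyclic.card_pow_eq_one_le (α := P) hp.out.pos
    have h5 := Finset.eq_of_subset_of_card_le h2 (by rw [h3]; exact h4)
    have h6 : z ∈ Finset.univ.filter fun a : P => a ^ p = 1 := by
      rw [Finset.mem_filter]
      exact ⟨Finset.mem_univ _, hz⟩
    rw [← h5, Finset.mem_filter] at h6
    exact h6.2
  have hst : ∀ x ∈ Subgroup.zpowers g, x • v = v := by
    intro x hx
    have h2 : Subgroup.zpowers g ≤ MulAction.stabilizer P v := Subgroup.zpowers_le.2 hgv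
    exact h2 hx
  have hzv : z • v = v := hst z (Subgroup.zpowers_le.2 hg' h1)
  have h2 : (∑ k : ZMod p, (rh (z ^ k.val) : AddMonoid.End V)) v = (p : ℕ) • v := by
    rw [end_sum]
    have h3 : ∀ k : ZMod p, (rh (z ^ k.val) : AddMonoid.End V) v = v := by
      intro k
      rw [rh_apply]
      have h2 : Subgroup.zpowers z ≤ MulAction.stabilizer P v := Subgroup.zpowers_le.2 hzv
      exact h2 (Subgroup.pow_mem _ (Subgroup.mem_zpowers z) _)
    rw [Finset.sum_congr rfl fun k _ => h3 k, Finset.sum_const, Finset.card_univ, ZMod.card]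
  rw [h0] at h2
  have h3 : (p : ℕ) • v = 0 := h2.symm
  apply hv
  have h4 : addOrderOf v ∣ p := addOrderOf_dvd_of_nsmul_eq_zero h3
  have h5 : addOrderOf v ∣ Nat.card V := addOrderOf_dvd_natCard v
  rcases (Nat.dvd_prime hp.out).1 h4 with h6 | h6
  · exact AddMonoid.addOrderOf_eq_one_iff.1 h6
  · rw [h6] at h5
    exact absurd h5 hV

/-- **Structure.** -/
theorem struct [Finite P] [Finite V] (hp2 : p ≠ 2) (hP : IsPGroup p P) (hV : ¬ p ∣ Nat.card V)
    (hf : ∀ g : P, (∀ v : V, g • v = v) → g = 1) :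
    (∀ (g : P) (v : V), v ≠ 0 → g • v = v → g = 1) ∨
    (∃ e : AddMonoid.End V, e * e = e ∧ e ≠ 0 ∧ e ≠ 1 ∧ ∀ g : P, rh g * e = e * rh g) ∨
    (∃ (c : P → ZMod p) (e : ZMod p → AddMonoid.End V), (∀ g h, c (g * h) = c g + c h) ∧ (∃ t, c t = 1) ∧
      ∑ i, e i = 1 ∧ (∀ i j, e i * e j = if i = j then e i else 0) ∧
      ∀ (g : P) (i : ZMod p), rh g * e i = e (i + c g) * rh g) := by
  classical
  by_cases hcyc : IsCyclic P
  · -- cyclic
    rcases subsingleton_or_nontrivial P with hs | hnt
    · exact Or.inl fun g _ _ _ => Subsingleton.elim _ _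
    obtain ⟨z, hz⟩ := exists_prime_orderOf_dvd_card' (G := P) p (by
      obtain ⟨n, hn⟩ := hP.exists_card_eq
      have h1 : 1 < Nat.card P := Finite.one_lt_card
      have hn0 : n ≠ 0 := by
        rintro rfl
        rw [hn, pow_zero] at h1
        exact lt_irrefl _ h1
      rw [hn]
      exact dvd_pow_self p hn0)
    have hzp : z ^ p = 1 := by rw [← hz]; exact pow_orderOf_eq_one z
    have hz1 : z ≠ 1 := by
      rintro rfl
      rw [orderOf_one] at hz
      exact hp.out.one_lt.ne hz
    have hcomm : ∀ g : P, g * z = z * g := by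
      intro g
      have := IsCyclic.isMulCommutative (α := P)
      exact this.is_comm.comm g z
    rcases split hV hf hzp hz1 hcomm with h | h
    · exact Or.inl fun g v hv hgv => fpf_of_cyclic hP hcyc hV hzp h g v hv hgv
    · exact Or.inr (Or.inl h)
  obtain ⟨A, hA, hAe, hAc⟩ := S0126.result hp2 hP hcyc
  have hAnc : ¬ IsCyclic A := by
    intro h
    obtain ⟨a, ha⟩ := h.exists_generator
    have h1 : orderOf a = Nat.card A := orderOf_eq_card_of_forall_mem_zpowers ha
    have h2 : a ^ p = 1 := Subtype.ext (hAe.2 a a.2)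
    have h3 : orderOf a ∣ p := orderOf_dvd_of_pow_eq_one h2
    rw [h1, hAc] at h3
    have h4 := Nat.le_of_dvd hp.out.pos h3
    have h5 := hp.out.one_lt
    nlinarith only [h4, h5]
  obtain ⟨z, b, hzc, hzo, hbp, hbz, hconj⟩ := H351.HT.exists_config hP A hAe.1 hAnc
  have hzp : z ^ p = 1 := by rw [← hzo]; exact pow_orderOf_eq_one z
  have hz1 : z ≠ 1 := by
    rintro rfl
    rw [orderOf_one] at hzo
    exact hp.out.one_lt.ne hzo
  rcases split hV hf hzp hz1 hzc with h0 | h
  swap
  · exact Or.inr (Or.inl h)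
  right
  obtain ⟨m, hm⟩ := exists_u (V := V) hV
  have hzb : ∀ k l : ℕ, z ^ k * b ^ l = b ^ l * z ^ k := fun k l =>
    ((show Commute b z from hzc b).symm.pow_pow k l).eq
  have hFr : Fr (fun k : ZMod p => (rh (b ^ k.val) : AddMonoid.End V)) (fun k : ZMod p => rh (z ^ k.val)) (m : AddMonoid.End V) :=
    { up := hm
      uc := fun x => (Nat.cast_commute m x).eq
      b0 := by rw [ZMod.val_zero, pow_zero, map_one]
      z0 := by rw [ZMod.val_zero, pow_zero, map_one]
      badd := fun k l => by rw [pow_val_add hbp, map_mul]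
      zadd := fun k l => by rw [pow_val_add hzp, map_mul]
      comm := fun k l => by rw [← map_mul, ← map_mul, hzb]
      zsum := h0 }
  choose c' hc' using hconj
  set c : P → ZMod p := fun g => (c' g : ZMod p) with hcdef
  have hc : ∀ g : P, g * b * g⁻¹ = b * z ^ (c g).val := by
    intro g
    rw [hcdef, pow_natCast_val hzp]
    exact hc' g
  have hzinj : ∀ k l : ZMod p, z ^ k.val = z ^ l.val → k = l := by
    intro k l h
    apply ZMod.val_injective
    exact pow_injOn_Iio_orderOf (by rw [Set.mem_Iio, hzo]; exact ZMod.val_lt k)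
      (by rw [Set.mem_Iio, hzo]; exact ZMod.val_lt l) h
  have hcadd : ∀ g h : P, c (g * h) = c g + c h := by
    intro g h
    apply hzinj
    have h1 : b * z ^ (c (g * h)).val = b * z ^ (c g + c h).val := by
      rw [← hc, pow_val_add hzp]
      calc g * h * b * (g * h)⁻¹ = g * (h * b * h⁻¹) * g⁻¹ := by group
        _ = g * (b * z ^ (c h).val) * g⁻¹ := by rw [hc]
        _ = g * b * g⁻¹ * (g * z ^ (c h).val * g⁻¹) := by group
        _ = g * b * g⁻¹ * z ^ (c h).val := by
            rw [((show Commute g z from hzc g).pow_right _).eq, mul_inv_cancel_right]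
        _ = b * (z ^ (c g).val * z ^ (c h).val) := by rw [hc, mul_assoc]
    exact mul_left_cancel h1
  have hequiv : ∀ (g : P) (i : ZMod p), rh g * E (fun k : ZMod p => (rh (b ^ k.val) : AddMonoid.End V))
      (fun k : ZMod p => rh (z ^ k.val)) (m : AddMonoid.End V) i =
      E (fun k : ZMod p => (rh (b ^ k.val) : AddMonoid.End V)) (fun k : ZMod p => rh (z ^ k.val))
        (m : AddMonoid.End V) (i + c g) * rh g := by
    intro g i
    refine hFr.conj_E (fun k => ?_) (fun k => ?_) i
    · show rh g * rh (z ^ k.val) = rh (z ^ k.val) * rh g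
      rw [← map_mul, ← map_mul, ((show Commute g z from hzc g).pow_right _).eq]
    · show rh g * rh (b ^ k.val) = rh (b ^ k.val) * rh (z ^ (c g * k).val) * rh g
      rw [← map_mul, ← map_mul, ← map_mul]
      congr 1
      have h1 : g * b ^ k.val * g⁻¹ = b ^ k.val * z ^ (c g * k).val := by
        rw [← conj_pow, hc, ((show Commute b z from hzc b).pow_right _).mul_pow,
          pow_val_mul hzp, pow_mul]
      rw [← h1, inv_mul_cancel_right]
  by_cases hall : ∀ g, c g = 0
  · -- `b` is central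
    left
    by_contra hcon
    push Not at hcon
    have h1 : ∀ i, E (fun k : ZMod p => (rh (b ^ k.val) : AddMonoid.End V)) (fun k : ZMod p => rh (z ^ k.val))
        (m : AddMonoid.End V) i = 0 ∨ E (fun k : ZMod p => (rh (b ^ k.val) : AddMonoid.End V))
        (fun k : ZMod p => rh (z ^ k.val)) (m : AddMonoid.End V) i = 1 := by
      intro i
      by_contra hne
      push Not at hne
      obtain ⟨g, hg⟩ := hcon _ (by rw [hFr.E_mul, if_pos rfl]) hne.1 hne.2
      apply hg
      rw [hequiv g i, hall g, add_zero]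
    by_cases hE0 : ∀ i, E (fun k : ZMod p => (rh (b ^ k.val) : AddMonoid.End V)) (fun k : ZMod p => rh (z ^ k.val))
        (m : AddMonoid.End V) i = 0
    · have h2 := hFr.sum_E
      rw [Finset.sum_congr rfl fun i _ => hE0 i, Finset.sum_const_zero] at h2
      apply hz1
      apply hf
      intro v
      have h3 : v = 0 := by
        have := congrArg (fun e : AddMonoid.End V => e v) h2
        exact this.symm
      rw [h3, smul_zero]
    · push Not at hE0
      obtain ⟨i, hi⟩ := hE0
      have h2 := (h1 i).resolve_left hi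
      have h3 := hFr.bz_E i
      rw [h2, mul_one] at h3
      have h4 : (rh (b * z ^ i.val) : AddMonoid.End V) = 1 := by
        rw [map_mul]
        rw [ZMod.val_one, pow_one] at h3
        exact h3
      have h5 := rh_eq_one (V := V) hf h4
      apply hbz
      rw [mul_eq_one_iff_eq_inv.1 h5]
      exact Subgroup.inv_mem _ (Subgroup.pow_mem _ (Subgroup.mem_zpowers z) _)
  · right
    push Not at hall
    obtain ⟨g, hg⟩ := hall
    refine ⟨c, _, hcadd, ?_, hFr.sum_E, hFr.E_mul, hequiv⟩
    have hcpow : ∀ n : ℕ, c (g ^ n) = n * c g := by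
      intro n
      induction n with
      | zero =>
        have h1 := hcadd 1 1
        rw [mul_one] at h1
        rw [pow_zero, Nat.cast_zero, zero_mul]
        exact left_eq_add.1 h1
      | succ n ih => rw [pow_succ, hcadd, ih, Nat.cast_succ]; ring
    exact ⟨g ^ ((c g)⁻¹).val, by rw [hcpow, ZMod.natCast_zmod_val, inv_mul_cancel₀ hg]⟩

end

end Cfsg.Agent.H242.RC
end

-- part: H242/RC/RatFam
section
/-!
# S4191 (team RC), large orbits of `p`-groups: families (helper242)

* `Cl1`, `Cl2` : the two claims (for possibly non faithful actions), `cl1_of_im`, `cl2_of_im`;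
* `int1` : `Cl1` for the image of an idempotent, in terms of the ambient group;
* `fam` : the family lemma.
-/

set_option autoImplicit false
set_option linter.unusedSectionVars false

namespace Cfsg.Agent.H242.RC

open Finset

universe u

section

variable {P V : Type*} [Group P] [AddCommGroup V] [DistribMulAction P V]

variable (P V) in
/-- the kernel -/
def kr : Subgroup P where
  carrier := {g | ∀ v : V, g • v = v}
  one_mem' := fun v => one_smul _ v
  mul_mem' := fun {a b} ha hb v => by rw [mul_smul, hb, ha]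
  inv_mem' := fun {a} ha v => by rw [inv_smul_eq_iff, ha]

theorem mem_kr {g : P} : g ∈ kr P V ↔ ∀ v : V, g • v = v := Iff.rfl

/-- the kernel on the image of `e` -/
def krn (e : AddMonoid.End V) : Subgroup P where
  carrier := {g | ∀ v : V, g • e v = e v}
  one_mem' := fun v => one_smul _ _
  mul_mem' := fun {a b} ha hb v => by rw [mul_smul, hb, ha]
  inv_mem' := fun {a} ha v => by rw [inv_smul_eq_iff, ha]

theorem mem_krn {e : AddMonoid.End V} {g : P} : g ∈ krn e ↔ ∀ v : V, g • e v = e v := Iff.rfl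

/-- restriction of an action to a subgroup -/
abbrev subAct (X : AddSubgroup V) (hX : ∀ g : P, ∀ x ∈ X, g • x ∈ X) : DistribMulAction P X where
  smul g x := ⟨g • x.1, hX g x.1 x.2⟩
  one_smul _ := Subtype.ext (one_smul _ _)
  mul_smul _ _ _ := Subtype.ext (mul_smul _ _ _)
  smul_zero _ := Subtype.ext (smul_zero _)
  smul_add _ _ _ := Subtype.ext (smul_add _ _ _)

/-- Claim 1 -/
def Cl1 (p : ℕ) (P V : Type*) [Group P] [AddCommGroup V] [DistribMulAction P V] : Prop :=
  (∀ (g : P) (v : V), g • v = v) ∨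
    ∃ v : V, (p - 1) * (kr P V).index.factorization p + 1 ≤ p * (MulAction.stabilizer P v).index.factorization p

/-- Claim 2 -/
def Cl2 (P V : Type*) [Group P] [AddCommGroup V] [DistribMulAction P V] : Prop :=
  Nontrivial V → ∃ v v' : V, (∀ g : P, g • v = v → ∀ w : V, g • w = w) ∧
    (∀ g : P, g • v' = v' → ∀ w : V, g • w = w) ∧ ∀ g : P, g • v ≠ v'

variable (P V) in
/-- the image in the symmetric group -/
abbrev Im : Subgroup (Equiv.Perm V) := (MulAction.toPermHom P V).range

variable (P V) in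
/-- the projection -/
def toIm : P →* ↥(Im P V) := (MulAction.toPermHom P V).rangeRestrict

theorem toIm_surjective : Function.Surjective (toIm P V) := MonoidHom.rangeRestrict_surjective _

/-- the action of the image -/
instance imAct : DistribMulAction ↥(Im P V) V where
  smul_zero g := by
    obtain ⟨g, rfl⟩ := toIm_surjective g
    exact smul_zero g
  smul_add g := by
    obtain ⟨g, rfl⟩ := toIm_surjective g
    exact smul_add g

theorem cl1_of_im {p : ℕ} (h : Cl1 p ↥(Im P V) V) : Cl1 p P V := by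
  rcases h with h | ⟨v, hv⟩
  · exact Or.inl fun g v => h (toIm P V g) v
  · right
    refine ⟨v, ?_⟩
    have h1 : kr P V = (kr ↥(Im P V) V).comap (toIm P V) := rfl
    have h2 : MulAction.stabilizer P v = (MulAction.stabilizer ↥(Im P V) v).comap (toIm P V) := rfl
    rw [h1, h2, Subgroup.index_comap_of_surjective _ toIm_surjective, Subgroup.index_comap_of_surjective _ toIm_surjective]
    exact hv

theorem cl2_of_im (h : Cl2 ↥(Im P V) V) : Cl2 P V := by
  intro hV
  obtain ⟨v, v', h1, h2, h3⟩ := h hV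
  exact ⟨v, v', fun g => h1 (toIm P V g), fun g => h2 (toIm P V g), fun g => h3 (toIm P V g)⟩

theorem faithful_im (g : ↥(Im P V)) (h : ∀ v : V, g • v = v) : g = 1 := by
  apply Subtype.ext
  apply Equiv.ext
  exact h

theorem isPGroup_im {p : ℕ} (hP : IsPGroup p P) : IsPGroup p ↥(Im P V) := hP.of_surjective _ toIm_surjective

/-! ### valuations of indices -/

variable {p : ℕ} [hp : Fact p.Prime]

theorem relIndex_pow [Finite P] (hP : IsPGroup p P) (T K : Subgroup P) :
    T.relIndex K = p ^ (T.relIndex K).factorization p := by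
  obtain ⟨n, hn⟩ := (hP.to_subgroup K).index (T.subgroupOf K)
  have h1 : T.relIndex K = p ^ n := hn
  rw [h1, hp.out.factorization_pow, Finsupp.single_eq_same]

theorem nu_mono [Finite P] (hP : IsPGroup p P) {T K T' K' : Subgroup P} (h : T.relIndex K ≤ T'.relIndex K') :
    (T.relIndex K).factorization p ≤ (T'.relIndex K').factorization p := by
  rw [relIndex_pow hP T K, relIndex_pow hP T' K'] at h
  exact (Nat.pow_le_pow_iff_right hp.out.one_lt).1 h

theorem relIndex_ne_zero [Finite P] (T K : Subgroup P) : T.relIndex K ≠ 0 := Subgroup.index_ne_zero_of_finite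

theorem nu_inf [Finite P] (A B H : Subgroup P) :
    ((A ⊓ B).relIndex H).factorization p = (A.relIndex (B ⊓ H)).factorization p + (B.relIndex H).factorization p := by
  rw [← Subgroup.relIndex_inf_mul_relIndex, Nat.factorization_mul (relIndex_ne_zero _ _) (relIndex_ne_zero _ _)]
  rfl

theorem nu_right [Finite P] (hP : IsPGroup p P) (T : Subgroup P) {K K' : Subgroup P} (h : K ≤ K') :
    (T.relIndex K).factorization p ≤ (T.relIndex K').factorization p :=
  nu_mono hP (Subgroup.relIndex_le_of_le_right h (relIndex_ne_zero _ _))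

/-! ### the family lemma -/

/-- `Cl1` on the image of `e`, in terms of the ambient group -/
def Int1 (p : ℕ) {P V : Type*} [Group P] [AddCommGroup V] [DistribMulAction P V] (H : Subgroup P)
    (e : AddMonoid.End V) : Prop :=
  (∀ g ∈ H, ∀ v : V, g • e v = e v) ∨ ∃ w : V, e w = w ∧
    (p - 1) * ((krn e : Subgroup P).relIndex H).factorization p + 1 ≤
      p * ((MulAction.stabilizer P w).relIndex H).factorization p

theorem fam [Finite P] (hP : IsPGroup p P) {ι : Type*} [DecidableEq ι] (H₀ : Subgroup P) (e : ι → AddMonoid.End V)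
    (hint : ∀ (H : Subgroup P) (i : ι), H ≤ H₀ → Int1 p H (e i)) (s : Finset ι) :
    ∃ (w : ι → V) (r : Finset ι), (∀ i, e i (w i) = w i) ∧ (∀ i, i ∈ r ↔ i ∈ s ∧ w i ≠ 0) ∧
      (p - 1) * ((⨅ i ∈ s, (krn (e i) : Subgroup P)).relIndex H₀).factorization p + r.card ≤
        p * ((⨅ i ∈ s, MulAction.stabilizer P (w i)).relIndex H₀).factorization p := by
  classical
  have hp0 := hp.out.pos
  induction s using Finset.induction_on with
  | empty =>
    refine ⟨fun _ => 0, ∅, fun i => map_zero _, fun i => by simp, ?_⟩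
    simp only [_root_.Finset.notMem_empty, _root_.not_false_eq_true, _root_.iInf_neg, _root_.iInf_top, _root_.Subgroup.relIndex_top_left, _root_.Nat.factorization_one, _root_.Finsupp.coe_zero, _root_.Pi.zero_apply, _root_.MulZeroClass.mul_zero, _root_.Finset.card_empty, _root_.add_zero, _root_.Std.le_refl]
  | insert j s hj ih =>
    obtain ⟨w, r, hw, hr, h1⟩ := ih
    set A : Subgroup P := ⨅ i ∈ s, (krn (e i) : Subgroup P) with hA
    set S : Subgroup P := ⨅ i ∈ s, MulAction.stabilizer P (w i) with hS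
    have hAS : A ≤ S := by
      rw [hA, hS]
      refine iInf₂_mono fun i hi g hg => ?_
      rw [MulAction.mem_stabilizer_iff, ← hw i]
      exact hg _
    rcases hint (A ⊓ H₀) j inf_le_right with h2 | ⟨u, hu, h2⟩
    · -- trivial action
      refine ⟨Function.update w j 0, r, ?_, ?_, ?_⟩
      · intro i
        rcases eq_or_ne i j with rfl | hij
        · rw [Function.update_self, map_zero]
        · rw [Function.update_of_ne hij, hw]
      · intro i
        rw [hr]
        rcases eq_or_ne i j with rfl | hij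
        · simp [hj]
        · rw [Function.update_of_ne hij, Finset.mem_insert]
          simp [hij]
      · have e1 : (⨅ i ∈ insert j s, (krn (e i) : Subgroup P)) = krn (e j) ⊓ A := by
          rw [hA, Finset.iInf_insert]
        have e2 : (⨅ i ∈ insert j s, MulAction.stabilizer P (Function.update w j 0 i)) = S := by
          rw [Finset.iInf_insert, Function.update_self]
          have h3 : MulAction.stabilizer P (0 : V) = ⊤ := by
            ext g
            simp
          rw [h3, top_inf_eq, hS]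
          refine iInf_congr fun i => iInf_congr fun hi => ?_
          rw [Function.update_of_ne]
          rintro rfl
          exact hj hi
        have h4 : (krn (e j) : Subgroup P).relIndex (A ⊓ H₀) = 1 := Subgroup.relIndex_eq_one.2 fun g hg v => h2 g hg v
        rw [e1, e2, nu_inf, h4, Nat.factorization_one, Finsupp.zero_apply, zero_add]
        exact h1
    · -- nontrivial action
      have hu0 : u ≠ 0 := by
        rintro rfl
        have h3 : MulAction.stabilizer P (0 : V) = ⊤ := by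
          ext g
          simp
        rw [h3, Subgroup.relIndex_top_left, Nat.factorization_one, Finsupp.zero_apply, mul_zero] at h2
        omega
      refine ⟨Function.update w j u, insert j r, ?_, ?_, ?_⟩
      · intro i
        rcases eq_or_ne i j with rfl | hij
        · rw [Function.update_self, hu]
        · rw [Function.update_of_ne hij, hw]
      · intro i
        rw [Finset.mem_insert, hr, Finset.mem_insert]
        rcases eq_or_ne i j with rfl | hij
        · simp [hu0]
        · rw [Function.update_of_ne hij]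
          simp [hij]
      · have e1 : (⨅ i ∈ insert j s, (krn (e i) : Subgroup P)) = krn (e j) ⊓ A := by
          rw [hA, Finset.iInf_insert]
        have e2 : (⨅ i ∈ insert j s, MulAction.stabilizer P (Function.update w j u i)) =
            MulAction.stabilizer P u ⊓ S := by
          rw [Finset.iInf_insert, Function.update_self, hS]
          congr 1
          refine iInf_congr fun i => iInf_congr fun hi => ?_
          rw [Function.update_of_ne]
          rintro rfl
          exact hj hi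
        have hjr : j ∉ r := fun h => hj ((hr j).1 h).1
        have h5 : ((MulAction.stabilizer P u).relIndex (A ⊓ H₀)).factorization p ≤
            ((MulAction.stabilizer P u).relIndex (S ⊓ H₀)).factorization p :=
          nu_right hP _ (inf_le_inf_right _ hAS)
        rw [e1, e2, nu_inf, nu_inf, Finset.card_insert_of_notMem hjr, mul_add, mul_add]
        have h6 := Nat.mul_le_mul_left p h5
        omega

end

/-- the abstract claim gives the internal one -/
theorem int1_of {P V : Type u} [Group P] [AddCommGroup V] [DistribMulAction P V] {p : ℕ} (H : Subgroup P)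
    (e : AddMonoid.End V) (he : e * e = e) (hc : ∀ g ∈ H, rh g * e = e * rh g)
    (h : ∀ _ : DistribMulAction ↥H ↥(AddMonoidHom.range (e : V →+ V)), Cl1 p ↥H ↥(AddMonoidHom.range (e : V →+ V))) :
    Int1 p H e := by
  have hX : ∀ g : ↥H, ∀ x ∈ AddMonoidHom.range (e : V →+ V), g • x ∈ AddMonoidHom.range (e : V →+ V) := by
    rintro g _ ⟨y, rfl⟩
    refine ⟨(g : P) • y, ?_⟩
    have h1 := congrArg (fun a : AddMonoid.End V => a y) (hc g g.2)
    exact h1.symm
  have hfix : ∀ x ∈ AddMonoidHom.range (e : V →+ V), e x = x := by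
    rintro _ ⟨y, rfl⟩
    have h1 := congrArg (fun a : AddMonoid.End V => a y) he
    exact h1
  let act := subAct (AddMonoidHom.range (e : V →+ V)) hX
  rcases h act with h1 | ⟨⟨v, hv⟩, h1⟩
  · left
    intro g hg v
    have h2 := h1 ⟨g, hg⟩ ⟨e v, v, rfl⟩
    exact congrArg Subtype.val h2
  · right
    refine ⟨v, hfix v hv, ?_⟩
    have e1 : kr ↥H ↥(AddMonoidHom.range (e : V →+ V)) = (krn e : Subgroup P).subgroupOf H := by
      ext g
      rw [mem_kr, Subgroup.mem_subgroupOf, mem_krn]
      constructor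
      · intro h2 v
        exact congrArg Subtype.val (h2 ⟨e v, v, rfl⟩)
      · rintro h2 ⟨_, y, rfl⟩
        exact Subtype.ext (h2 y)
    have e2 : MulAction.stabilizer ↥H (⟨v, hv⟩ : ↥(AddMonoidHom.range (e : V →+ V))) =
        (MulAction.stabilizer P v).subgroupOf H := by
      ext g
      rw [MulAction.mem_stabilizer_iff, Subgroup.mem_subgroupOf, MulAction.mem_stabilizer_iff]
      exact Subtype.ext_iff
    rw [e1, e2] at h1
    exact h1

end Cfsg.Agent.H242.RC
end

-- part: H242/RC/Rat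
section
/-!
# S4191 (team RC), large orbits of `p`-groups, `p` odd (helper242)

* `rat_three : Rat 3 1 3`, `rat_five : Rat 5 0 1`, `rat_ge : Rat p 1 7` (`p ≥ 7`).
-/

set_option autoImplicit false
set_option linter.unusedSectionVars false

namespace Cfsg.Agent.H242.RC

open Finset

universe u

section Family

variable {P V : Type*} [Group P] [AddCommGroup V] [DistribMulAction P V]

/-- orthogonal idempotents: `e i (∑ w) = w i` -/
theorem e_sum {ι : Type*} [Fintype ι] [DecidableEq ι] {e : ι → AddMonoid.End V}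
    (hmul : ∀ i j, e i * e j = if i = j then e i else 0) {w : ι → V} (hw : ∀ i, e i (w i) = w i) (i : ι) :
    e i (∑ j, w j) = w i := by
  rw [map_sum, Finset.sum_eq_single i]
  · exact hw i
  · intro j _ hj
    have h1 := congrArg (fun a : AddMonoid.End V => a (w j)) (hmul i j)
    rw [if_neg hj.symm] at h1
    rw [← hw j]
    exact h1
  · intro h
    exact absurd (Finset.mem_univ _) h

theorem sum_e {ι : Type*} [Fintype ι] {e : ι → AddMonoid.End V} (hs : ∑ i, e i = 1) (v : V) : ∑ i, e i v = v := by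
  rw [← end_sum, hs]
  rfl

theorem e_idem {ι : Type*} [DecidableEq ι] {e : ι → AddMonoid.End V}
    (hmul : ∀ i j, e i * e j = if i = j then e i else 0) (i : ι) (v : V) : e i (e i v) = e i v := by
  have h1 := congrArg (fun a : AddMonoid.End V => a v) (hmul i i)
  rw [if_pos rfl] at h1
  exact h1

theorem e_orth {ι : Type*} [DecidableEq ι] {e : ι → AddMonoid.End V}
    (hmul : ∀ i j, e i * e j = if i = j then e i else 0) {i j : ι} (hij : i ≠ j) (v : V) : e i (e j v) = 0 := by
  have h1 := congrArg (fun a : AddMonoid.End V => a v) (hmul i j)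
  rw [if_neg hij] at h1
  exact h1

/-- the intersection of the kernels is trivial -/
theorem iInf_krn {ι : Type*} [Fintype ι] {e : ι → AddMonoid.End V} (hs : ∑ i, e i = 1)
    (hf : ∀ g : P, (∀ v : V, g • v = v) → g = 1) : (⨅ i ∈ (Finset.univ : Finset ι), (krn (e i) : Subgroup P)) = ⊥ := by
  rw [eq_bot_iff]
  intro g hg
  rw [Subgroup.mem_bot]
  apply hf
  intro v
  rw [← sum_e hs v, Finset.smul_sum]
  refine Finset.sum_congr rfl fun i hi => ?_
  have h1 : g ∈ (krn (e i) : Subgroup P) := by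
    rw [Subgroup.mem_iInf] at hg
    have := hg i
    rw [Subgroup.mem_iInf] at this
    exact this hi
  exact h1 v

/-- the images are proper -/
theorem card_range_lt [Finite V] {e : AddMonoid.End V} (he : e * e = e) (h1 : e ≠ 1) :
    Nat.card ↥(AddMonoidHom.range (e : V →+ V)) < Nat.card V := by
  have h2 : AddMonoidHom.range (e : V →+ V) ≠ ⊤ := by
    intro h
    apply h1
    ext v
    have hv : v ∈ AddMonoidHom.range (e : V →+ V) := by rw [h]; trivial
    obtain ⟨w, rfl⟩ := hv
    exact congrArg (fun a : AddMonoid.End V => a w) he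
  have h3 := (AddMonoidHom.range (e : V →+ V)).card_le_card_addGroup
  rcases h3.lt_or_eq with h | h
  · exact h
  · exact absurd (AddSubgroup.eq_top_of_card_eq _ h) h2

end Family

section Cl1

variable {p : ℕ} [hp : Fact p.Prime]

theorem coprime_sub {V : Type*} [AddCommGroup V] (hV : ¬ p ∣ Nat.card V) (X : AddSubgroup V) : ¬ p ∣ Nat.card X :=
  fun h => hV (h.trans (AddSubgroup.card_addSubgroup_dvd_card X))

/-- the induction step, faithful action -/
theorem cl1_step (hp2 : p ≠ 2) {P V : Type u} [Group P] [Finite P] [AddCommGroup V] [Finite V] [DistribMulAction P V]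
    (hP : IsPGroup p P) (hV : ¬ p ∣ Nat.card V) (hf : ∀ g : P, (∀ v : V, g • v = v) → g = 1)
    (IH : ∀ (P' V' : Type u) [Group P'] [Finite P'] [AddCommGroup V'] [Finite V'] [DistribMulAction P' V'],
      Nat.card V' < Nat.card V → IsPGroup p P' → ¬ p ∣ Nat.card V' → Cl1 p P' V') : Cl1 p P V := by
  classical
  have hp1 := hp.out.one_lt
  have hk : kr P V = ⊥ := by
    rw [eq_bot_iff]
    intro g hg
    exact Subgroup.mem_bot.2 (hf g hg)
  rcases subsingleton_or_nontrivial P with hs | hnt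
  · left
    intro g v
    rw [Subsingleton.elim g 1, one_smul]
  have hVnt : ∃ v : V, v ≠ 0 := by
    by_contra hcon
    push Not at hcon
    obtain ⟨g, hg⟩ := exists_ne (1 : P)
    exact hg (hf g fun v => by rw [hcon v, smul_zero])
  right
  rw [hk, Subgroup.index_bot]
  have hcardP : Nat.card P = p ^ (Nat.card P).factorization p := by
    have := relIndex_pow hP (⊥ : Subgroup P) ⊤
    rwa [Subgroup.relIndex_top_right, Subgroup.index_bot] at this
  have hcard : 1 ≤ (Nat.card P).factorization p := by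
    by_contra hlt
    have h0 : (Nat.card P).factorization p = 0 := by omega
    rw [h0, pow_zero] at hcardP
    exact (Finite.one_lt_card (α := P)).ne' hcardP
  have hint : ∀ (H : Subgroup P) (e : AddMonoid.End V), e * e = e → e ≠ 1 → (∀ g ∈ H, rh g * e = e * rh g) →
      Int1 p H e := by
    intro H e he he1 hce
    exact int1_of H e he hce fun _ => IH _ _ (card_range_lt he he1) (hP.to_subgroup H) (coprime_sub hV _)
  rcases struct hp2 hP hV hf with h | ⟨e, he, he0, he1, hce⟩ | ⟨c, e, hcadd, ⟨t, ht⟩, hsum, hmul, hequiv⟩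
  · -- fixed point free
    obtain ⟨v, hv⟩ := hVnt
    refine ⟨v, ?_⟩
    have h1 : MulAction.stabilizer P v = ⊥ := by
      rw [eq_bot_iff]
      intro g hg
      exact Subgroup.mem_bot.2 (h g v hv hg)
    rw [h1, Subgroup.index_bot]
    obtain ⟨m, rfl⟩ : ∃ m, p = m + 1 := ⟨p - 1, by omega⟩
    rw [Nat.add_sub_cancel]
    linarith only [hcard]
  · -- reducible
    let f : Fin 2 → AddMonoid.End V := ![e, 1 - e]
    have hf0 : f 0 = e := rfl
    have hf1 : f 1 = 1 - e := rfl
    have hsum : ∑ i, f i = 1 := by rw [Fin.sum_univ_two, hf0, hf1]; abel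
    have hmul : ∀ i j, f i * f j = if i = j then f i else 0 := by
      have h1 : e * (1 - e) = 0 := by rw [mul_sub, mul_one, he, sub_self]
      have h2 : (1 - e) * e = 0 := by rw [sub_mul, one_mul, he, sub_self]
      have h3 : (1 - e) * (1 - e) = 1 - e := by rw [mul_sub, mul_one, h2, sub_zero]
      intro i j
      fin_cases i <;> fin_cases j
      · show e * e = _
        rw [if_pos rfl]; exact he
      · show e * (1 - e) = _
        rw [if_neg (by decide)]; exact h1
      · show (1 - e) * e = _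
        rw [if_neg (by decide)]; exact h2
      · show (1 - e) * (1 - e) = _
        rw [if_pos rfl]; exact h3
    have hcf : ∀ (g : P) (i : Fin 2), rh g * f i = f i * rh g := by
      intro g i
      fin_cases i
      · exact hce g
      · show rh g * (1 - e) = (1 - e) * rh g
        rw [mul_sub, sub_mul, hce, mul_one, one_mul]
    have hne : ∀ i, f i ≠ 1 := by
      intro i
      fin_cases i
      · exact he1
      · intro h
        apply he0
        have h1 : 1 - e = 1 := h
        rw [sub_eq_self] at h1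
        exact h1
    obtain ⟨w, r, hw, hr, h1⟩ := fam hP (⊤ : Subgroup P) f
      (fun H i _ => hint H (f i) (by rw [hmul, if_pos rfl]) (hne i) fun g _ => hcf g i) Finset.univ
    rw [iInf_krn hsum hf, Subgroup.relIndex_top_right, Subgroup.relIndex_top_right, Subgroup.index_bot] at h1
    refine ⟨∑ i, w i, ?_⟩
    have h2 : MulAction.stabilizer P (∑ i, w i) = ⨅ i ∈ (Finset.univ : Finset (Fin 2)), MulAction.stabilizer P (w i) := by
      ext g
      rw [Subgroup.mem_iInf]
      constructor
      · intro hg i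
        rw [Subgroup.mem_iInf]
        intro _
        rw [MulAction.mem_stabilizer_iff] at hg ⊢
        have h3 : f i (g • ∑ j, w j) = g • f i (∑ j, w j) :=
          (congrArg (fun a : AddMonoid.End V => a (∑ j, w j)) (hcf g i)).symm
        rw [hg, e_sum hmul hw] at h3
        exact h3.symm
      · intro hg
        rw [MulAction.mem_stabilizer_iff, Finset.smul_sum]
        refine Finset.sum_congr rfl fun i hi => ?_
        have := hg i
        rw [Subgroup.mem_iInf] at this
        exact this hi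
    rw [h2]
    rcases r.eq_empty_or_nonempty with hr0 | hr0
    · exfalso
      have h3 : (⨅ i ∈ (Finset.univ : Finset (Fin 2)), MulAction.stabilizer P (w i)) = ⊤ := by
        rw [eq_top_iff]
        intro g _
        rw [Subgroup.mem_iInf]
        intro i
        rw [Subgroup.mem_iInf]
        intro _
        have h4 : w i = 0 := by
          by_contra hne0
          have := (hr i).2 ⟨Finset.mem_univ _, hne0⟩
          rw [hr0] at this
          exact absurd this (Finset.notMem_empty _)
        rw [h4, MulAction.mem_stabilizer_iff, smul_zero]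
      rw [h3, Subgroup.index_top, Nat.factorization_one, Finsupp.zero_apply, mul_zero] at h1
      have h5 : (p - 1) * (Nat.card P).factorization p = 0 := by omega
      rcases Nat.mul_eq_zero.1 h5 with h6 | h6 <;> omega
    · have := hr0.card_pos
      omega
  · -- induced
    have hc1 : c 1 = 0 := by
      have h1 := hcadd 1 1
      rw [mul_one] at h1
      exact left_eq_add.1 h1
    let P₀ : Subgroup P :=
      { carrier := {g | c g = 0}
        one_mem' := hc1
        mul_mem' := fun {a b} ha hb => by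
          show c (a * b) = 0
          rw [hcadd, show c a = 0 from ha, show c b = 0 from hb, add_zero]
        inv_mem' := fun {a} ha => by
          show c a⁻¹ = 0
          have h1 := hcadd a a⁻¹
          rw [mul_inv_cancel, hc1, show c a = 0 from ha, zero_add] at h1
          exact h1.symm }
    have hP₀ : ∀ g, g ∈ P₀ ↔ c g = 0 := fun _ => Iff.rfl
    have hidx : P₀.index.factorization p = 1 := by
      let ch : P →* Multiplicative (ZMod p) :=
        { toFun := fun g => Multiplicative.ofAdd (c g)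
          map_one' := by rw [hc1]; rfl
          map_mul' := fun g h => by rw [hcadd]; rfl }
      have h1 : ch.ker = P₀ := by
        ext g
        rw [MonoidHom.mem_ker, hP₀]
        exact Multiplicative.ofAdd.injective.eq_iff (a := c g) (b := 0)
      have h2 : Function.Surjective ch := by
        intro x
        have hpow : ∀ n : ℕ, c (t ^ n) = n := by
          intro n
          induction n with
          | zero => rw [pow_zero, hc1, Nat.cast_zero]
          | succ n ih => rw [pow_succ, hcadd, ih, ht, Nat.cast_succ]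
        refine ⟨t ^ (Multiplicative.toAdd x).val, ?_⟩
        show Multiplicative.ofAdd (c (t ^ (Multiplicative.toAdd x).val)) = x
        rw [hpow, ZMod.natCast_zmod_val]
        rfl
      rw [← h1, Subgroup.index_ker, MonoidHom.range_eq_top.2 h2, Subgroup.card_top]
      have h3 : Nat.card (Multiplicative (ZMod p)) = p := by
        rw [Nat.card_congr Multiplicative.toAdd, Nat.card_zmod]
      rw [h3, hp.out.factorization_self]
    -- transport
    have hmove : ∀ (g : P) (i : ZMod p) (v : V), g • e i v = e (i + c g) (g • v) := fun g i v =>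
      congrArg (fun a : AddMonoid.End V => a v) (hequiv g i)
    have hne0 : ∀ i, ∃ v, e i v ≠ 0 := by
      obtain ⟨v, hv⟩ := hVnt
      obtain ⟨j, hj⟩ : ∃ j, e j v ≠ 0 := by
        by_contra hcon
        push Not at hcon
        apply hv
        rw [← sum_e hsum v, Finset.sum_congr rfl fun i _ => hcon i, Finset.sum_const_zero]
      intro i
      have hpow : ∀ n : ℕ, c (t ^ n) = n := by
        intro n
        induction n with
        | zero => rw [pow_zero, hc1, Nat.cast_zero]
        | succ n ih => rw [pow_succ, hcadd, ih, ht, Nat.cast_succ]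
      refine ⟨t ^ (i - j).val • v, ?_⟩
      have h1 := hmove (t ^ (i - j).val) j v
      rw [hpow, ZMod.natCast_zmod_val, add_sub_cancel] at h1
      rw [← h1]
      intro h2
      rw [smul_eq_zero_iff_eq] at h2
      exact hj h2
    have hne1 : ∀ i, e i ≠ 1 := by
      intro i h
      obtain ⟨v, hv⟩ := hne0 (i + 1)
      apply hv
      have h1 := e_orth hmul (i := i) (j := i + 1) (by
        intro h2
        exact one_ne_zero (left_eq_add.1 h2)) v
      rw [h] at h1
      exact h1
    have hce : ∀ g ∈ P₀, ∀ i, rh g * e i = e i * rh g := by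
      intro g hg i
      rw [hequiv, (hP₀ g).1 hg, add_zero]
    obtain ⟨w, r, hw, hr, h1⟩ := fam hP P₀ e
      (fun H i hH => hint H (e i) (by rw [hmul, if_pos rfl]) (hne1 i) fun g hg => hce g (hH hg) i) Finset.univ
    rw [iInf_krn hsum hf] at h1
    -- the order of `P₀`
    have hcard0 : (Nat.card P).factorization p = ((⊥ : Subgroup P).relIndex P₀).factorization p + 1 := by
      have h3 : (⊥ : Subgroup P).relIndex P₀ * P₀.index = (⊥ : Subgroup P).index := Subgroup.relIndex_mul_index bot_le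
      rw [← Subgroup.index_bot (G := P), ← h3, Nat.factorization_mul (relIndex_ne_zero _ _)
        Subgroup.index_ne_zero_of_finite, Finsupp.add_apply, hidx]
    set v := ∑ i, w i with hvdef
    have hev : ∀ i, e i v = w i := e_sum hmul hw
    have hstab : (MulAction.stabilizer P v).relIndex P₀ =
        (⨅ i ∈ (Finset.univ : Finset (ZMod p)), MulAction.stabilizer P (w i)).relIndex P₀ := by
      rw [← Subgroup.inf_relIndex_right, ← Subgroup.inf_relIndex_right (⨅ i ∈ _, _)]
      congr 1
      ext g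
      rw [Subgroup.mem_inf, Subgroup.mem_inf, Subgroup.mem_iInf]
      constructor
      · rintro ⟨hg, hg0⟩
        refine ⟨fun i => ?_, hg0⟩
        rw [Subgroup.mem_iInf]
        intro _
        rw [MulAction.mem_stabilizer_iff] at hg ⊢
        have h3 := hmove g i v
        rw [(hP₀ g).1 hg0, add_zero, hg, hev] at h3
        exact h3
      · rintro ⟨hg, hg0⟩
        refine ⟨?_, hg0⟩
        rw [MulAction.mem_stabilizer_iff, hvdef, Finset.smul_sum]
        refine Finset.sum_congr rfl fun i hi => ?_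
        have := hg i
        rw [Subgroup.mem_iInf] at this
        exact this hi
    rw [← hstab] at h1
    obtain ⟨m, hm⟩ : ∃ m, p = m + 1 := ⟨p - 1, by omega⟩
    by_cases hall : ∀ i, w i ≠ 0
    · -- all components nonzero
      refine ⟨v, ?_⟩
      have hrc : r.card = p := by
        have : r = Finset.univ := by
          ext i
          rw [hr]
          simp [hall i]
        rw [this, Finset.card_univ, ZMod.card]
      have h3 : ((MulAction.stabilizer P v).relIndex P₀).factorization p ≤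
          (MulAction.stabilizer P v).index.factorization p := by
        have := nu_right hP (MulAction.stabilizer P v) (le_top : P₀ ≤ ⊤)
        rwa [Subgroup.relIndex_top_right] at this
      have h4 := Nat.mul_le_mul_left p h3
      rw [hrc] at h1
      rw [hcard0, mul_add]
      omega
    · push Not at hall
      obtain ⟨i₀, hi₀⟩ := hall
      rcases r.eq_empty_or_nonempty with hr0 | hr0
      · -- all components are zero
        have hw0 : ∀ i, w i = 0 := by
          intro i
          by_contra hne0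
          have := (hr i).2 ⟨Finset.mem_univ _, hne0⟩
          rw [hr0] at this
          exact absurd this (Finset.notMem_empty _)
        have hv0 : v = 0 := by rw [hvdef, Finset.sum_congr rfl fun i _ => hw0 i, Finset.sum_const_zero]
        have hst0 : MulAction.stabilizer P v = ⊤ := by
          rw [hv0, eq_top_iff]
          intro g _
          rw [MulAction.mem_stabilizer_iff, smul_zero]
        rw [hst0, Subgroup.relIndex_top_left, Nat.factorization_one, Finsupp.zero_apply, mul_zero] at h1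
        have h5 : (p - 1) * ((⊥ : Subgroup P).relIndex P₀).factorization p = 0 := by omega
        have h6 : ((⊥ : Subgroup P).relIndex P₀).factorization p = 0 := by
          rcases Nat.mul_eq_zero.1 h5 with h6 | h6
          · omega
          · exact h6
        have h7 : (⊥ : Subgroup P).relIndex P₀ = 1 := by
          rw [relIndex_pow hP, h6, pow_zero]
        have hP₀bot : P₀ = ⊥ := by
          rw [Subgroup.relIndex_bot_left] at h7
          exact Subgroup.card_eq_one.1 h7
        obtain ⟨y, hy⟩ := hne0 0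
        refine ⟨e 0 y, ?_⟩
        have h8 : MulAction.stabilizer P (e 0 y) = ⊥ := by
          rw [eq_bot_iff, ← hP₀bot]
          intro g hg
          rw [MulAction.mem_stabilizer_iff] at hg
          rw [hP₀]
          by_contra hne
          have h9 := hmove g 0 (e 0 y)
          rw [e_idem hmul, hg, zero_add, e_orth hmul hne] at h9
          exact hy h9
        rw [h8, Subgroup.index_bot, hcard0, h6, hm]
        simp
      · -- a zero component and a nonzero component
        refine ⟨v, ?_⟩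
        have hle : MulAction.stabilizer P v ≤ P₀ := by
          intro g hg
          rw [MulAction.mem_stabilizer_iff] at hg
          rw [hP₀]
          by_contra hne
          obtain ⟨j, hj⟩ := hr0
          have hj0 := ((hr j).1 hj).2
          have h3 : ∀ i, g • w i = w (i + c g) := by
            intro i
            have h4 := hmove g i v
            rw [hg, hev, hev] at h4
            exact h4
          have h4 : ∀ n : ℕ, w (i₀ + n * c g) = 0 := by
            intro n
            induction n with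
            | zero => rw [Nat.cast_zero, zero_mul, add_zero, hi₀]
            | succ n ih =>
              have h5 : i₀ + ((n + 1 : ℕ) : ZMod p) * c g = i₀ + n * c g + c g := by push_cast; ring
              rw [h5, ← h3, ih, smul_zero]
          apply hj0
          have h5 := h4 ((j - i₀) * (c g)⁻¹).val
          rw [ZMod.natCast_zmod_val, mul_assoc, inv_mul_cancel₀ hne, mul_one, add_sub_cancel] at h5
          exact h5
        have h3 : (MulAction.stabilizer P v).index.factorization p =
            ((MulAction.stabilizer P v).relIndex P₀).factorization p + 1 := by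
          rw [← Subgroup.relIndex_mul_index hle, Nat.factorization_mul (relIndex_ne_zero _ _)
            Subgroup.index_ne_zero_of_finite, Finsupp.add_apply, hidx]
        rw [h3, hcard0, mul_add, mul_add]
        have := hr0.card_pos
        omega

/-- **Claim 1** -/
theorem cl1_main (hp2 : p ≠ 2) (n : ℕ) : ∀ (P V : Type u) [Group P] [Finite P] [AddCommGroup V] [Finite V]
    [DistribMulAction P V], Nat.card V ≤ n → IsPGroup p P → ¬ p ∣ Nat.card V → Cl1 p P V := by
  induction n with
  | zero =>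
    intro P V _ _ _ _ _ h
    have := Nat.card_pos (α := V)
    omega
  | succ n ih =>
    intro P V _ _ _ _ _ hn hP hV
    apply cl1_of_im
    refine cl1_step hp2 (isPGroup_im hP) hV faithful_im ?_
    intro P' V' _ _ _ _ _ h hP' hV'
    exact ih P' V' (by omega) hP' hV'

end Cl1

end Cfsg.Agent.H242.RC
end

-- part: H242/RC/RatTwo
section
/-!
# S4191 (team RC), two regular orbits of `5`-groups; `rat_three`, `rat_five`, `rat_ge` (helper242)
-/

set_option autoImplicit false
set_option linter.unusedSectionVars false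

namespace Cfsg.Agent.H242.RC

open Finset

universe u

/-- the abstract claim gives the internal one -/
theorem int2_of {P V : Type u} [Group P] [AddCommGroup V] [DistribMulAction P V] (H : Subgroup P)
    (e : AddMonoid.End V) (he : e * e = e) (he0 : e ≠ 0) (hc : ∀ g ∈ H, rh g * e = e * rh g)
    (h : ∀ _ : DistribMulAction ↥H ↥(AddMonoidHom.range (e : V →+ V)), Cl2 ↥H ↥(AddMonoidHom.range (e : V →+ V))) :
    ∃ w w' : V, e w = w ∧ e w' = w' ∧ (∀ g ∈ H, g • w = w → ∀ v, g • e v = e v) ∧
      (∀ g ∈ H, g • w' = w' → ∀ v, g • e v = e v) ∧ ∀ g ∈ H, g • w ≠ w' := by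
  have hX : ∀ g : ↥H, ∀ x ∈ AddMonoidHom.range (e : V →+ V), g • x ∈ AddMonoidHom.range (e : V →+ V) := by
    rintro g _ ⟨y, rfl⟩
    refine ⟨(g : P) • y, ?_⟩
    have h1 := congrArg (fun a : AddMonoid.End V => a y) (hc g g.2)
    exact h1.symm
  have hfix : ∀ x ∈ AddMonoidHom.range (e : V →+ V), e x = x := by
    rintro _ ⟨y, rfl⟩
    have h1 := congrArg (fun a : AddMonoid.End V => a y) he
    exact h1
  have hnt : Nontrivial ↥(AddMonoidHom.range (e : V →+ V)) := by
    obtain ⟨v, hv⟩ : ∃ v, e v ≠ 0 := by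
      by_contra hcon
      push Not at hcon
      exact he0 (AddMonoidHom.ext hcon)
    exact ⟨⟨⟨e v, v, rfl⟩, 0, fun h0 => hv (congrArg Subtype.val h0)⟩⟩
  let act := subAct (AddMonoidHom.range (e : V →+ V)) hX
  obtain ⟨⟨w, hw⟩, ⟨w', hw'⟩, h1, h2, h3⟩ := h act hnt
  refine ⟨w, w', hfix w hw, hfix w' hw', ?_, ?_, ?_⟩
  · intro g hg hgw v
    exact congrArg Subtype.val (h1 ⟨g, hg⟩ (Subtype.ext hgw) ⟨e v, v, rfl⟩)
  · intro g hg hgw v
    exact congrArg Subtype.val (h2 ⟨g, hg⟩ (Subtype.ext hgw) ⟨e v, v, rfl⟩)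
  · intro g hg hgw
    exact h3 ⟨g, hg⟩ (Subtype.ext hgw)

section Cl2

variable {p : ℕ} [hp : Fact p.Prime]

/-- a group acting fixed point freely and transitively on the nonzero vectors -/
theorem pow_two_of_trans {P V : Type*} [Group P] [AddCommGroup V] [Finite V] [DistribMulAction P V] {v : V}
    (htr : ∀ w : V, w ≠ 0 → ∃ g : P, g • v = w) (h2 : 2 ∣ Nat.card V) : ∃ k : ℕ, Nat.card V = 2 ^ k := by
  have h2' := Fact.mk Nat.prime_two
  have horder : ∀ (g : P) (w : V), addOrderOf (g • w) = addOrderOf w := by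
    intro g w
    exact (DistribMulAction.toAddEquiv V g).addOrderOf_eq w
  obtain ⟨y, hy⟩ := exists_prime_addOrderOf_dvd_card' (G := V) 2 h2
  have hy0 : y ≠ 0 := by
    rintro rfl
    rw [addOrderOf_zero] at hy
    exact absurd hy (by norm_num)
  obtain ⟨g, hg⟩ := htr y hy0
  have hv2 : addOrderOf v = 2 := by rw [← hy, ← hg, horder]
  refine ⟨_, Nat.eq_prime_pow_of_unique_prime_dvd Nat.card_pos.ne' ?_⟩
  intro q hq hdvd
  have := Fact.mk hq
  obtain ⟨x, hx⟩ := exists_prime_addOrderOf_dvd_card' (G := V) q hdvd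
  have hx0 : x ≠ 0 := by
    rintro rfl
    rw [addOrderOf_zero] at hx
    exact hq.one_lt.ne hx
  obtain ⟨k, hk⟩ := htr x hx0
  rw [← hx, ← hk, horder, hv2]

/-- the induction step, faithful action -/
theorem cl2_step (hp2 : p ≠ 2) (hM : ∀ j k : ℕ, 1 + p ^ j = 2 ^ k → j = 0) {P V : Type u} [Group P] [Finite P]
    [AddCommGroup V] [Finite V] [DistribMulAction P V]
    (hP : IsPGroup p P) (hV : ¬ p ∣ Nat.card V) (hf : ∀ g : P, (∀ v : V, g • v = v) → g = 1)
    (IH : ∀ (P' V' : Type u) [Group P'] [Finite P'] [AddCommGroup V'] [Finite V'] [DistribMulAction P' V'],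
      Nat.card V' < Nat.card V → IsPGroup p P' → ¬ p ∣ Nat.card V' → Cl2 P' V') : Cl2 P V := by
  classical
  intro hVnt
  have hp1 := hp.out.one_lt
  obtain ⟨v₀, hv₀⟩ := exists_ne (0 : V)
  rcases subsingleton_or_nontrivial P with hs | hnt
  · have h1 : ∀ (g : P) (w : V), g • w = w := fun g w => by rw [Subsingleton.elim g 1, one_smul]
    exact ⟨0, v₀, fun g _ => h1 g, fun g _ => h1 g, fun g => by rw [h1]; exact hv₀.symm⟩
  have hint : ∀ (H : Subgroup P) (e : AddMonoid.End V), e * e = e → e ≠ 0 → e ≠ 1 → (∀ g ∈ H, rh g * e = e * rh g) →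
      ∃ w w' : V, e w = w ∧ e w' = w' ∧ (∀ g ∈ H, g • w = w → ∀ v, g • e v = e v) ∧
      (∀ g ∈ H, g • w' = w' → ∀ v, g • e v = e v) ∧ ∀ g ∈ H, g • w ≠ w' := by
    intro H e he he0 he1 hce
    exact int2_of H e he he0 hce fun _ => IH _ _ (card_range_lt he he1) (hP.to_subgroup H) (coprime_sub hV _)
  rcases struct hp2 hP hV hf with h | ⟨e, he, he0, he1, hce⟩ | ⟨c, e, hcadd, ⟨t, ht⟩, hsum, hmul, hequiv⟩
  · -- fixed point free
    have hreg : ∀ v : V, v ≠ 0 → ∀ g : P, g • v = v → ∀ w : V, g • w = w := by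
      intro v hv g hg w
      rw [h g v hv hg, one_smul]
    by_cases htr : ∀ w : V, w ≠ 0 → ∃ g : P, g • v₀ = w
    · exfalso
      -- `|V| = 1 + |P|`
      have hcard : Nat.card V = 1 + Nat.card P := by
        have h1 : Nat.card {w : V // w ≠ 0} = Nat.card P := by
          symm
          refine Nat.card_congr (Equiv.ofBijective (fun g : P => (⟨g • v₀, ?_⟩ : {w : V // w ≠ 0})) ⟨?_, ?_⟩)
          · rw [Ne, smul_eq_zero_iff_eq]
            exact hv₀
          · intro g k hgk
            have h2 : g • v₀ = k • v₀ := congrArg Subtype.val hgk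
            have h3 : (k⁻¹ * g) • v₀ = v₀ := by rw [mul_smul, h2, inv_smul_smul]
            have h4 := h _ _ hv₀ h3
            rw [inv_mul_eq_one] at h4
            exact h4.symm
          · rintro ⟨w, hw⟩
            obtain ⟨g, hg⟩ := htr w hw
            exact ⟨g, Subtype.ext hg⟩
        rw [← h1, Nat.card_congr (Equiv.sumCompl (fun w : V => w = 0)).symm, Nat.card_sum]
        congr 1
        exact Nat.card_unique
      obtain ⟨j, hj⟩ := hP.exists_card_eq
      have hodd : Odd (p ^ j) := (hp.out.odd_of_ne_two hp2).pow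
      have h2 : 2 ∣ Nat.card V := by
        rw [hcard, hj]
        obtain ⟨a, ha⟩ := hodd
        exact ⟨a + 1, by omega⟩
      obtain ⟨k, hk⟩ := pow_two_of_trans htr h2
      have hj0 : j = 0 := hM j k (by rw [← hj, ← hcard, hk])
      rw [hj0, pow_zero] at hj
      exact (Finite.one_lt_card (α := P)).ne' hj
    · push Not at htr
      obtain ⟨w, hw, hw'⟩ := htr
      exact ⟨v₀, w, hreg v₀ hv₀, hreg w hw, hw'⟩
  · -- reducible
    have he' : (1 - e) * (1 - e) = 1 - e := by
      have h2 : (1 - e) * e = 0 := by rw [sub_mul, one_mul, he, sub_self]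
      rw [mul_sub, mul_one, h2, sub_zero]
    have hce' : ∀ g : P, rh g * (1 - e) = (1 - e) * rh g := by
      intro g
      rw [mul_sub, sub_mul, hce, mul_one, one_mul]
    have he0' : 1 - e ≠ 0 := fun h => he1 (sub_eq_zero.1 h).symm
    have he1' : 1 - e ≠ 1 := fun h => he0 (sub_eq_self.1 h)
    obtain ⟨x, x', hx, hx', h1, h2, h3⟩ := hint ⊤ e he he0 he1 fun g _ => hce g
    obtain ⟨y, -, hy, -, h4, -, -⟩ := hint (krn e) (1 - e) he' he0' he1' fun g _ => hce' g
    have hey : e y = 0 := by
      have h5 : e ((1 - e) y) = 0 := by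
        have h6 : e * (1 - e) = 0 := by rw [mul_sub, mul_one, he, sub_self]
        exact congrArg (fun a : AddMonoid.End V => a y) h6
      rw [hy] at h5
      exact h5
    have hap : ∀ (g : P) (v : V), e (g • v) = g • e v := fun g v =>
      (congrArg (fun a : AddMonoid.End V => a v) (hce g)).symm
    have key : ∀ z : V, e z = z → (∀ g ∈ (⊤ : Subgroup P), g • z = z → ∀ v, g • e v = e v) →
        ∀ g : P, g • (z + y) = z + y → ∀ w : V, g • w = w := by
      intro z hz h5 g hg w
      have h6 : g • z = z := by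
        have := hap g (z + y)
        rw [hg, map_add, hz, hey, add_zero] at this
        exact this.symm
      have h7 : g • y = y := by
        rw [smul_add, h6] at hg
        exact add_left_cancel hg
      have h8 := h5 g trivial h6
      have h9 := h4 g (fun v => h8 v) h7
      have h10 : w = e w + (1 - e) w := by
        show w = e w + (w - e w)
        abel
      rw [h10, smul_add, h8, h9]
    refine ⟨x + y, x' + y, key x hx h1, key x' hx' h2, ?_⟩
    intro g hg
    apply h3 g trivial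
    have := hap g (x + y)
    rw [hg, map_add, map_add, hx, hx', hey, add_zero, add_zero] at this
    exact this.symm
  · -- induced
    have hc1 : c 1 = 0 := by
      have h1 := hcadd 1 1
      rw [mul_one] at h1
      exact left_eq_add.1 h1
    have hcinv : ∀ g, c g⁻¹ = - c g := by
      intro g
      have h1 := hcadd g g⁻¹
      rw [mul_inv_cancel, hc1] at h1
      exact (neg_eq_of_add_eq_zero_right h1.symm).symm
    have hpow : ∀ n : ℕ, c (t ^ n) = n := by
      intro n
      induction n with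
      | zero => rw [pow_zero, hc1, Nat.cast_zero]
      | succ n ih => rw [pow_succ, hcadd, ih, ht, Nat.cast_succ]
    have hcT : ∀ i : ZMod p, c (t ^ i.val) = i := fun i => by rw [hpow, ZMod.natCast_zmod_val]
    let P₀ : Subgroup P :=
      { carrier := {g | c g = 0}
        one_mem' := hc1
        mul_mem' := fun {a b} ha hb => by
          show c (a * b) = 0
          rw [hcadd, show c a = 0 from ha, show c b = 0 from hb, add_zero]
        inv_mem' := fun {a} ha => by
          show c a⁻¹ = 0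
          rw [hcinv, show c a = 0 from ha, neg_zero] }
    have hP₀ : ∀ g, g ∈ P₀ ↔ c g = 0 := fun _ => Iff.rfl
    have hmove : ∀ (g : P) (i : ZMod p) (v : V), g • e i v = e (i + c g) (g • v) := fun g i v =>
      congrArg (fun a : AddMonoid.End V => a v) (hequiv g i)
    have hne0 : ∀ i, ∃ v, e i v ≠ 0 := by
      obtain ⟨j, hj⟩ : ∃ j, e j v₀ ≠ 0 := by
        by_contra hcon
        push Not at hcon
        apply hv₀
        rw [← sum_e hsum v₀, Finset.sum_congr rfl fun i _ => hcon i, Finset.sum_const_zero]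
      intro i
      refine ⟨t ^ (i - j).val • v₀, ?_⟩
      have h1 := hmove (t ^ (i - j).val) j v₀
      rw [hcT, add_sub_cancel] at h1
      rw [← h1]
      intro h2
      rw [smul_eq_zero_iff_eq] at h2
      exact hj h2
    have hne1 : ∀ i, e i ≠ 1 := by
      intro i h
      obtain ⟨v, hv⟩ := hne0 (i + 1)
      apply hv
      have h1 := e_orth hmul (i := i) (j := i + 1) (by
        intro h2
        exact one_ne_zero (left_eq_add.1 h2)) v
      rw [h] at h1
      exact h1
    have hce : ∀ g ∈ P₀, ∀ i, rh g * e i = e i * rh g := by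
      intro g hg i
      rw [hequiv, (hP₀ g).1 hg, add_zero]
    obtain ⟨a, b, ha, hb, h1, h2, h3⟩ := hint P₀ (e 0) (by rw [hmul, if_pos rfl])
      (by
        intro h
        obtain ⟨v, hv⟩ := hne0 0
        apply hv
        rw [h]
        rfl) (hne1 0) fun g hg => hce g hg 0
    -- the vectors
    let W : Set (ZMod p) → ZMod p → V := fun I i => t ^ i.val • (if i ∈ I then a else b)
    have hWe : ∀ I i, e i (W I i) = W I i := by
      intro I i
      have h5 : ∀ x : V, e 0 x = x → e i (t ^ i.val • x) = t ^ i.val • x := by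
        intro x hx
        have h6 := hmove (t ^ i.val) 0 x
        rw [hcT, zero_add, hx] at h6
        exact h6.symm
      show e i (t ^ i.val • (if i ∈ I then a else b)) = t ^ i.val • (if i ∈ I then a else b)
      split_ifs
      · exact h5 a ha
      · exact h5 b hb
    have hmv : ∀ (I J : Set (ZMod p)) (g : P), g • ∑ i, W I i = ∑ i, W J i → ∀ i, g • W I i = W J (i + c g) := by
      intro I J g hg i
      have h5 := hmove g i (∑ i, W I i)
      rw [hg, e_sum hmul (hWe I), e_sum hmul (hWe J)] at h5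
      exact h5
    have hred : ∀ (g : P) (i : ZMod p) (x y : V), g • t ^ i.val • x = t ^ (i + c g).val • y →
        ((t ^ (i + c g).val)⁻¹ * g * t ^ i.val) • x = y ∧ (t ^ (i + c g).val)⁻¹ * g * t ^ i.val ∈ P₀ := by
      intro g i x y hxy
      constructor
      · rw [mul_smul, mul_smul, hxy, inv_smul_smul]
      · rw [hP₀, hcadd, hcadd, hcinv, hcT, hcT]
        ring
    have hiff : ∀ (I J : Set (ZMod p)) (g : P), g • ∑ i, W I i = ∑ i, W J i → ∀ i, i ∈ I ↔ i + c g ∈ J := by
      intro I J g hg i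
      have h5 := hmv I J g hg i
      change g • t ^ i.val • (if i ∈ I then a else b) = t ^ (i + c g).val • (if i + c g ∈ J then a else b) at h5
      obtain ⟨h6, h7⟩ := hred g i _ _ h5
      by_cases hi : i ∈ I <;> by_cases hj : i + c g ∈ J
      · simp [hi, hj]
      · rw [if_pos hi, if_neg hj] at h6
        exact absurd h6 (h3 _ h7)
      · rw [if_neg hi, if_pos hj] at h6
        exact absurd (inv_smul_eq_iff.2 h6.symm) (h3 _ (P₀.inv_mem h7))
      · simp [hi, hj]
    have hstab : ∀ (I : Set (ZMod p)) (g : P), g • ∑ i, W I i = ∑ i, W I i → c g = 0 → ∀ w : V, g • w = w := by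
      intro I g hg hcg w
      rw [← sum_e hsum w, Finset.smul_sum]
      refine Finset.sum_congr rfl fun i _ => ?_
      have h5 := hmv I I g hg i
      change g • t ^ i.val • (if i ∈ I then a else b) = t ^ (i + c g).val • (if i + c g ∈ I then a else b) at h5
      obtain ⟨h6, h7⟩ := hred g i _ _ h5
      have h8 : ∀ v, ((t ^ (i + c g).val)⁻¹ * g * t ^ i.val) • e 0 v = e 0 v := by
        rw [hcg, add_zero] at h6
        by_cases hi : i ∈ I
        · rw [if_pos hi] at h6
          refine h1 _ h7 ?_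
          rw [hcg, add_zero]
          exact h6
        · rw [if_neg hi] at h6
          refine h2 _ h7 ?_
          rw [hcg, add_zero]
          exact h6
      rw [hcg, add_zero] at h8
      -- `e i w = t^i e 0 (t^-i w)`
      have h9 : e i w = t ^ i.val • e 0 ((t ^ i.val)⁻¹ • w) := by
        rw [hmove, hcT, zero_add, smul_inv_smul]
      have h10 := h8 ((t ^ i.val)⁻¹ • w)
      rw [mul_smul, mul_smul, ← h9, inv_smul_eq_iff, ← h9] at h10
      exact h10
    have h01 : (0 : ZMod p) ≠ 1 := zero_ne_one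
    refine ⟨∑ i, W {0} i, ∑ i, W {0, 1} i, ?_, ?_, ?_⟩
    · intro g hg
      refine hstab _ g hg ?_
      have h5 := (hiff _ _ g hg 0).1 rfl
      rw [zero_add] at h5
      exact h5
    · intro g hg
      refine hstab _ g hg ?_
      have h5 := (hiff _ _ g hg 0).1 (Or.inl rfl)
      rw [zero_add] at h5
      rcases h5 with h5 | h5
      · exact h5
      · exfalso
        have h5' : c g = 1 := h5
        have h6 := (hiff _ _ g hg 1).1 (Or.inr rfl)
        rw [h5'] at h6
        rcases h6 with h6 | h6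
        · have h7 : (2 : ZMod p) = 0 := by
            have : (1 : ZMod p) + 1 = 0 := h6
            rw [← this]
            norm_num
          have h8 : ((2 : ℕ) : ZMod p) = 0 := by exact_mod_cast h7
          rw [ZMod.natCast_eq_zero_iff] at h8
          exact hp2 ((Nat.prime_dvd_prime_iff_eq hp.out Nat.prime_two).1 h8)
        · have h7 : (1 : ZMod p) + 1 = 1 := h6
          exact h01 (left_eq_add.1 h7.symm).symm
    · intro g hg
      have h5 : (0 : ZMod p) - c g ∈ ({0} : Set (ZMod p)) := (hiff _ _ g hg (0 - c g)).2 (by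
        rw [sub_add_cancel]
        exact Or.inl rfl)
      have h6 : (1 : ZMod p) - c g ∈ ({0} : Set (ZMod p)) := (hiff _ _ g hg (1 - c g)).2 (by
        rw [sub_add_cancel]
        exact Or.inr rfl)
      have h7 : (0 : ZMod p) - c g = 0 := h5
      have h8 : (1 : ZMod p) - c g = 0 := h6
      rw [zero_sub, neg_eq_zero] at h7
      rw [h7, sub_zero] at h8
      exact h01 h8.symm

/-- **Claim 2** -/
theorem cl2_main (hp2 : p ≠ 2) (hM : ∀ j k : ℕ, 1 + p ^ j = 2 ^ k → j = 0) (n : ℕ) : ∀ (P V : Type u) [Group P]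
    [Finite P] [AddCommGroup V] [Finite V] [DistribMulAction P V], Nat.card V ≤ n → IsPGroup p P →
    ¬ p ∣ Nat.card V → Cl2 P V := by
  induction n with
  | zero =>
    intro P V _ _ _ _ _ h
    have := Nat.card_pos (α := V)
    omega
  | succ n ih =>
    intro P V _ _ _ _ _ hn hP hV
    apply cl2_of_im
    refine cl2_step hp2 hM (isPGroup_im hP) hV faithful_im ?_
    intro P' V' _ _ _ _ _ h hP' hV'
    exact ih P' V' (by omega) hP' hV'

end Cl2

/-! ### the results -/

/-- **A strong form**: `p ν(C_P(v)) + 1 ≤ ν(P)` if `P ≠ 1`. -/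
theorem rat_strong {p : ℕ} (hp : p.Prime) (hp2 : p ≠ 2) (P V : Type u) [Group P] [Finite P] [AddCommGroup V] [Finite V]
    [DistribMulAction P V] (hP : IsPGroup p P) (hV : ¬ p ∣ Nat.card V)
    (hf : ∀ g : P, (∀ v : V, g • v = v) → g = 1) : Subsingleton P ∨
    ∃ v : V, p * (Nat.card (MulAction.stabilizer P v)).factorization p + 1 ≤ (Nat.card P).factorization p := by
  have hFact := Fact.mk hp
  rcases cl1_main hp2 _ P V le_rfl hP hV with h | ⟨v, hv⟩
  · left
    refine ⟨fun a b => ?_⟩
    rw [hf a (h a), hf b (h b)]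
  · right
    refine ⟨v, ?_⟩
    have hk : kr P V = ⊥ := by
      rw [eq_bot_iff]
      intro g hg
      exact Subgroup.mem_bot.2 (hf g hg)
    rw [hk, Subgroup.index_bot] at hv
    have h1 : (Nat.card P).factorization p = (Nat.card (MulAction.stabilizer P v)).factorization p +
        (MulAction.stabilizer P v).index.factorization p := by
      rw [← Subgroup.card_mul_index (MulAction.stabilizer P v),
        Nat.factorization_mul Nat.card_pos.ne' Subgroup.index_ne_zero_of_finite, Finsupp.add_apply]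
    obtain ⟨m, rfl⟩ : ∃ m, p = m + 1 := ⟨p - 1, by have := hp.pos; omega⟩
    rw [Nat.add_sub_cancel] at hv
    rw [h1] at hv ⊢
    generalize (Nat.card (MulAction.stabilizer P v)).factorization (m + 1) = x at *
    generalize (MulAction.stabilizer P v).index.factorization (m + 1) = y at *
    linarith only [hv]

/-- **Two regular orbits** -/
theorem two_regular {p : ℕ} (hp : p.Prime) (hp2 : p ≠ 2) (hM : ∀ j k : ℕ, 1 + p ^ j = 2 ^ k → j = 0)
    (P V : Type u) [Group P] [Finite P] [AddCommGroup V] [Finite V] [Nontrivial V]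
    [DistribMulAction P V] (hP : IsPGroup p P) (hV : ¬ p ∣ Nat.card V)
    (hf : ∀ g : P, (∀ v : V, g • v = v) → g = 1) : ∃ v v' : V, (∀ g : P, g • v = v → g = 1) ∧
      (∀ g : P, g • v' = v' → g = 1) ∧ ∀ g : P, g • v ≠ v' := by
  have hFact := Fact.mk hp
  obtain ⟨v, v', h1, h2, h3⟩ := cl2_main hp2 hM _ P V le_rfl hP hV inferInstance
  exact ⟨v, v', fun g hg => hf g (h1 g hg), fun g hg => hf g (h2 g hg), h3⟩


theorem rat_three : Cfsg.Agent.H527.RC.Rat.{u} 3 1 3 := by
  intro P V _ _ _ _ _ hP hV hf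
  rcases rat_strong Nat.prime_three (by norm_num) P V hP hV hf with h | ⟨v, hv⟩
  · refine ⟨0, ?_⟩
    have h1 : Nat.card (MulAction.stabilizer P (0 : V)) = 1 := Nat.card_of_subsingleton 1
    rw [h1]
    simp only [_root_.Nat.factorization_one, _root_.Finsupp.coe_zero, _root_.Pi.zero_apply, _root_.MulZeroClass.mul_zero, _root_.Nat.card_unique, _root_.Std.le_refl]
  · exact ⟨v, by omega⟩

theorem rat_ge {p : ℕ} (h7 : 7 ≤ p) (hp : p.Prime) : Cfsg.Agent.H527.RC.Rat.{u} p 1 7 := by
  intro P V _ _ _ _ _ hP hV hf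
  rcases rat_strong hp (by omega) P V hP hV hf with h | ⟨v, hv⟩
  · refine ⟨0, ?_⟩
    have h1 : Nat.card (MulAction.stabilizer P (0 : V)) = 1 := Nat.card_of_subsingleton 1
    rw [h1]
    simp only [_root_.Nat.factorization_one, _root_.Finsupp.coe_zero, _root_.Pi.zero_apply, _root_.MulZeroClass.mul_zero, _root_.Nat.card_unique, _root_.Std.le_refl]
  · refine ⟨v, ?_⟩
    have := Nat.mul_le_mul_right ((Nat.card (MulAction.stabilizer P v)).factorization p) h7
    omega

theorem five_pow (j k : ℕ) (h : 1 + 5 ^ j = 2 ^ k) : j = 0 := by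
  have h1 : (5 ^ j) % 4 = 1 := by
    rw [Nat.pow_mod]
    norm_num
  rcases k with _ | _ | k
  · have : 0 < 5 ^ j := pow_pos (by norm_num) j
    rw [pow_zero] at h
    omega
  · have h2 : 5 ^ j = 1 := by omega
    rcases j with _ | j
    · rfl
    · rw [pow_succ] at h2
      omega
  · exfalso
    have h2 : 2 ^ (k + 1 + 1) = 4 * 2 ^ k := by ring
    omega

theorem rat_five : Cfsg.Agent.H527.RC.Rat.{u} 5 0 1 := by
  intro P V _ _ _ _ _ hP hV hf
  rcases subsingleton_or_nontrivial V with hs | hnt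
  · have hsP : Subsingleton P := ⟨fun a b => by
      rw [hf a fun v => Subsingleton.elim _ _, hf b fun v => Subsingleton.elim _ _]⟩
    refine ⟨0, ?_⟩
    have h1 : Nat.card (MulAction.stabilizer P (0 : V)) = 1 := Nat.card_of_subsingleton 1
    rw [h1]
    simp only [_root_.Nat.factorization_one, _root_.Finsupp.coe_zero, _root_.Pi.zero_apply, _root_.MulZeroClass.mul_zero, _root_.Nat.card_unique, _root_.Std.le_refl]
  · obtain ⟨v, -, h1, -, -⟩ := two_regular Nat.prime_five (by norm_num) five_pow P V hP hV hf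
    refine ⟨v, ?_⟩
    have h2 : MulAction.stabilizer P v = ⊥ := by
      rw [eq_bot_iff]
      intro g hg
      exact Subgroup.mem_bot.2 (h1 g hg)
    rw [h2, Subgroup.card_bot]
    simp only [_root_.Nat.factorization_one, _root_.Finsupp.coe_zero, _root_.Pi.zero_apply, _root_.MulZeroClass.mul_zero, _root_.MulZeroClass.zero_mul, _root_.Std.le_refl]

end Cfsg.Agent.H242.RC
end

-- part: H855/RC/Gen
section
/-!
# Primitive solvable linear groups with a normal `p`-complement (helper855, S4191)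

* `comm_of_cent` : the centralizer of an irreducible group is commutative;
* `not_mem_Q` : `p` does not divide `|S / A|`;
* `exists_part` : if `E ≤ C(A)` does not have Fitting height `t + 1`, then the image of `E` on some `X_q` does not have
  Fitting height `t`;
* `im_core` : the image of a normal subgroup on `X_q` has no normal `q`-subgroups.
-/

set_option autoImplicit false
set_option linter.unusedSectionVars false

namespace Cfsg.Agent.H855.RC

open scoped Pointwise commutatorElement
open Cfsg.Agent.H527.RC Cfsg.Agent.H822.Cls Cfsg.Agent.H668.Dim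

universe u

/-- Wedderburn: the centralizer of an irreducible group is commutative. -/
theorem comm_of_cent {H W : Type*} [Group H] [AddCommGroup W] [Finite W] [Nontrivial W] [DistribMulAction H W]
    (L : Subgroup H) (hfaith : ∀ h : H, (∀ w : W, h • w = w) → h = 1)
    (hirr : ∀ X : AddSubgroup W, (∀ g ∈ L, ∀ w ∈ X, g • w ∈ X) → X = ⊥ ∨ X = ⊤) {x y : H}
    (hx : ∀ g ∈ L, x * g = g * x) (hy : ∀ g ∈ L, y * g = g * y) : x * y = y * x := by
  let φ : H →* AddMonoid.End W := DistribMulAction.toAddMonoidEnd H W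
  have hφ : ∀ (h : H) (w : W), φ h w = h • w := fun h w => rfl
  let Z : Subring (AddMonoid.End W) := Subring.centralizer (φ '' (L : Set H))
  have hZ : ∀ z : AddMonoid.End W, z ∈ Z ↔ ∀ g ∈ L, ∀ w : W, g • z w = z (g • w) := by
    intro z
    rw [Subring.mem_centralizer_iff]
    constructor
    · intro h g hg w
      exact DFunLike.congr_fun (h (φ g) ⟨g, hg, rfl⟩) w
    · rintro h _ ⟨g, hg, rfl⟩
      ext w
      exact h g hg w
  have hfin : Finite (AddMonoid.End W) := by
    have : Finite (W →+ W) := DFunLike.finite _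
    exact this
  have hker : ∀ z ∈ Z, z ≠ 0 → ∀ w, z w = 0 → w = 0 := by
    intro z hz hz0 w hw
    let z' : W →+ W := z
    rcases hirr z'.ker (by
      intro g hg v hv
      have hv' : z v = 0 := hv
      change z (g • v) = 0
      rw [← (hZ z).1 hz g hg v, hv', smul_zero]) with h | h
    · have h1 : w ∈ z'.ker := hw
      rw [h, AddSubgroup.mem_bot] at h1
      exact h1
    · exfalso
      apply hz0
      ext v
      have h1 : v ∈ z'.ker := by rw [h]; exact AddSubgroup.mem_top v
      exact h1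
  have hdom : (IsDomain Z :) := by
    have h1 : (NoZeroDivisors Z :) := by
      refine ⟨fun {a b} hab => ?_⟩
      by_contra hcon
      push Not at hcon
      obtain ⟨ha, hb⟩ := hcon
      apply hb
      apply Subtype.ext
      ext w
      refine hker a a.2 (fun h => ha (Subtype.ext h)) _ ?_
      have h2 : (a * b : Z) = 0 := hab
      exact DFunLike.congr_fun (congrArg Subtype.val h2) w
    have h2 : Nontrivial Z := by
      refine ⟨0, 1, fun h => ?_⟩
      obtain ⟨w, hw⟩ := exists_ne (0 : W)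
      exact hw (DFunLike.congr_fun (congrArg Subtype.val h) w).symm
    exact NoZeroDivisors.to_isDomain Z
  have hfield := Finite.isDomain_to_isField Z
  have hmem : ∀ z : H, (∀ g ∈ L, z * g = g * z) → φ z ∈ Z := by
    intro z hz
    rw [hZ]
    intro g hg w
    rw [hφ, hφ, ← mul_smul, ← mul_smul, hz g hg]
  have h3 := (hfield.mul_comm ⟨φ x, hmem x hx⟩ ⟨φ y, hmem y hy⟩ :)
  have h4 : φ (x * y) = φ (y * x) := by
    rw [map_mul, map_mul]
    exact congrArg Subtype.val h3
  have h5 : (y * x)⁻¹ * (x * y) = 1 := by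
    apply hfaith
    intro w
    have h6 : (x * y) • w = (y * x) • w := DFunLike.congr_fun h4 w
    rw [mul_smul, h6, inv_smul_smul]
  exact (inv_mul_eq_one.1 h5).symm

section

variable {H W F : Type u} [Group H] [Finite H] [AddCommGroup W] [Finite W] [Nontrivial W] [DistribMulAction H W]
  [Field F] [Finite F] [Module F W] (D : Prim H W F)

/-- the `p`-elements of `S` centralize `L` -/
theorem elt_comm {p : ℕ} (hp : p.Prime) {L : Subgroup H} (hL : LP p L) {u : H} (hu : u ∈ D.S)
    (hup : ∃ k : ℕ, u ^ p ^ k = 1) : ∀ g ∈ L, u * g = g * u := by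
  have hpf : Fact p.Prime := ⟨hp⟩
  have hSn := D.S_normal
  have hnil : Group.IsNilpotent D.S := D.isNilpotent_of_le D.S le_rfl
  obtain ⟨k, hk⟩ := hup
  have hpu : IsPGroup p (Subgroup.zpowers (⟨u, hu⟩ : D.S)) := by
    rintro ⟨x, i, rfl⟩
    refine ⟨k, Subtype.ext (Subtype.ext ?_)⟩
    change (u ^ i) ^ p ^ k = 1
    rw [← zpow_natCast, ← zpow_mul, mul_comm i, zpow_mul, zpow_natCast, hk, one_zpow]
  obtain ⟨T, hT⟩ := hpu.exists_le_sylow
  have hTn : (T : Subgroup D.S).Normal := by
    have := (Group.isNilpotent_of_finite_tfae (G := D.S)).out 0 3 |>.1 hnil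
    exact this p hpf T
  have hTc : (T : Subgroup D.S).Characteristic := T.characteristic_of_normal hTn
  have hTm : ((T : Subgroup D.S).map D.S.subtype).Normal := inferInstance
  have hTp : IsPGroup p ((T : Subgroup D.S).map D.S.subtype) := T.isPGroup'.map _
  have huT : u ∈ (T : Subgroup D.S).map D.S.subtype := ⟨⟨u, hu⟩, hT (Subgroup.mem_zpowers _), rfl⟩
  have hdis : Disjoint ((T : Subgroup D.S).map D.S.subtype) L := by
    apply Subgroup.disjoint_of_coprime_natCard
    obtain ⟨n, hn⟩ := IsPGroup.iff_card.1 hTp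
    rw [hn]
    exact Nat.Coprime.pow_left n ((Nat.Prime.coprime_iff_not_dvd hp).2 hL.cop)
  intro g hg
  exact Subgroup.commute_of_normal_of_disjoint _ _ hTm hL.normal hdis u g huT hg

theorem mem_A_of_XL {p : ℕ} (hp : p.Prime) {L : Subgroup H} (hL : LP p L)
    (hfaith : ∀ h : H, (∀ w : W, h • w = w) → h = 1)
    (hirr : ∀ X : AddSubgroup W, (∀ g ∈ L, ∀ w ∈ X, g • w ∈ X) → X = ⊥ ∨ X = ⊤) {s : H} (hs : s ∈ XL D p) :
    s ∈ D.A := by
  obtain ⟨n, hn, k, hk⟩ := exists_pow_eq s hp
  refine pow_mem_iff D hn hs.2 ?_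
  have htS : s ^ n ∈ D.S := D.S.pow_mem hs.1 n
  have hs1 := elt_comm D hp hL htS ⟨k, hk⟩
  apply D.cent_le
  rw [Subgroup.mem_centralizer_iff]
  intro t ht
  obtain ⟨n', hn', k', hk'⟩ := exists_pow_eq t hp
  have h1 : s ^ n * t ^ n' = t ^ n' * s ^ n :=
    comm_of_cent L hfaith hirr hs1 (elt_comm D hp hL (D.S.pow_mem ht n') ⟨k', hk'⟩)
  obtain ⟨j, hj⟩ := hL.isP t
  have h2 : s ^ n * t ^ p ^ j = t ^ p ^ j * s ^ n := hs1 _ hj
  have h3 : t ∈ Subgroup.centralizer ({s ^ n} : Set H) := by
    have h4 : t ^ n' ∈ Subgroup.centralizer ({s ^ n} : Set H) := Subgroup.mem_centralizer_singleton_iff.2 h1.symm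
    have h5 : t ^ p ^ j ∈ Subgroup.centralizer ({s ^ n} : Set H) := Subgroup.mem_centralizer_singleton_iff.2 h2.symm
    have h6 := Nat.gcd_eq_gcd_ab (p ^ j) n'
    rw [(Nat.Coprime.pow_left j hn').gcd_eq_one] at h6
    have h7 : t = (t ^ p ^ j) ^ ((p ^ j).gcdA n') * (t ^ n') ^ ((p ^ j).gcdB n') := by
      rw [← zpow_natCast t (p ^ j), ← zpow_natCast t n', ← zpow_mul, ← zpow_mul, ← zpow_add, ← h6, Nat.cast_one,
        zpow_one]
    rw [h7]
    exact mul_mem (zpow_mem h5 _) (zpow_mem h4 _)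
  exact (Subgroup.mem_centralizer_singleton_iff.1 h3)

/-- `p` does not divide `|S / A|` -/
theorem not_mem_Q {p : ℕ} (hp : p.Prime) {L : Subgroup H} (hL : LP p L)
    (hfaith : ∀ h : H, (∀ w : W, h • w = w) → h = 1)
    (hirr : ∀ X : AddSubgroup W, (∀ g ∈ L, ∀ w ∈ X, g • w ∈ X) → X = ⊥ ∨ X = ⊤) {Q : Finset ℕ} {m : ℕ → ℕ}
    (hD : D.Num Q m) : p ∉ Q := by
  intro hpQ
  have h1 := hD.card_part p hpQ (XL D p) (fun s => mem_XL D)
  have h2 : D.A.relIndex (XL D p) = 1 := by
    rw [Subgroup.relIndex_eq_one]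
    exact fun s hs => mem_A_of_XL D hp hL hfaith hirr hs
  rw [h2] at h1
  have h3 := hD.one_le p hpQ
  have h4 : 1 < p ^ (2 * m p) := Nat.one_lt_pow (by omega) hp.one_lt
  omega

/-- the image of a subgroup on `X_q` -/
noncomputable def im (q : ℕ) (E : Subgroup H) : Subgroup (rho D q).range := E.map (rho D q).rangeRestrict

instance im_normal (q : ℕ) (E : Subgroup H) [E.Normal] : (im D q E).Normal :=
  Subgroup.Normal.map inferInstance _ (rho D q).rangeRestrict_surjective

theorem im_mono {q : ℕ} {E E' : Subgroup H} (h : E ≤ E') : im D q E ≤ im D q E' := Subgroup.map_mono h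

/-- a subgroup of `C(A)` is nilpotent modulo its actions on the `X_q` -/
theorem exists_part {Q : Finset ℕ} {m : ℕ → ℕ} (hD : D.Num Q m) {t : ℕ} {E : Subgroup H}
    (hE : E ≤ Subgroup.centralizer (D.A : Set H)) (h : ¬ FH (t + 1) E) : ∃ q ∈ Q, ¬ FH t (im D q E) := by
  by_contra hcon
  push Not at hcon
  apply h
  let f : E →* ∀ q : Q, (rho D q).range := MonoidHom.pi fun q => (rho D q).rangeRestrict.comp E.subtype
  have hf : ∀ (x : E) (q : Q), f x q = (rho D q).rangeRestrict x := fun x q => rfl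
  have h1 : FH 1 f.ker := by
    rw [FH.one_iff]
    have h2 : ∀ x : f.ker, ((x : E) : H) ∈ D.S := by
      intro x
      refine mem_of_triv D hD (hE (x : E).2) fun q hq => ?_
      rw [← rho_eq_one_iff]
      have h3 := congrFun (MonoidHom.mem_ker.1 x.2) ⟨q, hq⟩
      rw [hf] at h3
      exact congrArg Subtype.val h3
    let g : f.ker →* D.S := (E.subtype.comp f.ker.subtype).codRestrict D.S h2
    have hg : Function.Injective g := by
      intro a b hab
      have h4 : (g a : H) = (g b : H) := congrArg Subtype.val hab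
      exact Subtype.ext (Subtype.ext h4)
    exact isNilpotent_of_injective g hg (D.isNilpotent_of_le D.S le_rfl)
  have h2 : FH t f.range := by
    refine FH.of_family (ι := Q) (Hs := fun q => im D q E)
      (fun q => ((Pi.evalMonoidHom (fun q : Q => (rho D q).range) q).comp f.range.subtype).codRestrict (im D q E) ?_)
      ?_ (fun q => hcon q q.2)
    · rintro ⟨_, x, rfl⟩
      exact ⟨x, x.2, rfl⟩
    · rintro ⟨_, x, rfl⟩ hx
      apply Subtype.ext
      funext q
      exact congrArg Subtype.val (hx q)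
  have h3 := FH.of_hom f h1 h2
  rwa [add_comm] at h3

/-- the image of a normal subgroup on `X_q` has no nontrivial normal `q`-subgroup -/
theorem im_core {q : ℕ} (hq : q.Prime) (E : Subgroup H) [E.Normal] (N : Subgroup (im D q E)) (hN : N.Normal)
    (hNq : IsPGroup q N) : N = ⊥ := by
  have hpf : Fact q.Prime := ⟨hq⟩
  set f := (rho D q).rangeRestrict with hf
  have hc : (Cfsg.pCore q (im D q E)).Characteristic := Lib.Cores.pCore_characteristic q
  set K := (Cfsg.pCore q (im D q E)).map (im D q E).subtype with hK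
  have hKn : K.Normal := by rw [hK]; infer_instance
  have hKq : IsPGroup q K := (Lib.Cores.pCore_isPGroup q).map _
  have h1 : ∀ x ∈ K.comap f, ∃ k : ℕ, ∀ s ∈ D.S, s ^ q ∈ D.A → x ^ (q ^ k) * s * (x ^ (q ^ k))⁻¹ * s⁻¹ ∈ D.A := by
    intro x hx
    obtain ⟨k, hk⟩ := hKq ⟨f x, hx⟩
    refine ⟨k, ?_⟩
    have h2 : rho D q (x ^ q ^ k) = 1 := by
      rw [map_pow]
      exact congrArg Subtype.val (congrArg Subtype.val hk)
    exact (rho_eq_one_iff D _).1 h2
  have h2 := D.ss q hq (K.comap f) inferInstance h1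
  have h3 : K = ⊥ := by
    rw [eq_bot_iff]
    intro y hy
    obtain ⟨x, rfl⟩ := (rho D q).rangeRestrict_surjective y
    have h4 : rho D q x = 1 := (rho_eq_one_iff D x).2 (h2 x hy)
    exact Subgroup.mem_bot.2 (Subtype.ext h4)
  have h4 : N ≤ Cfsg.pCore q (im D q E) := Lib.Cores.le_pCore hN hNq
  rw [eq_bot_iff]
  intro x hx
  have h5 : (x : (rho D q).range) ∈ K := ⟨x, h4 hx, rfl⟩
  rw [h3, Subgroup.mem_bot] at h5
  exact Subgroup.mem_bot.2 (Subtype.ext h5)

end

end Cfsg.Agent.H855.RC
end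

-- part: H855/RC/Orb
section
/-!
# Orbits and fixed points (helper855, S4191)

* `orbs_of_card` : more than `k |H|` points with a property give `k + 1` orbits;
* `card_fix_le` : the `3/4` bound of S5876 for primitive solvable groups `H` on `W`.
-/

set_option autoImplicit false

namespace Cfsg.Agent.H855.RC

open scoped Pointwise commutatorElement
open Cfsg.Agent.H527.RC Cfsg.Agent.H933

universe u

theorem orbs_of_card {H W : Type*} [Group H] [Finite H] [MulAction H W] [Finite W] :
    ∀ (k : ℕ) (T : Set W), k * Nat.card H < T.ncard → Orbs H (k + 1) (fun w => w ∈ T) := by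
  intro k
  induction k with
  | zero =>
    intro T hT
    rw [zero_mul, Set.ncard_pos] at hT
    obtain ⟨w, hw⟩ := hT
    exact ⟨fun _ => w, fun _ => hw, fun i j _ _ => Fin.ext (by omega)⟩
  | succ k ih =>
    intro T hT
    have h0 : 0 < T.ncard := by omega
    rw [Set.ncard_pos] at h0
    obtain ⟨w, hw⟩ := h0
    have h1 : (MulAction.orbit H w).ncard ≤ Nat.card H := by
      have h2 : (MulAction.orbit H w) = Set.range (fun h : H => h • w) := rfl
      rw [h2, ← Set.image_univ]
      refine (Set.ncard_image_le Set.finite_univ).trans ?_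
      rw [Set.ncard_univ]
    have h2 : k * Nat.card H < (T \ MulAction.orbit H w).ncard := by
      have h3 := Set.le_ncard_sdiff (MulAction.orbit H w) T (Set.toFinite _)
      rw [Nat.succ_mul] at hT
      omega
    obtain ⟨f, hf1, hf2⟩ := ih _ h2
    refine ⟨Fin.cons w f, ?_, ?_⟩
    · intro i
      refine Fin.cases hw (fun i => (hf1 i).1) i
    · intro i j
      refine Fin.cases ?_ (fun i => ?_) i
      · refine Fin.cases (fun _ _ => rfl) (fun j h hh => ?_) j
        exfalso
        exact (hf1 j).2 ⟨h, hh⟩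
      · refine Fin.cases (fun h hh => ?_) (fun j h hh => ?_) j
        · exfalso
          rw [Fin.cons_succ, Fin.cons_zero] at hh
          exact (hf1 i).2 ⟨h⁻¹, by rw [← hh]; exact inv_smul_smul h (f i)⟩
        · rw [Fin.cons_succ, Fin.cons_succ] at hh
          rw [hf2 i j h hh]

/-- the action as a linear representation -/
def rhoH {H W : Type u} [Group H] [AddCommGroup W] [DistribMulAction H W] (r : ℕ) [Fact r.Prime]
    [Module (ZMod r) W] : H →* Module.End (ZMod r) W where
  toFun h := AddMonoidHom.toZModLinearMap r (DistribSMul.toAddMonoidHom W h)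
  map_one' := by
    apply LinearMap.ext
    intro w
    exact one_smul H w
  map_mul' := by
    intro a b
    apply LinearMap.ext
    intro w
    exact mul_smul a b w

section

variable {H W : Type u} [Group H] [Finite H] [Group.IsSolvable H] [AddCommGroup W] [Finite W] [Nontrivial W]
  [DistribMulAction H W]

theorem card_fix_le_aux {r : ℕ} [hrf : Fact r.Prime] [Module (ZMod r) W]
    (hfaith : ∀ h : H, (∀ w : W, h • w = w) → h = 1)
    (hirr : ∀ X : AddSubgroup W, (∀ g : H, ∀ w ∈ X, g • w ∈ X) → X = ⊥ ∨ X = ⊤) (hI : ¬ Imp H W) {y : H}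
    (hy : y ≠ 1) : Nat.card {w : W // y • w = w} ^ 4 ≤ Nat.card W ^ 3 := by
  classical
  have hfd : FiniteDimensional (ZMod r) W := Module.Finite.of_finite
  set ρ : H →* Module.End (ZMod r) W := rhoH r with hρdef
  have hρ : ∀ (h : H) (w : W), ρ h w = h • w := fun h w => rfl
  have hinj : Function.Injective ρ := by
    rw [injective_iff_map_eq_one]
    intro h hh
    apply hfaith
    intro w
    rw [← hρ, hh]
    rfl
  have hirr' : Irred ρ := by
    intro X hX
    rcases hirr X.toAddSubgroup (by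
      intro g w hw
      exact hX g ⟨w, hw, rfl⟩) with h | h
    · left
      rw [eq_bot_iff]
      intro w hw
      have h1 : w ∈ X.toAddSubgroup := hw
      rw [h, AddSubgroup.mem_bot] at h1
      exact h1
    · right
      rw [eq_top_iff]
      intro w _
      have h1 : w ∈ X.toAddSubgroup := by rw [h]; exact AddSubgroup.mem_top w
      exact h1
  have hprim : NoDecomp ρ := by
    intro m t E ht hm hfin hind hsup hall
    apply hI
    choose σ hσ using hall
    have hne : ∀ i, E i ≠ ⊥ := by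
      intro i h
      have := hfin i
      rw [h, finrank_bot] at this
      omega
    have hinjE : Function.Injective (fun i => (E i).toAddSubgroup) := by
      intro i j hij
      have h1 : E i = E j := Submodule.toAddSubgroup_injective hij
      by_contra hcon
      have h2 := hind.pairwiseDisjoint hcon
      change Disjoint (E i) (E j) at h2
      rw [h1, disjoint_self] at h2
      exact hne j h2
    refine ⟨Set.range (fun i => (E i).toAddSubgroup), Set.finite_range _, ?_, ?_, ?_, ?_, ?_⟩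
    · rw [← Set.image_univ, Set.ncard_image_of_injective _ hinjE, Set.ncard_univ, Nat.card_eq_fintype_card,
        Fintype.card_fin]
      exact ht
    · rintro _ ⟨i, rfl⟩ h
      apply hne i
      apply Submodule.toAddSubgroup_injective
      have h' : (E i).toAddSubgroup = ⊥ := h
      rw [h']
      rfl
    · rintro g _ ⟨i, rfl⟩
      refine ⟨σ g i, ?_⟩
      change (E (σ g i)).toAddSubgroup = g • (E i).toAddSubgroup
      rw [← hσ]
      ext w
      constructor
      · rintro ⟨v, hv, rfl⟩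
        exact ⟨v, hv, rfl⟩
      · rintro ⟨v, hv, rfl⟩
        exact ⟨v, hv, rfl⟩
    · have h1 : iSupIndep (fun i => (E i).toAddSubgroup) :=
        (iSupIndep_map_orderIso_iff (AddSubgroup.toZModSubmodule r : AddSubgroup W ≃o Submodule (ZMod r) W).symm
          (a := E)).2 hind
      exact h1.sSupIndep_range
    · have h1 := (AddSubgroup.toZModSubmodule r : AddSubgroup W ≃o Submodule (ZMod r) W).symm.map_iSup E
      rw [hsup, OrderIso.map_top] at h1
      exact h1.symm
  have h1 := solvable_fix_bound ρ hinj hirr' hprim y hy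
  have h2 : Nat.card {w : W // y • w = w} = r ^ Module.finrank (ZMod r) (Module.End.eigenspace (ρ y) 1) := by
    have h3 := Module.natCard_eq_pow_finrank (K := ZMod r) (V := Module.End.eigenspace (ρ y) 1)
    rw [Nat.card_zmod] at h3
    rw [← h3]
    refine Nat.card_congr (Equiv.subtypeEquivRight fun w => ?_)
    rw [Module.End.mem_eigenspace_iff, one_smul, hρ]
  have h3 : Nat.card W = r ^ Module.finrank (ZMod r) W := by
    have h4 := Module.natCard_eq_pow_finrank (K := ZMod r) (V := W)
    rwa [Nat.card_zmod] at h4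
  rw [h2, h3, ← pow_mul, ← pow_mul]
  exact Nat.pow_le_pow_right hrf.out.pos (by omega)

/-- **S5876** -/
theorem card_fix_le {r : ℕ} (hr : r.Prime) (hrW : ∀ w : W, r • w = 0)
    (hfaith : ∀ h : H, (∀ w : W, h • w = w) → h = 1)
    (hirr : ∀ X : AddSubgroup W, (∀ g : H, ∀ w ∈ X, g • w ∈ X) → X = ⊥ ∨ X = ⊤) (hI : ¬ Imp H W) {y : H}
    (hy : y ≠ 1) : Nat.card {w : W // y • w = w} ^ 4 ≤ Nat.card W ^ 3 := by
  have hrf : Fact r.Prime := ⟨hr⟩
  let _ : Module (ZMod r) W := AddCommGroup.zmodModule hrW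
  exact card_fix_le_aux (r := r) hfaith hirr hI hy

end

end Cfsg.Agent.H855.RC
end

-- part: H855/RC/PrimTwo
section
/-!
# PR2: primitive linear groups with a normal `2`-complement (helper855, S4191)
-/

set_option autoImplicit false
set_option linter.unusedSectionVars false

namespace Cfsg.Agent.H855.RC

open scoped Pointwise commutatorElement
open Cfsg.Agent.H527.RC Cfsg.Agent.H822.Cls Cfsg.Agent.H668.Dim

universe u

/-! ### Counting good vectors -/

theorem many_good {H W : Type u} [Group H] [Finite H] [AddCommGroup W] [Finite W] [DistribMulAction H W]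
    {L : Subgroup H} {p t : ℕ}
    (hfix : ∀ y : H, y ≠ 1 → Nat.card {w : W // y • w = w} ^ 4 ≤ Nat.card W ^ 3)
    (hV : 256 * Nat.card H ^ 4 < Nat.card W) : 3 * Nat.card H < {w : W | Gd p t L w}.ncard := by
  classical
  have := Fintype.ofFinite H
  set N := Nat.card H with hN
  set V := Nat.card W with hVdef
  have hN1 : 1 ≤ N := Nat.card_pos
  have hfix' : ∀ y : H, y ≠ 1 → 4 * N * Nat.card {w : W // y • w = w} ≤ V := by
    intro y hy
    have h1 := hfix y hy
    set c := Nat.card {w : W // y • w = w} with hc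
    by_contra hcon
    push Not at hcon
    have h2 : V ^ 4 < (4 * N * c) ^ 4 := Nat.pow_lt_pow_left hcon (by norm_num)
    have h3 : (4 * N * c) ^ 4 ≤ 256 * N ^ 4 * V ^ 3 := by
      calc (4 * N * c) ^ 4 = 256 * N ^ 4 * c ^ 4 := by ring
        _ ≤ 256 * N ^ 4 * V ^ 3 := Nat.mul_le_mul_left _ h1
    have h4 : 256 * N ^ 4 * V ^ 3 ≤ V * V ^ 3 := Nat.mul_le_mul_right _ hV.le
    have h5 : V * V ^ 3 = V ^ 4 := by ring
    omega
  set B : Set W := {w : W | ¬ Gd p t L w} with hB
  have hsub : B ⊆ ⋃ y ∈ (Finset.univ.filter fun y : H => y ≠ 1), {w : W | y • w = w} := by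
    intro w hw
    have hw' : ¬ Gd p t L w := hw
    unfold Gd at hw'
    push Not at hw'
    obtain ⟨y, -, hy, hbad⟩ := hw'
    rw [Set.mem_iUnion₂]
    refine ⟨y, ?_, hy⟩
    rw [Finset.mem_filter]
    refine ⟨Finset.mem_univ _, ?_⟩
    rintro rfl
    apply hbad
    have h1 : (⁅L, Subgroup.zpowers (1 : H)⁆ : Subgroup H) = ⊥ := by
      rw [Subgroup.zpowers_one_eq_bot, Subgroup.commutator_bot_right]
    rw [h1]
    exact FH.of_subsingleton _
  have h1 : B.ncard ≤ ∑ y ∈ (Finset.univ.filter fun y : H => y ≠ 1), ({w : W | y • w = w}).ncard :=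
    (Set.ncard_le_ncard hsub (Set.toFinite _)).trans (Finset.set_ncard_biUnion_le _ _)
  have h2 : 4 * N * B.ncard ≤ N * V := by
    calc 4 * N * B.ncard ≤ 4 * N * ∑ y ∈ (Finset.univ.filter fun y : H => y ≠ 1), ({w : W | y • w = w}).ncard :=
          Nat.mul_le_mul_left _ h1
      _ = ∑ y ∈ (Finset.univ.filter fun y : H => y ≠ 1), 4 * N * ({w : W | y • w = w}).ncard := by
          rw [Finset.mul_sum]
      _ ≤ ∑ y ∈ (Finset.univ.filter fun y : H => y ≠ 1), V := by
          refine Finset.sum_le_sum fun y hy => ?_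
          exact hfix' y (Finset.mem_filter.1 hy).2
      _ ≤ N * V := by
          rw [Finset.sum_const, smul_eq_mul]
          refine Nat.mul_le_mul_right _ ?_
          rw [hN, Nat.card_eq_fintype_card]
          exact Finset.card_le_univ _
  have h3 : 4 * B.ncard ≤ V := by
    have h4 : N * (4 * B.ncard) ≤ N * V := by
      calc N * (4 * B.ncard) = 4 * N * B.ncard := by ring
        _ ≤ N * V := h2
    exact Nat.le_of_mul_le_mul_left h4 hN1
  have h4 : {w : W | Gd p t L w}.ncard + B.ncard = V := by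
    have h5 : B = {w : W | Gd p t L w}ᶜ := rfl
    rw [h5, Set.ncard_add_ncard_compl]
  have h6 : N ≤ N ^ 4 := Nat.le_self_pow (by norm_num) N
  omega

/-! ### Numbers -/

theorem pow_step {c b n k : ℕ} (hb : 0 < b) (hbc : (b + 1) ^ n ≤ c ^ k * b ^ n) {e : ℕ} (he : b ≤ e) :
    (e + 1) ^ n ≤ c ^ k * e ^ n := by
  have h1 : b * (e + 1) ≤ (b + 1) * e := by linarith only [he]
  have h2 : b ^ n * (e + 1) ^ n ≤ (b + 1) ^ n * e ^ n := by
    rw [← mul_pow, ← mul_pow]
    exact Nat.pow_le_pow_left h1 n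
  have h3 : b ^ n * (e + 1) ^ n ≤ b ^ n * (c ^ k * e ^ n) := by
    calc b ^ n * (e + 1) ^ n ≤ (b + 1) ^ n * e ^ n := h2
      _ ≤ (c ^ k * b ^ n) * e ^ n := Nat.mul_le_mul_right _ hbc
      _ = b ^ n * (c ^ k * e ^ n) := by ring
  exact Nat.le_of_mul_le_mul_left h3 (pow_pos hb n)

/-- `a e ^ n < c ^ (k e - s)` -/
theorem pow_ineq {a b c n k s : ℕ} (hb : 0 < b) (hs : s ≤ k * b) (hbc : (b + 1) ^ n ≤ c ^ k * b ^ n)
    (h0 : a * b ^ n < c ^ (k * b - s)) : ∀ e : ℕ, b ≤ e → a * e ^ n < c ^ (k * e - s) := by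
  intro e he
  induction e, he using Nat.le_induction with
  | base => exact h0
  | succ e he ih =>
    have h1 := pow_step hb hbc he
    have h2 : k * b ≤ k * e := Nat.mul_le_mul_left _ he
    have h3 : k * (e + 1) - s = (k * e - s) + k := by
      rw [Nat.mul_succ]
      omega
    rw [h3, pow_add]
    calc a * (e + 1) ^ n ≤ a * (c ^ k * e ^ n) := Nat.mul_le_mul_left _ h1
      _ = (a * e ^ n) * c ^ k := by ring
      _ < c ^ (k * e - s) * c ^ k := by
        refine Nat.mul_lt_mul_of_pos_right ih ?_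
        rcases Nat.eq_zero_or_pos (c ^ k) with h | h
        · rw [h, zero_mul] at h1
          have := Nat.pos_of_ne_zero (show (e + 1) ^ n ≠ 0 from pow_ne_zero _ (Nat.succ_ne_zero e))
          omega
        · exact h

theorem num_bad {f g e N V : ℕ} (hf : 0 < f) (hg : g ^ 2 ≤ f) (he6 : 6 ≤ e) (hN : N ≤ g * (f - 1) * e ^ 8)
    (hV : f ^ e ≤ V) (h : 256 * e ^ 32 < f ^ (e - 6)) : 256 * N ^ 4 < V := by
  have h1 : N ^ 4 ≤ f ^ 6 * e ^ 32 := by
    calc N ^ 4 ≤ (g * (f - 1) * e ^ 8) ^ 4 := Nat.pow_le_pow_left hN 4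
      _ = (g ^ 2) ^ 2 * (f - 1) ^ 4 * e ^ 32 := by ring
      _ ≤ f ^ 2 * f ^ 4 * e ^ 32 := by
          gcongr
          omega
      _ = f ^ 6 * e ^ 32 := by ring
  calc 256 * N ^ 4 ≤ f ^ 6 * (256 * e ^ 32) := by
        calc 256 * N ^ 4 ≤ 256 * (f ^ 6 * e ^ 32) := Nat.mul_le_mul_left _ h1
          _ = f ^ 6 * (256 * e ^ 32) := by ring
    _ < f ^ 6 * f ^ (e - 6) := Nat.mul_lt_mul_of_pos_left h (pow_pos hf 6)
    _ = f ^ e := by rw [← pow_add, Nat.add_sub_cancel' he6]
    _ ≤ V := hV

theorem num_good {f g e N V : ℕ} (hf : 0 < f) (hg : g ^ 2 ≤ f) (he : 3 ≤ 2 * e)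
    (hN : N ≤ g * (f - 1) * e ^ 8) (hN0 : 0 < N)
    (hV : f ^ e ≤ V) (h : 4 * e ^ 16 < f ^ (2 * e - 3)) : 2 * N + 1 < V := by
  have h0 : 0 < g * (f - 1) * e ^ 8 := lt_of_lt_of_le hN0 hN
  have hge : 0 < g * e ^ 8 := by
    rcases Nat.eq_zero_or_pos (g * e ^ 8) with h1 | h1
    · rw [show g * (f - 1) * e ^ 8 = (g * e ^ 8) * (f - 1) by ring, h1, zero_mul] at h0
      exact absurd h0 (lt_irrefl 0)
    · exact h1
  have h1 : 2 * N + 2 ≤ 2 * g * f * e ^ 8 := by
    obtain ⟨f', rfl⟩ := Nat.exists_eq_succ_of_ne_zero hf.ne'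
    rw [Nat.succ_sub_one] at hN
    have h2 : 2 * g * (f' + 1) * e ^ 8 = 2 * (g * f' * e ^ 8) + 2 * (g * e ^ 8) := by ring
    rw [Nat.succ_eq_add_one, h2]
    omega
  have h2 : (2 * g * f * e ^ 8) ^ 2 < (f ^ e) ^ 2 := by
    calc (2 * g * f * e ^ 8) ^ 2 = g ^ 2 * f ^ 2 * (4 * e ^ 16) := by ring
      _ ≤ f * f ^ 2 * (4 * e ^ 16) := by gcongr
      _ = f ^ 3 * (4 * e ^ 16) := by ring
      _ < f ^ 3 * f ^ (2 * e - 3) := Nat.mul_lt_mul_of_pos_left h (pow_pos hf 3)
      _ = (f ^ e) ^ 2 := by rw [← pow_add, Nat.add_sub_cancel' he, ← pow_mul, mul_comm e 2]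
  have h3 := lt_of_pow_lt_pow_left₀ 2 (Nat.zero_le _) h2
  omega

theorem sq_le_three_pow (g : ℕ) : g ^ 2 ≤ 3 ^ g := by
  induction g with
  | zero => norm_num
  | succ g ih =>
    rcases Nat.lt_or_ge g 2 with h | h
    · interval_cases g <;> norm_num
    · rw [pow_succ 3 g]
      nlinarith

/-! ### The image on `X_q` -/

section

variable {H W F : Type u} [Group H] [Finite H] [AddCommGroup W] [Finite W] [Nontrivial W] [DistribMulAction H W]
  [Field F] [Finite F] [Module F W] (D : Prim H W F)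

theorem exists_T [Group.IsSolvable H] {q : ℕ} (hq : q.Prime) {L : Subgroup H} [L.Normal] (hodd : ¬ 2 ∣ Nat.card L)
    (hne : im D q L ≠ ⊥) :
    ∃ (t j : ℕ) (T : Subgroup (rho D q).range), t.Prime ∧ t ≠ 2 ∧ t ≠ q ∧ T.Normal ∧ 1 ≤ j ∧ Nat.card T = t ^ j := by
  have hs : Group.IsSolvable (rho D q).range :=
    Group.isSolvable_of_surjective (rho D q).rangeRestrict_surjective
  have hnt : Nontrivial (im D q L) := (Subgroup.nontrivial_iff_ne_bot _).2 hne
  obtain ⟨t, ht, hcore⟩ := exists_core (G := im D q L)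
  have htf : Fact t.Prime := ⟨ht⟩
  have hc : (Cfsg.pCore t (im D q L)).Characteristic := Lib.Cores.pCore_characteristic t
  have htq : t ≠ q := by
    rintro rfl
    exact hcore (im_core D hq L _ (Lib.Cores.pCore_normal t) (Lib.Cores.pCore_isPGroup t))
  obtain ⟨j, hj⟩ := IsPGroup.iff_card.1 (Lib.Cores.pCore_isPGroup (G := im D q L) t)
  have hj0 : 1 ≤ j := by
    by_contra h
    have h0 : j = 0 := by omega
    rw [h0, pow_zero, Subgroup.card_eq_one] at hj
    exact hcore hj
  have hcard : Nat.card ((Cfsg.pCore t (im D q L)).map (im D q L).subtype) = t ^ j := by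
    rw [← hj]
    exact Nat.card_congr (Subgroup.equivMapOfInjective _ _ (im D q L).subtype_injective).toEquiv.symm
  refine ⟨t, j, (Cfsg.pCore t (im D q L)).map (im D q L).subtype, ht, ?_, htq, inferInstance, hj0, hcard⟩
  rintro rfl
  apply hodd
  have h1 : 2 ∣ Nat.card (Cfsg.pCore 2 (im D q L)) := by
    rw [hj]
    exact dvd_pow_self 2 (by omega)
  exact h1.trans ((Subgroup.card_subgroup_dvd_card _).trans (Subgroup.card_map_dvd _ _))

theorem card_mulAut_XQ {Q : Finset ℕ} {m : ℕ → ℕ} (hD : D.Num Q m) {q : ℕ} (hq : q ∈ Q) :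
    Nat.card (MulAut (XQ D q)) = ∏ i : Fin (2 * m q), (q ^ (2 * m q) - q ^ (i : ℕ)) := by
  have : Fact q.Prime := ⟨hD.prime q hq⟩
  exact Transfer.ElemAbAut.card_mulAut q (2 * m q) (fun x y => (XQ_comm D q).mul_comm x y) (cl_pow D q)
    (card_XQ D hD hq)

theorem card_dvd {Q : Finset ℕ} {m : ℕ → ℕ} (hD : D.Num Q m) {q : ℕ} (hq : q ∈ Q) (T : Subgroup (rho D q).range) :
    Nat.card T ∣ ∏ i : Fin (2 * m q), (q ^ (2 * m q) - q ^ (i : ℕ)) := by
  rw [← card_mulAut_XQ D hD hq]
  exact (Subgroup.card_subgroup_dvd_card T).trans (Subgroup.card_subgroup_dvd_card _)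

/-- `(q, m) ≠ (3, 1)` -/
theorem false_three [Group.IsSolvable H] {Q : Finset ℕ} {m : ℕ → ℕ} (hD : D.Num Q m) (hq : 3 ∈ Q) (hm : m 3 = 1)
    {L : Subgroup H} [L.Normal] (hodd : ¬ 2 ∣ Nat.card L) (hne : im D 3 L ≠ ⊥) : False := by
  obtain ⟨t, j, T, ht, ht2, ht3, -, hj, hT⟩ := exists_T D Nat.prime_three hodd hne
  have h1 := card_dvd D hD hq T
  rw [hm, hT] at h1
  have h2 : (∏ i : Fin (2 * 1), (3 ^ (2 * 1) - 3 ^ (i : ℕ))) = 2 ^ 4 * 3 := by
    simp only [Fin.prod_univ_succ, _root_.Nat.reduceMul, _root_.mul_one, _root_.Nat.reducePow, _root_.Fin.isValue, _root_.Fin.coe_ofNat_eq_mod, _root_.Nat.zero_mod, _root_.pow_zero, _root_.Nat.add_one_sub_one, _root_.Finset.univ_unique, _root_.Fin.default_eq_zero, _root_.Fin.val_succ, _root_.Fin.val_eq_zero, _root_.zero_add, _root_.pow_one, _root_.Nat.reduceSub, _root_.Finset.prod_const, _root_.Finset.card_singleton]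
  rw [h2] at h1
  have h3 : t ∣ 2 ^ 4 * 3 := (dvd_pow_self t (by omega)).trans h1
  rcases (ht.dvd_mul).1 h3 with h4 | h4
  · exact ht2 ((Nat.prime_dvd_prime_iff_eq ht Nat.prime_two).1 (ht.dvd_of_dvd_pow h4))
  · exact ht3 ((Nat.prime_dvd_prime_iff_eq ht Nat.prime_three).1 h4)

/-- `(q, m) = (5, 1)` -/
theorem range_five [Group.IsSolvable H] {Q : Finset ℕ} {m : ℕ → ℕ} (hD : D.Num Q m) (hq : 5 ∈ Q) (hm : m 5 = 1)
    {L : Subgroup H} [L.Normal] (hodd : ¬ 2 ∣ Nat.card L) (hne : im D 5 L ≠ ⊥) :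
    Nat.card (rho D 5).range ≤ 50 := by
  obtain ⟨t, j, T, ht, ht2, ht5, hTn, hj, hT⟩ := exists_T D Nat.prime_five hodd hne
  have h1 := card_dvd D hD hq T
  rw [hm, hT] at h1
  have h2 : (∏ i : Fin (2 * 1), (5 ^ (2 * 1) - 5 ^ (i : ℕ))) = 2 ^ 5 * 3 * 5 := by
    simp only [Fin.prod_univ_succ, _root_.Nat.reduceMul, _root_.mul_one, _root_.Nat.reducePow, _root_.Fin.isValue, _root_.Fin.coe_ofNat_eq_mod, _root_.Nat.zero_mod, _root_.pow_zero, _root_.Nat.add_one_sub_one, _root_.Finset.univ_unique, _root_.Fin.default_eq_zero, _root_.Fin.val_succ, _root_.Fin.val_eq_zero, _root_.zero_add, _root_.pow_one, _root_.Nat.reduceSub, _root_.Finset.prod_const, _root_.Finset.card_singleton]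
  rw [h2] at h1
  have h3 : t ∣ 2 ^ 5 * 3 * 5 := (dvd_pow_self t (by omega)).trans h1
  have ht3 : t = 3 := by
    rcases (ht.dvd_mul).1 h3 with h4 | h4
    · rcases (ht.dvd_mul).1 h4 with h5 | h5
      · exact absurd ((Nat.prime_dvd_prime_iff_eq ht Nat.prime_two).1 (ht.dvd_of_dvd_pow h5)) ht2
      · exact (Nat.prime_dvd_prime_iff_eq ht Nat.prime_three).1 h5
    · exact absurd ((Nat.prime_dvd_prime_iff_eq ht Nat.prime_five).1 h4) ht5
  subst ht3
  have hj1 : j = 1 := by
    by_contra hcon
    have h4 : 3 ^ 2 ∣ 2 ^ 5 * 3 * 5 := (pow_dvd_pow 3 (by omega)).trans h1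
    omega
  rw [hj1, pow_one] at hT
  have hcard := card_XQ D hD hq
  rw [hm] at hcard
  have h5 := small_bound (k := 2) Nat.prime_five Nat.prime_three (by norm_num) hcard hTn hT (by
    intro j h1 h2 h3
    interval_cases j
    · exact absurd h3 (by decide)
    · rfl)
  exact h5.trans (by norm_num)

/-- `(q, m) = (3, 2)` -/
theorem range_three [Group.IsSolvable H] {Q : Finset ℕ} {m : ℕ → ℕ} (hD : D.Num Q m) (hq : 3 ∈ Q) (hm : m 3 = 2)
    {L : Subgroup H} [L.Normal] (hodd : ¬ 2 ∣ Nat.card L) (hne : im D 3 L ≠ ⊥) :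
    Nat.card (rho D 3).range ≤ 26244 := by
  obtain ⟨t, j, T, ht, ht2, ht3, hTn, hj, hT⟩ := exists_T D Nat.prime_three hodd hne
  have h1 := card_dvd D hD hq T
  rw [hm, hT] at h1
  have h2 : (∏ i : Fin (2 * 2), (3 ^ (2 * 2) - 3 ^ (i : ℕ))) = 2 ^ 9 * 3 ^ 6 * 5 * 13 := by
    simp only [Fin.prod_univ_succ, _root_.Nat.reduceMul, _root_.Nat.reducePow, _root_.Fin.isValue, _root_.Fin.coe_ofNat_eq_mod, _root_.Nat.zero_mod, _root_.pow_zero, _root_.Nat.add_one_sub_one, _root_.Fin.val_succ, _root_.zero_add, _root_.pow_one, _root_.Nat.reduceSub, _root_.Nat.reduceAdd, _root_.Finset.univ_unique, _root_.Fin.default_eq_zero, _root_.Fin.val_eq_zero, _root_.Finset.prod_const, _root_.Finset.card_singleton]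
  rw [h2] at h1
  have h3 : t ∣ 2 ^ 9 * 3 ^ 6 * 5 * 13 := (dvd_pow_self t (by omega)).trans h1
  have hcard := card_XQ D hD hq
  rw [hm] at hcard
  have ht5 : t = 5 ∨ t = 13 := by
    rcases (ht.dvd_mul).1 h3 with h4 | h4
    · rcases (ht.dvd_mul).1 h4 with h5 | h5
      · rcases (ht.dvd_mul).1 h5 with h6 | h6
        · exact absurd ((Nat.prime_dvd_prime_iff_eq ht Nat.prime_two).1 (ht.dvd_of_dvd_pow h6)) ht2
        · exact absurd ((Nat.prime_dvd_prime_iff_eq ht Nat.prime_three).1 (ht.dvd_of_dvd_pow h6)) ht3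
      · exact Or.inl ((Nat.prime_dvd_prime_iff_eq ht Nat.prime_five).1 h5)
    · exact Or.inr ((Nat.prime_dvd_prime_iff_eq ht (by norm_num)).1 h4)
  rcases ht5 with rfl | rfl
  · have hj1 : j = 1 := by
      by_contra hcon
      have h4 : 5 ^ 2 ∣ 2 ^ 9 * 3 ^ 6 * 5 * 13 := (pow_dvd_pow 5 (by omega)).trans h1
      omega
    rw [hj1, pow_one] at hT
    have h5 := small_bound (k := 4) Nat.prime_three Nat.prime_five (by norm_num) hcard hTn hT (by
      intro j h1 h2 h3
      interval_cases j
      · exact absurd h3 (by decide)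
      · exact absurd h3 (by decide)
      · exact absurd h3 (by decide)
      · rfl)
    exact h5.trans (by norm_num)
  · have hj1 : j = 1 := by
      by_contra hcon
      have h4 : 13 ^ 2 ∣ 2 ^ 9 * 3 ^ 6 * 5 * 13 := (pow_dvd_pow 13 (by omega)).trans h1
      omega
    rw [hj1, pow_one] at hT
    have h5 := small_bound (k := 3) Nat.prime_three (by norm_num) (by norm_num) hcard hTn hT (by
      intro j h1 h2 h3
      interval_cases j
      · exact absurd h3 (by decide)
      · exact absurd h3 (by decide)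
      · rfl
      · exact absurd h3 (by decide))
    exact h5.trans (by norm_num)

/-- if only one prime occurs then `C(A) / S` acts faithfully on `X_q` -/
theorem relIndex_le_range {Q : Finset ℕ} {m : ℕ → ℕ} (hD : D.Num Q m) {q : ℕ} (hQ : ∀ q' ∈ Q, q' = q) :
    D.S.relIndex (Subgroup.centralizer (D.A : Set H)) ≤ Nat.card (rho D q).range := by
  set C := Subgroup.centralizer (D.A : Set H) with hC
  have h1 : D.S.relIndex C = Nat.card (C ⧸ D.S.subgroupOf C) := rfl
  rw [h1]
  let f : C ⧸ D.S.subgroupOf C → (rho D q).range := fun x => (rho D q).rangeRestrict (x.out : C)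
  refine Nat.card_le_card_of_injective f ?_
  intro x y hxy
  have h2 : ((y.out : C) : H)⁻¹ * ((x.out : C) : H) ∈ D.S := by
    refine mem_of_triv D hD (C.mul_mem (C.inv_mem y.out.2) x.out.2) ?_
    intro q' hq'
    rw [hQ q' hq', ← rho_eq_one_iff, map_mul, map_inv]
    have h3 : rho D q ((x.out : C) : H) = rho D q ((y.out : C) : H) := congrArg Subtype.val hxy
    rw [h3, inv_mul_cancel]
  rw [← QuotientGroup.out_eq' x, ← QuotientGroup.out_eq' y, eq_comm, QuotientGroup.eq, Subgroup.mem_subgroupOf]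
  exact h2

/-- `e = q ^ m q` : only one prime occurs -/
theorem only_one {Q : Finset ℕ} {m : ℕ → ℕ} (hD : D.Num Q m) {q : ℕ} (hq : q ∈ Q)
    (he : ∏ q ∈ Q, q ^ m q = q ^ m q) : ∀ q' ∈ Q, q' = q := by
  intro q' hq'
  by_contra hne
  rw [← Finset.mul_prod_erase Q (fun q => q ^ m q) hq] at he
  have h0 : 0 < q ^ m q := pow_pos (hD.prime q hq).pos _
  have h1 : ∏ x ∈ Q.erase q, x ^ m x = 1 := Nat.eq_of_mul_eq_mul_left h0 (by rw [he, mul_one])
  have h2 := Finset.prod_eq_one_iff.1 h1 q' (Finset.mem_erase.2 ⟨hne, hq'⟩)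
  have h3 := Nat.one_lt_pow (by have := hD.one_le q' hq'; omega : m q' ≠ 0) (hD.prime q' hq').one_lt
  omega

/-- the action of the image on `X_q` -/
theorem fh_two_im [Group.IsSolvable H] {Q : Finset ℕ} {m : ℕ → ℕ} (hD : D.Num Q m) {q : ℕ} (hq : q ∈ Q)
    {L : Subgroup H} [L.Normal] (hodd : ¬ 2 ∣ Nat.card L)
    (h : (q = 3 ∧ 2 * m q ≤ 8) ∨ (q = 5 ∧ 2 * m q ≤ 4) ∨ 2 * m q ≤ 2) : FH 2 (im D q L) := by
  have hs : Group.IsSolvable (rho D q).range :=
    Group.isSolvable_of_surjective (rho D q).rangeRestrict_surjective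
  let _ := act ((rho D q).range.subtype.comp (im D q L).subtype)
  have hXf : Finite (Additive (XQ D q)) := inferInstanceAs (Finite (XQ D q))
  refine H273.RC.fhs_odd' (X := Additive (XQ D q)) inferInstance ?_ (hD.prime q hq) (fun x => cl_pow D q x.toMul)
    (card_XQ D hD hq) ?_ (fun N hN hNq => im_core D (hD.prime q hq) L N hN hNq) h
  · rw [← Nat.not_even_iff_odd, even_iff_two_dvd]
    exact fun h1 => hodd (h1.trans (Subgroup.card_map_dvd _ _))
  · intro g hg
    refine Subtype.ext (Subtype.ext ?_)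
    ext x
    exact congrArg Subtype.val (hg (Additive.ofMul x))

end

/-- **PR2** -/
theorem corePrim_two : CorePrim.{u} 2 3 2 4 := by
  classical
  intro H W _ _ _ _ _ _ _ L r hL hr hr2 hrW hfaith hirr hI
  have hLn := hL.normal
  have hirrH : Irr H W := fun X hX => hirr X fun g _ => hX g
  obtain ⟨F, iF, iFin, iMod, ⟨D⟩⟩ := existsPrim H W r hr hrW hfaith hirrH hI
  obtain ⟨Q, m, hD⟩ := H308.ClsNum.exists_num H W F D
  have hAn := D.A_normal
  have hSn := D.S_normal
  have h2Q : 2 ∉ Q := not_mem_Q D Nat.prime_two hL hfaith hirr hD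
  have hfin : Module.Finite F W := Module.Finite.of_finite
  set f := Nat.card F with hf
  set d := Module.finrank F W with hd
  set e := ∏ q ∈ Q, q ^ m q with he
  set N := Nat.card H with hN
  have hN0 : 0 < N := Nat.card_pos
  have hWcard : Nat.card W = f ^ d := Module.natCard_eq_pow_finrank (K := F) (V := W)
  have hf2 : 2 ≤ f := Finite.one_lt_card
  have hd0 : 0 < d := Module.finrank_pos
  have hed : e ≤ d := hD.le_finrank
  have hV : f ^ e ≤ Nat.card W := by
    rw [hWcard]
    exact Nat.pow_le_pow_right (by omega) hed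
  -- `f` is odd
  have hfodd : ¬ 2 ∣ f := by
    intro h
    have h1 : 2 ∣ Nat.card W := by
      rw [hWcard]
      exact h.trans (dvd_pow_self f hd0.ne')
    have : Fact (Nat.Prime 2) := ⟨Nat.prime_two⟩
    obtain ⟨w, hw⟩ := exists_prime_addOrderOf_dvd_card' 2 h1
    have h2 : addOrderOf w ∣ r := addOrderOf_dvd_of_nsmul_eq_zero (hrW w)
    rw [hw] at h2
    exact hr2 ((Nat.prime_dvd_prime_iff_eq Nat.prime_two hr).1 h2).symm
  obtain ⟨p, k, hp, hpk⟩ : ∃ p k : ℕ, p.Prime ∧ f = p ^ k := by
    have : Fintype F := Fintype.ofFinite F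
    obtain ⟨p, _, k, hp, hF⟩ := FiniteField.card' F
    exact ⟨p, k, hp, by rw [hf, Nat.card_eq_fintype_card, hF]⟩
  have hk0 : k ≠ 0 := by
    rintro rfl
    rw [pow_zero] at hpk
    omega
  have hp3 : 3 ≤ p := by
    have h1 := hp.two_le
    rcases Nat.lt_or_ge p 3 with h | h
    · exfalso
      have h2 : p = 2 := by omega
      apply hfodd
      rw [hpk, h2]
      exact dvd_pow_self 2 hk0
    · exact h
  -- the Galois group
  set g := Nat.card D.σ.range with hg
  have hgk : g ≤ k := H120.RC.card_range_le D hp hpk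
  have hg3 : 3 ^ g ≤ f := by
    rw [hpk]
    exact (Nat.pow_le_pow_right (by norm_num) hgk).trans (Nat.pow_le_pow_left hp3 k)
  have hg2 : g ^ 2 ≤ f := (sq_le_three_pow g).trans hg3
  have hNle : N ≤ g * (f - 1) * e ^ 8 := H120.RC.card_le D hD
  -- the primes
  have hqf : ∀ q ∈ Q, 2 * q + 1 ≤ f ∧ 3 ≤ q ∧ q ∣ f - 1 ∧ q.Prime := by
    intro q hq
    have h1 := hD.prime q hq
    have h2 := hD.dvd q hq
    have hq2 : q ≠ 2 := fun h => h2Q (h ▸ hq)
    have h3 := h1.two_le
    have h4 : 2 ∣ f - 1 := by omega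
    have h5 : 2 * q ∣ f - 1 :=
      Nat.Coprime.mul_dvd_of_dvd_of_dvd ((Nat.coprime_primes Nat.prime_two h1).2 (Ne.symm hq2)) h4 h2
    have h6 := Nat.le_of_dvd (by (clear * - hf2; omega)) h5
    exact ⟨by (clear * - hf2 h6; omega), by omega, h2, h1⟩
  have hqe : ∀ q ∈ Q, q ^ m q ∣ e := fun q hq => Finset.dvd_prod_of_mem _ hq
  have he0 : 0 < e := Finset.prod_pos fun q hq => pow_pos (hD.prime q hq).pos _
  have hf15 : f ≠ 15 := by
    intro h
    have h3 : 3 ∣ p ^ k := by rw [← hpk, h]; norm_num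
    have h5 : 5 ∣ p ^ k := by rw [← hpk, h]; norm_num
    have h3' := (Nat.prime_dvd_prime_iff_eq Nat.prime_three hp).1 (Nat.prime_three.dvd_of_dvd_pow h3)
    have h5' := (Nat.prime_dvd_prime_iff_eq Nat.prime_five hp).1 (Nat.prime_five.dvd_of_dvd_pow h5)
    omega
  by_cases hbad : ∀ y : H, PEl 2 y → FH 3 (⁅L, Subgroup.zpowers y⁆ : Subgroup H)
  · -- all vectors are good
    by_cases hFH : FH 2 L
    · exact Or.inl hFH
    right
    -- some image is nontrivial
    obtain ⟨q, hq, hne⟩ : ∃ q ∈ Q, im D q L ≠ ⊥ := by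
      by_contra hcon
      push Not at hcon
      apply hFH
      have h1 : FH 1 (L ⊓ Subgroup.centralizer (D.A : Set H) : Subgroup H) := by
        by_contra h
        obtain ⟨q, hq, h2⟩ := exists_part D hD (t := 0) inf_le_right h
        apply h2
        rw [FH.zero_iff, ← not_nontrivial_iff_subsingleton, Subgroup.nontrivial_iff_ne_bot, not_not, eq_bot_iff,
          ← hcon q hq]
        exact im_mono D inf_le_left
      let φ : L →* (F ≃+* F) := D.σ.comp L.subtype
      have h2 : FH 1 φ.ker := by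
        have h3 : ∀ x : φ.ker, ((x : L) : H) ∈ (L ⊓ Subgroup.centralizer (D.A : Set H) : Subgroup H) := by
          intro x
          refine ⟨(x : L).2, ?_⟩
          rw [← D.σ_ker]
          exact x.2
        let ψ : φ.ker →* (L ⊓ Subgroup.centralizer (D.A : Set H) : Subgroup H) :=
          (L.subtype.comp φ.ker.subtype).codRestrict _ h3
        refine h1.of_injective ψ ?_
        intro a b hab
        have h4 : (ψ a : H) = (ψ b : H) := congrArg Subtype.val hab
        exact Subtype.ext (Subtype.ext h4)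
      have h3 : FH 1 φ.range := by
        rw [FH.one_iff]
        have h5 : ∀ a b : φ.range, a * b = b * a := fun a b => Subtype.ext (ringEquiv_comm _ _)
        let _ : CommGroup φ.range := { (inferInstance : Group φ.range) with mul_comm := h5 }
        infer_instance
      exact FH.of_hom φ h2 h3
    obtain ⟨hf1, hq3, hqd, hqp⟩ := hqf q hq
    have hm1 := hD.one_le q hq
    have hqme := hqe q hq
    -- the inequality
    have key : 2 * N + 1 < Nat.card W := by
      have hqm : q ^ m q ≤ e := Nat.le_of_dvd he0 hqme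
      have hge : ∀ s c : ℕ, 2 ≤ s → c ≤ f → s ≤ e → 4 * s ^ 16 < c ^ (2 * s - 3) → (s + 1) ^ 16 ≤ c ^ 2 * s ^ 16 →
          2 * N + 1 < Nat.card W := by
        intro s c hs hc hse h1 h2
        refine num_good (by omega) hg2 (by omega) hNle hN0 hV ?_
        have h3 := pow_ineq (k := 2) (s := 3) (by omega) (by omega) h2 h1 e hse
        exact h3.trans_le (Nat.pow_le_pow_left hc _)
      have hq5 : q = 3 ∨ q = 5 ∨ q = 7 ∨ q = 11 ∨ 13 ≤ q := by
        by_contra hcon
        push Not at hcon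
        obtain ⟨h1, h2, h3, h4, h5⟩ := hcon
        have h6 : q < 13 := h5
        interval_cases q <;> first | (clear * - h1 h2 h3 h4; omega) | exact absurd hqp (by decide)
      rcases hq5 with rfl | rfl | rfl | rfl | hq13
      · -- `q = 3`
        rcases Nat.lt_or_ge (m 3) 2 with h2 | h2
        · exact (false_three D hD hq (by omega) hL.cop hne).elim
        have h9 : 9 ∣ e := (pow_dvd_pow 3 h2).trans hqme
        obtain ⟨e', he'⟩ := h9
        rcases Nat.lt_or_ge e 18 with h18 | h18
        · have he9 : e = 9 := by omega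
          have hm2 : m 3 = 2 := by
            by_contra h
            have h3 : 3 ^ 3 ≤ 3 ^ m 3 := Nat.pow_le_pow_right (by norm_num) (by omega)
            omega
          rcases Nat.lt_or_ge f 13 with h13 | h13
          · have hf7 : f = 7 := by
              have h3 : 3 ∣ f - 1 := hqd
              omega
            have hg1 : g ≤ 1 := by
              by_contra h
              have h3 : 3 ^ 2 ≤ 3 ^ g := Nat.pow_le_pow_right (by norm_num) (by omega)
              omega
            have h3 : D.S.relIndex (Subgroup.centralizer (D.A : Set H)) ≤ 26244 :=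
              (relIndex_le_range D hD (only_one D hD hq (by rw [← he, he9, hm2]; norm_num))).trans
                (range_three D hD hq hm2 hL.cop hne)
            have h4 := H120.RC.card_eq D
            have h5 : Nat.card D.A ≤ 6 := (H120.RC.card_A_le D).trans (by rw [← hf, hf7])
            rw [hD.relIndex, ← he, he9, ← hN, ← hg] at h4
            have h6 : N ≤ 1 * 26244 * 9 ^ 2 * 6 := by
              rw [h4]
              gcongr
            rw [he9, hf7] at hV
            have h7 : (7 : ℕ) ^ 9 = 40353607 := by norm_num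
            omega
          · exact hge 9 13 (by norm_num) h13 he9.ge (by norm_num) (by norm_num)
        · exact hge 18 7 (by norm_num) (by omega) h18 (by norm_num) (by norm_num)
      · -- `q = 5`
        have h5 : 5 ∣ e := (dvd_pow_self 5 (by omega)).trans hqme
        rcases Nat.lt_or_ge e 10 with h10 | h10
        · have he5 : e = 5 := by omega
          have hm1' : m 5 = 1 := by
            by_contra h
            have h3 : 5 ^ 2 ≤ 5 ^ m 5 := Nat.pow_le_pow_right (by norm_num) (by omega)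
            omega
          have h3 : D.S.relIndex (Subgroup.centralizer (D.A : Set H)) ≤ 50 :=
            (relIndex_le_range D hD (only_one D hD hq (by rw [← he, he5, hm1']; norm_num))).trans
              (range_five D hD hq hm1' hL.cop hne)
          have h4 := H120.RC.card_eq D
          have h5 : Nat.card D.A ≤ f - 1 := H120.RC.card_A_le D
          rw [hD.relIndex, ← he, he5, ← hN, ← hg] at h4
          have h6 : N ≤ g * 50 * 5 ^ 2 * (f - 1) := by
            rw [h4]
            gcongr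
          rw [he5] at hV
          have hFf : Finite (F ≃+* F) := DFunLike.finite _
          have hg0 : 0 < g := Nat.card_pos
          have h7 : (2500 * g * f) ^ 2 < (f ^ 5) ^ 2 := by
            calc (2500 * g * f) ^ 2 = 6250000 * g ^ 2 * f ^ 2 := by ring
              _ ≤ 6250000 * f * f ^ 2 := by gcongr
              _ = 6250000 * f ^ 3 := by ring
              _ < f ^ 7 * f ^ 3 := by
                refine Nat.mul_lt_mul_of_pos_right ?_ (by positivity)
                calc 6250000 < 11 ^ 7 := by norm_num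
                  _ ≤ f ^ 7 := Nat.pow_le_pow_left (by omega) 7
              _ = (f ^ 5) ^ 2 := by ring
          have h8 := lt_of_pow_lt_pow_left₀ 2 (Nat.zero_le _) h7
          have h9 : 2 * (g * 50 * 5 ^ 2 * (f - 1)) + 2 ≤ 2500 * g * f := by
            obtain ⟨f', hf'⟩ : ∃ f', f = f' + 1 := ⟨f - 1, by (clear * - hf1; omega)⟩
            rw [hf', Nat.add_sub_cancel]
            linarith only [hg0]
          omega
        · exact hge 10 11 (by norm_num) (by omega) h10 (by norm_num) (by norm_num)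
      · -- `q = 7`
        have h7 : 7 ∣ e := (dvd_pow_self 7 (by omega)).trans hqme
        have h29 : 29 ≤ f := by
          have h3 : 7 ∣ f - 1 := hqd
          (clear * - hfodd hf15 hf1 hqd; omega)
        exact hge 7 29 (by norm_num) h29 (Nat.le_of_dvd he0 h7) (by norm_num) (by norm_num)
      · -- `q = 11`
        have h11 : 11 ∣ e := (dvd_pow_self 11 (by omega)).trans hqme
        exact hge 11 23 (by norm_num) (by omega) (Nat.le_of_dvd he0 h11) (by norm_num) (by norm_num)
      · have h13 : q ≤ e := Nat.le_of_dvd he0 ((dvd_pow_self q (by omega)).trans hqme)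
        exact hge 13 7 (by norm_num) (by omega) (by omega) (by norm_num) (by norm_num)
    -- four orbits
    have h3 : 2 * Nat.card H < ({w : W | w ≠ 0}).ncard := by
      have h4 : ({w : W | w ≠ 0}).ncard = Nat.card W - 1 := by
        have h5 : {w : W | w ≠ 0} = ({0} : Set W)ᶜ := rfl
        rw [h5, Set.ncard_compl, Set.ncard_singleton]
      rw [h4]
      omega
    obtain ⟨fo, h4, h5⟩ := orbs_of_card 2 _ h3
    refine ⟨Fin.cons 0 fo, fun i y hy _ => hbad y hy, ?_⟩
    intro i j
    refine Fin.cases ?_ (fun i => ?_) i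
    · refine Fin.cases (fun _ _ => rfl) (fun j h hh => ?_) j
      exfalso
      rw [Fin.cons_zero, Fin.cons_succ, smul_zero] at hh
      exact h4 j hh.symm
    · refine Fin.cases (fun h hh => ?_) (fun j h hh => ?_) j
      · exfalso
        rw [Fin.cons_succ, Fin.cons_zero] at hh
        exact h4 i ((smul_eq_zero_iff_eq h).1 hh)
      · rw [Fin.cons_succ, Fin.cons_succ] at hh
        rw [h5 i j h hh]
  · -- bad elements
    push Not at hbad
    obtain ⟨y, -, hy⟩ := hbad
    obtain ⟨q, hq, h1⟩ := exists_part D hD (t := 2) (D.commutator_le L (Subgroup.zpowers y)) hy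
    have h2 : ¬ FH 2 (im D q L) := fun h => h1 (FH.of_le (im_mono D (Subgroup.commutator_le_left _ _)) h)
    have h3 : ¬ ((q = 3 ∧ 2 * m q ≤ 8) ∨ (q = 5 ∧ 2 * m q ≤ 4) ∨ 2 * m q ≤ 2) := fun h =>
      h2 (fh_two_im D hD hq hL.cop h)
    obtain ⟨hf1, hq3, hqd, hqp⟩ := hqf q hq
    have hqm : q ^ m q ≤ e := Nat.le_of_dvd he0 (hqe q hq)
    have hge : ∀ s c : ℕ, 6 ≤ s → c ≤ f → s ≤ e → 256 * s ^ 32 < c ^ (1 * s - 6) →
        (s + 1) ^ 32 ≤ c ^ 1 * s ^ 32 → 256 * N ^ 4 < Nat.card W := by
      intro s c hs hc hse h1 h2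
      refine num_bad (by omega) hg2 (by omega) hNle hV ?_
      have h3 := pow_ineq (k := 1) (s := 6) (by omega) (by omega) h2 h1 e hse
      rw [one_mul] at h3
      exact h3.trans_le (Nat.pow_le_pow_left hc _)
    have key : 256 * N ^ 4 < Nat.card W := by
      rcases Nat.lt_or_ge q 7 with h7 | h7
      · have h125 : 125 ≤ e := by
          have h4 : q = 3 ∨ q = 5 := by
            interval_cases q
            · exact Or.inl rfl
            · exact absurd hqp (by decide)
            · exact Or.inr rfl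
            · exact absurd hqp (by decide)
          rcases h4 with rfl | rfl
          · have h5 : 3 ^ 5 ≤ 3 ^ m 3 := Nat.pow_le_pow_right (by norm_num) (by (clear * - h3; omega))
            omega
          · have h5 : 5 ^ 3 ≤ 5 ^ m 5 := Nat.pow_le_pow_right (by norm_num) (by omega)
            omega
        exact hge 125 7 (by norm_num) (by omega) h125 (by norm_num) (by norm_num)
      · have h49 : 49 ≤ e := by
          have h5 : q ^ 2 ≤ q ^ m q := Nat.pow_le_pow_right (by omega) (by omega)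
          nlinarith only [hqm, h7, h5]
        have h23 : 23 ≤ f := by
          have h5 : q = 7 ∨ 11 ≤ q := by
            by_contra hcon
            push Not at hcon
            obtain ⟨h5, h6⟩ := hcon
            interval_cases q <;> first | (clear * - h5; omega) | exact absurd hqp (by decide)
          rcases h5 with rfl | h5
          · have h3 : 7 ∣ f - 1 := hqd
            (clear * - hfodd hf15 hf1 hqd; omega)
          · omega
        exact hge 49 23 (by norm_num) h23 h49 (by norm_num) (by norm_num)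
    right
    have h4 := many_good (L := L) (p := 2) (t := 3)
      (fun y hy => card_fix_le hr hrW hfaith hirrH hI hy) key
    exact orbs_of_card 3 _ h4

end Cfsg.Agent.H855.RC
end

private theorem dce_fb7f8e7bd827 : _root_.True := by
  try have : _root_.True := by simp only [_root_.Cfsg.Agent.H242.RC.E.congr_simp]
  try have : _root_.True := by simp only [_root_.Cfsg.Agent.H242.RC.E.eq_1]
  exact _root_.True.intro
end

-- part: H675/RC/PrThree
section
prune_inst 0xd00055005500002010000090510002202400009000000000418007460209404200020000098004020002000000010028124c043040000000000004000000060900a0100020400000020080000004000000000000000000000000000000000000000000000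
set_option linter.all false
open scoped Cfsg.Agent.FastGrp

-- part: H675/RC/PrimA
section
/-!
# S4191 : primitive linear groups with a normal `p`-complement (helper675)
-/

set_option autoImplicit false
set_option linter.unusedSectionVars false
set_option linter.style.haveILetI false

namespace Cfsg.Agent.H675.RC

open Cfsg.Agent.H527.RC Cfsg.Agent.H822.Cls Cfsg.Agent.H668.Dim
open scoped Pointwise commutatorElement

universe u

section Schur

variable {H W : Type u} [Group H] [AddCommGroup W] [Finite W] [Nontrivial W] [DistribMulAction H W]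

/-- elements centralizing an irreducible subgroup commute -/
theorem comm_of_cent (L : Subgroup H) (hf : ∀ h : H, (∀ w : W, h • w = w) → h = 1)
    (hirr : ∀ X : AddSubgroup W, (∀ g ∈ L, ∀ w ∈ X, g • w ∈ X) → X = ⊥ ∨ X = ⊤) {x y : H}
    (hx : ∀ l ∈ L, l * x = x * l) (hy : ∀ l ∈ L, l * y = y * l) : x * y = y * x := by
  classical
  let E : Subring (AddMonoid.End W) :=
    Subring.centralizer (Set.range fun l : L => DistribMulAction.toAddMonoidEnd H W (l : H))
  have hE : ∀ f : AddMonoid.End W, f ∈ E ↔ ∀ l ∈ L, ∀ w : W, l • f w = f (l • w) := by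
    intro f
    rw [Subring.mem_centralizer_iff]
    constructor
    · intro h l hl w
      exact DFunLike.congr_fun (h _ ⟨⟨l, hl⟩, rfl⟩) w
    · rintro h _ ⟨l, rfl⟩
      ext w
      exact h l l.2 w
  have hEf : Finite E := by
    have : Finite (AddMonoid.End W) := DFunLike.finite _
    infer_instance
  have hinj : ∀ f : E, f ≠ 0 → Function.Injective (f : AddMonoid.End W) := by
    intro f hf0
    have h1 := hirr (f : AddMonoid.End W).ker (by
      intro g hg w hw
      have hw' : (f : AddMonoid.End W) w = 0 := hw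
      show (f : AddMonoid.End W) (g • w) = 0
      rw [← (hE f).1 f.2 g hg w, hw', smul_zero])
    rcases h1 with h1 | h1
    · exact (AddMonoidHom.ker_eq_bot_iff _).1 h1
    · exfalso
      apply hf0
      apply Subtype.ext
      ext w
      have : w ∈ (f : AddMonoid.End W).ker := by rw [h1]; trivial
      exact this
  have hE1 : Nontrivial E := by
    refine ⟨0, 1, ?_⟩
    intro h
    obtain ⟨w, hw⟩ := exists_ne (0 : W)
    apply hw
    have h2 : (0 : AddMonoid.End W) = 1 := congrArg Subtype.val h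
    have := DFunLike.congr_fun h2 w
    exact this.symm
  have hdom : (NoZeroDivisors E :) := by
    refine ⟨?_⟩
    intro a b hab
    by_cases ha : a = 0
    · exact Or.inl ha
    · right
      apply Subtype.ext
      ext w
      apply hinj a ha
      have h2 : (a : AddMonoid.End W) * (b : AddMonoid.End W) = 0 := congrArg Subtype.val hab
      have := DFunLike.congr_fun h2 w
      change (a : AddMonoid.End W) ((b : AddMonoid.End W) w) = 0 at this
      rw [this]
      exact (map_zero _).symm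
  have hdom' : (IsDomain E :) := NoZeroDivisors.to_isDomain E
  have hfld := Finite.isDomain_to_isField E
  have hmem : ∀ z : H, (∀ l ∈ L, l * z = z * l) → DistribMulAction.toAddMonoidEnd H W z ∈ E := by
    intro z hz
    rw [hE]
    intro l hl w
    change l • z • w = z • l • w
    rw [smul_smul, smul_smul, hz l hl]
  have h3 := (hfld.mul_comm ⟨_, hmem x hx⟩ ⟨_, hmem y hy⟩ :)
  have h4 : DistribMulAction.toAddMonoidEnd H W x * DistribMulAction.toAddMonoidEnd H W y =
      DistribMulAction.toAddMonoidEnd H W y * DistribMulAction.toAddMonoidEnd H W x := congrArg Subtype.val h3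
  have h5 : ∀ w : W, (x * y) • w = (y * x) • w := by
    intro w
    have := DFunLike.congr_fun h4 w
    rw [mul_smul, mul_smul]
    exact this
  have h6 : (y * x)⁻¹ * (x * y) = 1 := hf _ fun w => by rw [mul_smul, h5, inv_smul_smul]
  exact (inv_mul_eq_one.1 h6).symm

end Schur

theorem pel_iff_isPGroup {G : Type*} [Group G] {p : ℕ} {y : G} (h : PEl p y) : IsPGroup p (Subgroup.zpowers y) := by
  obtain ⟨k, hk⟩ := h
  rintro ⟨x, i, rfl⟩
  refine ⟨k, Subtype.ext ?_⟩
  show (y ^ i) ^ p ^ k = 1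
  rw [← zpow_natCast, ← zpow_mul, mul_comm i, zpow_mul, zpow_natCast, hk, one_zpow]

section Prim

variable {H W F : Type u} [Group H] [Finite H] [AddCommGroup W] [Finite W] [Nontrivial W]
  [DistribMulAction H W] [Field F] [Finite F] [Module F W] (D : Prim H W F)

/-- the `p`-elements of `S` centralize the normal `p`-complement -/
theorem pel_comm {p : ℕ} (hp : p.Prime) {L : Subgroup H} (hL : LP p L) {t : H} (ht : t ∈ D.S) (hpt : PEl p t) :
    ∀ l ∈ L, l * t = t * l := by
  have hpf : Fact p.Prime := ⟨hp⟩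
  have hLn := hL.normal
  have hnil : Group.IsNilpotent D.S := D.isNilpotent_of_le D.S le_rfl
  obtain ⟨T⟩ : Nonempty (Sylow p D.S) := inferInstance
  have hTn0 : ∀ (p : ℕ) (_ : Fact p.Prime) (P : Sylow p D.S), (P : Subgroup D.S).Normal :=
    (Group.isNilpotent_of_finite_tfae.out 0 3).1 hnil
  have hTn : (T : Subgroup D.S).Normal := hTn0 p ⟨hp⟩ T
  have hTc : (T : Subgroup D.S).Characteristic := Sylow.characteristic_of_normal T hTn
  have hTH : ((T : Subgroup D.S).map D.S.subtype).Normal := by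
    have := D.S_normal
    exact ConjAct.normal_of_characteristic_of_normal
  have htT : t ∈ (T : Subgroup D.S).map D.S.subtype := by
    have h1 : PEl p (⟨t, ht⟩ : D.S) := by
      obtain ⟨k, hk⟩ := hpt
      exact ⟨k, Subtype.ext hk⟩
    obtain ⟨T', hT'⟩ := (pel_iff_isPGroup h1).exists_le_sylow
    have huniq := Sylow.unique_of_normal T hTn
    have h2 : T' = T := Subsingleton.elim _ _
    rw [h2] at hT'
    exact ⟨⟨t, ht⟩, hT' (Subgroup.mem_zpowers _), rfl⟩
  have hTp : IsPGroup p ((T : Subgroup D.S).map D.S.subtype) := T.isPGroup'.map _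
  have hdisj : Disjoint L ((T : Subgroup D.S).map D.S.subtype) := by
    rw [disjoint_iff, eq_bot_iff]
    intro x hx
    rw [Subgroup.mem_bot, ← orderOf_eq_one_iff]
    obtain ⟨k, hk⟩ := hTp ⟨x, hx.2⟩
    have hk' : x ^ p ^ k = 1 := congrArg Subtype.val hk
    refine Nat.eq_one_of_dvd_coprimes (a := Nat.card L) (b := p ^ k) ?_ (Subgroup.orderOf_dvd_natCard L hx.1)
      (orderOf_dvd_of_pow_eq_one hk')
    exact Nat.Coprime.pow_right _ ((Nat.Prime.coprime_iff_not_dvd hp).2 hL.cop).symm
  intro l hl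
  exact Subgroup.commute_of_normal_of_disjoint L _ hLn hTH hdisj l t hl htT

/-- `p` does not divide `|S / A|` -/
theorem mem_A_of_XL {p : ℕ} (hp : p.Prime) {L : Subgroup H} (hL : LP p L)
    (hf : ∀ h : H, (∀ w : W, h • w = w) → h = 1)
    (hirr : ∀ X : AddSubgroup W, (∀ g ∈ L, ∀ w ∈ X, g • w ∈ X) → X = ⊥ ∨ X = ⊤)
    {s : H} (hs : s ∈ XL D p) : s ∈ D.A := by
  have hpf : Fact p.Prime := ⟨hp⟩
  by_contra hsA
  obtain ⟨n, hn, k, hk⟩ := exists_pow_eq s hp
  have ht : s ^ n ∉ D.A := fun h => hsA (pow_mem_iff D hn hs.2 h)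
  have htS : s ^ n ∈ D.S := D.S.pow_mem hs.1 n
  have h1 : ∃ s' ∈ D.S, ⁅s ^ n, s'⁆ ≠ 1 := by
    by_contra hcon
    push Not at hcon
    apply ht
    apply D.cent_le
    rw [Subgroup.mem_centralizer_iff]
    intro y hy
    exact (commutatorElement_eq_one_iff_mul_comm.1 (hcon y hy)).symm
  obtain ⟨s', hs', hne⟩ := h1
  obtain ⟨n', hn', k', hk'⟩ := exists_pow_eq s' hp
  have h2 : ⁅s ^ n, s' ^ n'⁆ ≠ 1 := by
    intro h
    rw [cm_pow_right D htS hs'] at h
    have h3 : ⁅s ^ n, s'⁆ ^ p ^ k = 1 := by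
      rw [← cm_pow_left D htS hs', hk, commutatorElement_one_left]
    apply hne
    rw [← orderOf_eq_one_iff]
    exact Nat.eq_one_of_dvd_coprimes (Nat.Coprime.pow_left k hn') (orderOf_dvd_of_pow_eq_one h3)
      (orderOf_dvd_of_pow_eq_one h)
  apply h2
  rw [commutatorElement_eq_one_iff_mul_comm]
  exact comm_of_cent L hf hirr (pel_comm D hp hL htS ⟨k, hk⟩)
    (pel_comm D hp hL (D.S.pow_mem hs' n') ⟨k', hk'⟩)

theorem not_mem_Q {p : ℕ} (hp : p.Prime) {L : Subgroup H} (hL : LP p L)
    (hf : ∀ h : H, (∀ w : W, h • w = w) → h = 1)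
    (hirr : ∀ X : AddSubgroup W, (∀ g ∈ L, ∀ w ∈ X, g • w ∈ X) → X = ⊥ ∨ X = ⊤)
    {Q : Finset ℕ} {m : ℕ → ℕ} (hD : D.Num Q m) : p ∉ Q := by
  intro hpQ
  have h1 := card_XQ D hD hpQ
  have h2 : ∀ x : XQ D p, x = 1 := by
    intro x
    obtain ⟨s, hs, rfl⟩ := exists_cl D x
    rw [cl_eq_one_iff]
    exact mem_A_of_XL D hp hL hf hirr hs
  have h3 : Nat.card (XQ D p) = 1 := by
    rw [Nat.card_eq_one_iff_unique]
    exact ⟨⟨fun a b => by rw [h2 a, h2 b]⟩, ⟨1⟩⟩
  rw [h1] at h3
  have h4 := hD.one_le p hpQ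
  have h5 : 1 < p ^ (2 * m p) := Nat.one_lt_pow (by omega) hp.one_lt
  omega

theorem comm_le_L {G : Type u} [Group G] {p : ℕ} {L : Subgroup G} (hL : LP p L) (B : Subgroup G) : ⁅L, B⁆ ≤ L := by
  have := hL.normal
  exact Subgroup.commutator_le_left L B

/-- the kernel of the action on `S / A` -/
def TS : Subgroup H where
  carrier := {x | ∀ s ∈ D.S, x * s * x⁻¹ * s⁻¹ ∈ D.A}
  one_mem' := by
    intro s _
    simp
  mul_mem' := by
    intro a b ha hb s hs
    have h1 := ha _ (D.S_normal.conj_mem s hs b)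
    have h2 := hb s hs
    have h3 : a * b * s * (a * b)⁻¹ * s⁻¹ = a * (b * s * b⁻¹) * a⁻¹ * (b * s * b⁻¹)⁻¹ * (b * s * b⁻¹ * s⁻¹) := by
      group
    rw [h3]
    exact D.A.mul_mem h1 h2
  inv_mem' := by
    intro a ha s hs
    have h1 := ha _ (D.S_normal.conj_mem s hs a⁻¹)
    have h3 : a⁻¹ * s * a⁻¹⁻¹ * s⁻¹ = (a * (a⁻¹ * s * a⁻¹⁻¹) * a⁻¹ * (a⁻¹ * s * a⁻¹⁻¹)⁻¹)⁻¹ := by group
    rw [h3]
    exact D.A.inv_mem h1

theorem TS_normal : (TS D).Normal := by
  refine ⟨fun x hx g s hs => ?_⟩
  have h1 := hx _ (D.S_normal.conj_mem s hs g⁻¹)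
  have h3 : g * x * g⁻¹ * s * (g * x * g⁻¹)⁻¹ * s⁻¹ =
      g * (x * (g⁻¹ * s * g⁻¹⁻¹) * x⁻¹ * (g⁻¹ * s * g⁻¹⁻¹)⁻¹) * g⁻¹ := by group
  rw [h3]
  exact D.A_normal.conj_mem _ h1 g

/-- an element acting trivially on `S / A` is harmless -/
theorem comm_le_S_of_triv (L : Subgroup H) {y : H}
    (h : ∀ s ∈ D.S, y * s * y⁻¹ * s⁻¹ ∈ D.A) : ⁅L, Subgroup.zpowers y⁆ ≤ D.S := by
  have hn := TS_normal D
  have hy : y ∈ TS D := h
  have h1 : ⁅L, Subgroup.zpowers y⁆ ≤ TS D :=
    (Subgroup.commutator_mono le_rfl ((Subgroup.zpowers_le).2 hy)).trans (Subgroup.commutator_le_right L (TS D))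
  intro x hx
  exact D.dual x (D.commutator_le _ _ hx) (h1 hx)

theorem fh_one_of_triv (L : Subgroup H) {y : H}
    (h : ∀ s ∈ D.S, y * s * y⁻¹ * s⁻¹ ∈ D.A) : FH 1 (⁅L, Subgroup.zpowers y⁆ : Subgroup H) :=
  FH.one_iff.2 (D.isNilpotent_of_le _ (comm_le_S_of_triv D L h))

/-- some `X_q` on which the image of `L ∩ C(A)` does not have small Fitting height -/
theorem exists_q {t : ℕ} (L : Subgroup H) {Q : Finset ℕ} {m : ℕ → ℕ} (hD : D.Num Q m)
    (h : ¬ FH (t + 1) (L ⊓ Subgroup.centralizer (D.A : Set H) : Subgroup H)) :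
    ∃ q ∈ Q, ¬ FH t ((L ⊓ Subgroup.centralizer (D.A : Set H)).map (rho D q).rangeRestrict) := by
  classical
  by_contra hcon
  push Not at hcon
  apply h
  set LA : Subgroup H := L ⊓ Subgroup.centralizer (D.A : Set H) with hLA
  let f : LA →* (∀ q : Q, LA.map (rho D (q : ℕ)).rangeRestrict) :=
    { toFun := fun x q => ⟨(rho D (q : ℕ)).rangeRestrict (x : H), x, x.2, rfl⟩
      map_one' := by
        funext q
        apply Subtype.ext
        show (rho D (q : ℕ)).rangeRestrict ((1 : LA) : H) = 1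
        rw [Subgroup.coe_one, map_one]
      map_mul' := by
        intro x y
        funext q
        apply Subtype.ext
        show (rho D (q : ℕ)).rangeRestrict ((x * y : LA) : H) =
          (rho D (q : ℕ)).rangeRestrict (x : H) * (rho D (q : ℕ)).rangeRestrict (y : H)
        rw [Subgroup.coe_mul, map_mul] }
  have hk : ∀ x : f.ker, (x : LA).1 ∈ D.S := by
    intro x
    refine mem_of_triv D hD (x : LA).2.2 ?_
    intro q hq
    rw [← rho_eq_one_iff]
    exact congrArg Subtype.val (congrArg Subtype.val (congrFun (MonoidHom.mem_ker.1 x.2) ⟨q, hq⟩))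
  have hnil : Group.IsNilpotent f.ker := by
    have h1 : Group.IsNilpotent D.S := D.isNilpotent_of_le D.S le_rfl
    let g : f.ker →* D.S :=
      { toFun := fun x => ⟨(x : LA).1, hk x⟩
        map_one' := rfl
        map_mul' := fun _ _ => rfl }
    exact isNilpotent_of_injective g
      (fun a b hab => Subtype.ext (Subtype.ext (congrArg (fun z : D.S => (z : H)) hab))) h1
  refine ⟨f.ker, inferInstance, hnil, ?_⟩
  refine FH.of_injective (QuotientGroup.kerLift f) (QuotientGroup.kerLift_injective f) ?_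
  exact FH.of_family (ι := Q) (Hs := fun q => LA.map (rho D (q : ℕ)).rangeRestrict)
    (fun q => Pi.evalMonoidHom _ q) (fun g hg => funext hg) (fun q => hcon q q.2)

theorem LA_normal {L : Subgroup H} (hLn : L.Normal) :
    (L ⊓ Subgroup.centralizer (D.A : Set H) : Subgroup H).Normal := by
  have hn : (Subgroup.centralizer (D.A : Set H)).Normal := by rw [← D.σ_ker]; infer_instance
  infer_instance

/-- no normal `q`-subgroups in the image on `X_q` -/
theorem no_q {q : ℕ} (hq : q.Prime) {LA : Subgroup H} (hn : LA.Normal)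
    (N : Subgroup (LA.map (rho D q).rangeRestrict))
    (hN : N.Normal) (hNq : IsPGroup q N) : N = ⊥ := by
  classical
  have hqf : Fact q.Prime := ⟨hq⟩
  have hEn : (LA.map (rho D q).rangeRestrict).Normal := hn.map _ (rho D q).rangeRestrict_surjective
  have hRq : IsPGroup q (LA.map (rho D q).rangeRestrict ⊓ Cfsg.pCore q (rho D q).range :
      Subgroup (rho D q).range) :=
    (Lib.Cores.pCore_isPGroup (G := (rho D q).range) q).to_le inf_le_right
  have hNR : N.map (LA.map (rho D q).rangeRestrict).subtype ≤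
      LA.map (rho D q).rangeRestrict ⊓ Cfsg.pCore q (rho D q).range := by
    rw [← Lib.Cores.map_subtype_pCore q hEn]
    exact Subgroup.map_mono (Lib.Cores.le_pCore hN hNq)
  have hRn : (LA.map (rho D q).rangeRestrict ⊓ Cfsg.pCore q (rho D q).range :
      Subgroup (rho D q).range).Normal := inferInstance
  have hss := D.ss q hq (LA ⊓ (LA.map (rho D q).rangeRestrict ⊓ Cfsg.pCore q (rho D q).range).comap
      (rho D q).rangeRestrict) inferInstance (by
    intro x hx
    obtain ⟨k, hk⟩ := hRq ⟨(rho D q).rangeRestrict x, hx.2⟩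
    refine ⟨k, (rho_eq_one_iff D (x ^ q ^ k)).1 ?_⟩
    rw [map_pow]
    have h1 : (rho D q).rangeRestrict x ^ q ^ k = 1 := congrArg Subtype.val hk
    exact congrArg Subtype.val h1)
  rw [eq_bot_iff]
  intro y hy
  have h2 := hNR ⟨y, hy, rfl⟩
  obtain ⟨x, hx, hxy⟩ := y.2
  have h3 : x ∈ LA ⊓ (LA.map (rho D q).rangeRestrict ⊓ Cfsg.pCore q (rho D q).range).comap
      (rho D q).rangeRestrict := by
    refine Subgroup.mem_inf.2 ⟨hx, ?_⟩
    rw [Subgroup.mem_comap, hxy]
    exact h2
  have h4 : rho D q x = 1 := (rho_eq_one_iff D x).2 (hss x h3)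
  rw [Subgroup.mem_bot]
  apply Subtype.ext
  rw [← hxy]
  exact Subtype.ext h4

/-- if `[L, y]` is complicated, so is `L ∩ C(A)` -/
theorem not_fh_LA {t p : ℕ} {L : Subgroup H} (hL : LP p L) {y : H}
    (h : ¬ FH t (⁅L, Subgroup.zpowers y⁆ : Subgroup H)) :
    ¬ FH t (L ⊓ Subgroup.centralizer (D.A : Set H) : Subgroup H) :=
  fun h' => h (h'.of_le (le_inf (comm_le_L hL _) (D.commutator_le _ _)))

/-- `C(A)` is nilpotent-by-abelian over ... : if `L ∩ C(A)` is in `S` then `FH 2 L` -/
theorem fh_two_of_le {L : Subgroup H} (h : L ⊓ Subgroup.centralizer (D.A : Set H) ≤ D.S) : FH 2 L := by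
  have hn : (Subgroup.centralizer (D.A : Set H)).Normal := by rw [← D.σ_ker]; infer_instance
  let f : L →* (F ≃+* F) := D.σ.comp L.subtype
  have hnil : Group.IsNilpotent f.ker := by
    have h1 : Group.IsNilpotent D.S := D.isNilpotent_of_le D.S le_rfl
    have hk : ∀ x : f.ker, (x : L).1 ∈ D.S := by
      intro x
      apply h
      refine ⟨(x : L).2, ?_⟩
      have h2 : (x : L).1 ∈ D.σ.ker := MonoidHom.mem_ker.1 x.2
      rw [D.σ_ker] at h2
      exact h2
    let g : f.ker →* D.S :=
      { toFun := fun x => ⟨(x : L).1, hk x⟩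
        map_one' := rfl
        map_mul' := fun _ _ => rfl }
    exact isNilpotent_of_injective g (fun a b hab => Subtype.ext (Subtype.ext (congrArg (fun z : D.S => (z : H)) hab))) h1
  refine ⟨f.ker, inferInstance, hnil, ?_⟩
  rw [FH.one_iff]
  have hc : ∀ a b : L ⧸ f.ker, a * b = b * a := by
    intro a b
    apply QuotientGroup.kerLift_injective f
    rw [map_mul, map_mul]
    exact ringEquiv_comm _ _
  let _ : CommGroup (L ⧸ f.ker) := { (inferInstance : Group (L ⧸ f.ker)) with mul_comm := hc }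
  infer_instance

end Prim

end Cfsg.Agent.H675.RC
end

-- part: H675/RC/Count
section
/-!
# S4191 : counting good vectors (helper675)
-/

set_option autoImplicit false
set_option linter.unusedSectionVars false
set_option linter.style.haveILetI false

namespace Cfsg.Agent.H675.RC

open Cfsg.Agent.H527.RC Cfsg.Agent.H822.Cls Cfsg.Agent.H668.Dim
open scoped Pointwise commutatorElement

universe u

/-- many points with a property lie in many orbits -/
theorem orbs_of_card {H V : Type*} [Group H] [Finite H] [MulAction H V] [Finite V] (k : ℕ) (Q : V → Prop)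
    (h : k * Nat.card H < Nat.card {v : V // Q v}) : Orbs H (k + 1) Q := by
  classical
  have : Fintype V := Fintype.ofFinite V
  have : Fintype (MulAction.orbitRel.Quotient H V) := Fintype.ofFinite _
  let S : Finset V := Finset.univ.filter Q
  let f : V → MulAction.orbitRel.Quotient H V := fun v => Quotient.mk'' v
  have hS : Nat.card {v : V // Q v} = S.card := by
    rw [Nat.card_eq_fintype_card, Fintype.card_subtype]
  have hfib : ∀ a ∈ S.image f, (S.filter (fun x => f x = a)).card ≤ Nat.card H := by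
    intro a ha
    obtain ⟨v, hv, rfl⟩ := Finset.mem_image.1 ha
    have h1 : (((S.filter (fun x => f x = f v) : Finset V)) : Set V) ⊆ MulAction.orbit H v := by
      intro x hx
      rw [Finset.mem_coe, Finset.mem_filter] at hx
      have := Quotient.exact hx.2
      exact this
    have h2 : (S.filter (fun x => f x = f v)).card ≤ (MulAction.orbit H v).ncard := by
      rw [← Set.ncard_coe_finset]
      exact Set.ncard_le_ncard h1 (Set.toFinite _)
    refine h2.trans ?_
    rw [← MulAction.index_stabilizer]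
    exact Nat.le_of_dvd Nat.card_pos (Subgroup.index_dvd_card _)
  have h1 := Finset.card_le_mul_card_image S (Nat.card H) hfib
  have h2 : k < (S.image f).card := by
    rw [hS] at h
    have h3 := lt_of_lt_of_le h h1
    rw [mul_comm k] at h3
    exact lt_of_mul_lt_mul_left h3 (Nat.zero_le _)
  obtain ⟨T, hT, hTc⟩ := Finset.exists_subset_card_eq (s := S.image f) (n := k + 1) h2
  have e : Fin (k + 1) ≃ T := (Finset.equivFinOfCardEq hTc).symm
  have hrep : ∀ o : T, ∃ v, Q v ∧ f v = o := by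
    intro o
    obtain ⟨v, hv, hvo⟩ := Finset.mem_image.1 (hT o.2)
    exact ⟨v, (Finset.mem_filter.1 hv).2, hvo⟩
  choose g hg1 hg2 using hrep
  refine ⟨fun i => g (e i), fun i => hg1 _, ?_⟩
  intro i j x hx
  apply e.injective
  apply Subtype.ext
  have hx' : x • g (e i) = g (e j) := hx
  rw [← hg2 (e i), ← hg2 (e j), ← hx']
  exact (Quotient.sound ⟨x, rfl⟩ : f (x • g (e i)) = f (g (e i))).symm

section Bad

variable {H W F : Type u} [Group H] [Finite H] [Group.IsSolvable H] [AddCommGroup W] [Finite W] [Nontrivial W]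
  [DistribMulAction H W] [Field F] [Finite F] [Module F W] (D : Prim H W F)

/-- the number of bad vectors -/
theorem card_bad_le {p t : ℕ} (hp : p.Prime) (hp2 : p ≠ 2) (ht : 1 ≤ t) {L : Subgroup H} (hL : LP p L)
    (hf : ∀ h : H, (∀ w : W, h • w = w) → h = 1)
    (hirr : ∀ X : AddSubgroup W, (∀ g ∈ L, ∀ w ∈ X, g • w ∈ X) → X = ⊥ ∨ X = ⊤)
    {Q : Finset ℕ} {m : ℕ → ℕ} (hD : D.Num Q m) (c1 c2 : ℕ) (h1 : ∀ c, c ^ 2 ≤ Nat.card W → c ≤ c1)
    (h2 : ∀ c, c ^ p ≤ Nat.card W → c ≤ c2) :
    Nat.card {w : W // ¬ Gd (V := W) p t L w} ≤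
      Nat.card (Subgroup.centralizer (D.A : Set H)) * c1 + Nat.card H * c2 := by
  classical
  have : Fintype W := Fintype.ofFinite W
  have : Fintype H := Fintype.ofFinite H
  set C := Subgroup.centralizer (D.A : Set H) with hC
  let S1 : Finset H := Finset.univ.filter fun y => y ∈ C ∧ PEl p y ∧ ¬ FH t (⁅L, Subgroup.zpowers y⁆ : Subgroup H)
  let S2 : Finset H := Finset.univ.filter fun y => y ∉ C ∧ PEl p y
  have hsub : (Finset.univ.filter fun w : W => ¬ Gd (V := W) p t L w) ⊆
      (S1.biUnion fun y => Finset.univ.filter fun w : W => y • w = w) ∪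
      (S2.biUnion fun y => Finset.univ.filter fun w : W => y • w = w) := by
    intro w hw
    have hw' := (Finset.mem_filter.1 hw).2
    unfold Gd at hw'
    push Not at hw'
    obtain ⟨y, hy, hyw, hbad⟩ := hw'
    rw [Finset.mem_union, Finset.mem_biUnion, Finset.mem_biUnion]
    by_cases hyC : y ∈ C
    · left
      exact ⟨y, Finset.mem_filter.2 ⟨Finset.mem_univ _, hyC, hy, hbad⟩, Finset.mem_filter.2 ⟨Finset.mem_univ _, hyw⟩⟩
    · right
      exact ⟨y, Finset.mem_filter.2 ⟨Finset.mem_univ _, hyC, hy⟩, Finset.mem_filter.2 ⟨Finset.mem_univ _, hyw⟩⟩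
  have hfix : ∀ y : H, (Finset.univ.filter fun w : W => y • w = w).card = Nat.card {w : W // y • w = w} := by
    intro y
    rw [Nat.card_eq_fintype_card, Fintype.card_subtype]
  have hpQ : p ∉ Q := not_mem_Q D hp hL hf hirr hD
  have e1 : ∀ y ∈ S1, (Finset.univ.filter fun w : W => y • w = w).card ≤ c1 := by
    intro y hy
    obtain ⟨hyC, hyp, hbad⟩ := (Finset.mem_filter.1 hy).2
    rw [hfix]
    apply h1
    obtain ⟨k, hk⟩ := hyp
    have hord : orderOf y ∣ p ^ k := orderOf_dvd_of_pow_eq_one hk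
    refine fixedSq H W F D y hyC ?_ ?_ ?_
    · obtain ⟨j, _, hj⟩ := (Nat.dvd_prime_pow hp).1 hord
      rw [hj]
      exact (hp.odd_of_ne_two hp2).pow
    · refine Nat.Coprime.coprime_dvd_left hord (Nat.Coprime.pow_left k ?_)
      rw [hD.relIndex]
      refine Nat.Coprime.pow_right 2 (Nat.Coprime.prod_right fun q hq => Nat.Coprime.pow_right _ ?_)
      rw [Nat.coprime_primes hp (hD.prime q hq)]
      rintro rfl
      exact hpQ hq
    · by_contra hcon
      push Not at hcon
      exact hbad ((fh_one_of_triv D L hcon).mono ht)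
  have e2 : ∀ y ∈ S2, (Finset.univ.filter fun w : W => y • w = w).card ≤ c2 := by
    intro y hy
    obtain ⟨hyC, hyp⟩ := (Finset.mem_filter.1 hy).2
    rw [hfix]
    apply h2
    exact fixedPow H W F D p hp y hyp hyC
  have hS1 : S1.card ≤ Nat.card C := by
    have h3 : Nat.card C = (Finset.univ.filter fun y : H => y ∈ C).card := by
      rw [← Fintype.card_subtype, ← Nat.card_eq_fintype_card]
    rw [h3]
    refine Finset.card_le_card fun y hy => ?_
    exact Finset.mem_filter.2 ⟨Finset.mem_univ _, (Finset.mem_filter.1 hy).2.1⟩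
  have hS2 : S2.card ≤ Nat.card H := by
    rw [Nat.card_eq_fintype_card]
    exact Finset.card_le_univ _
  calc Nat.card {w : W // ¬ Gd (V := W) p t L w}
      = (Finset.univ.filter fun w : W => ¬ Gd (V := W) p t L w).card := by
        rw [Nat.card_eq_fintype_card, Fintype.card_subtype]
    _ ≤ _ := Finset.card_le_card hsub
    _ ≤ _ := Finset.card_union_le _ _
    _ ≤ S1.card * c1 + S2.card * c2 := add_le_add (Finset.card_biUnion_le_card_mul _ _ _ e1)
        (Finset.card_biUnion_le_card_mul _ _ _ e2)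
    _ ≤ _ := add_le_add (Nat.mul_le_mul_right _ hS1) (Nat.mul_le_mul_right _ hS2)

/-- `|C(A)| ≤ (f - 1) e ^ 8` -/
theorem card_cent_le {Q : Finset ℕ} {m : ℕ → ℕ} (hD : D.Num Q m) :
    Nat.card (Subgroup.centralizer (D.A : Set H)) ≤ (Nat.card F - 1) * (∏ q ∈ Q, q ^ m q) ^ 8 := by
  set C := Subgroup.centralizer (D.A : Set H) with hC
  have h0 : Nat.card C = Nat.card D.A * D.A.relIndex D.S * D.S.relIndex C := by
    rw [← Subgroup.relIndex_bot_left D.A, Subgroup.relIndex_mul_relIndex _ _ _ bot_le D.A_le,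
      Subgroup.relIndex_mul_relIndex _ _ _ bot_le D.S_le, Subgroup.relIndex_bot_left]
  rw [h0, hD.relIndex]
  calc _ ≤ (Nat.card F - 1) * (∏ q ∈ Q, q ^ m q) ^ 2 * (∏ q ∈ Q, q ^ m q) ^ 6 :=
        Nat.mul_le_mul (Nat.mul_le_mul_right _ (H120.RC.card_A_le D)) (H120.RC.relIndex_cent_le D hD)
    _ = _ := by ring

end Bad

end Cfsg.Agent.H675.RC
end

-- part: H675/RC/NumThree
section
/-!
# S4191 : numerical inequalities (helper675)
-/

set_option autoImplicit false

namespace Cfsg.Agent.H675.RC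

theorem succ_pow_le {a b k e : ℕ} (he : b ≤ e) (h : (b + 1) ^ k ≤ a * b ^ k) :
    (e + 1) ^ k ≤ a * e ^ k := by
  rcases Nat.eq_zero_or_pos b with rfl | hb
  · rcases Nat.eq_zero_or_pos k with rfl | hk
    · simpa using h
    · rw [zero_pow hk.ne', mul_zero] at h
      have : 0 < (0 + 1) ^ k := by positivity
      omega
  have h1 : b * (e + 1) ≤ (b + 1) * e := by linarith only [he]
  have h2 : b ^ k * (e + 1) ^ k ≤ b ^ k * (a * e ^ k) := by
    calc b ^ k * (e + 1) ^ k = (b * (e + 1)) ^ k := (mul_pow _ _ _).symm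
      _ ≤ ((b + 1) * e) ^ k := Nat.pow_le_pow_left h1 k
      _ = (b + 1) ^ k * e ^ k := mul_pow _ _ _
      _ ≤ (a * b ^ k) * e ^ k := Nat.mul_le_mul_right _ h
      _ = b ^ k * (a * e ^ k) := by ring
  exact Nat.le_of_mul_le_mul_left h2 (pow_pos hb k)

theorem ind_pow {a b k c e₀ : ℕ} (h0 : b ≤ e₀) (hs : (b + 1) ^ k ≤ a * b ^ k) {g : ℕ} (hag : a ≤ g) {s : ℕ}
    (hbase : c * e₀ ^ k ≤ g ^ s) {e : ℕ} (he : e₀ ≤ e) : c * e ^ k ≤ g ^ (s + (e - e₀)) := by
  induction e, he using Nat.le_induction with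
  | base => simpa using hbase
  | succ e he ih =>
    have h1 := succ_pow_le (h0.trans he) hs
    have h2 : s + (e + 1 - e₀) = s + (e - e₀) + 1 := by omega
    rw [h2, pow_succ]
    calc c * (e + 1) ^ k ≤ c * (a * e ^ k) := Nat.mul_le_mul_left _ h1
      _ = (c * e ^ k) * a := by ring
      _ ≤ g ^ (s + (e - e₀)) * g := Nat.mul_le_mul ih hag

theorem num_a {e f : ℕ} (h : (25 ≤ e ∧ 11 ≤ f) ∨ (49 ≤ e ∧ 5 ≤ f)) : 16 * f ^ 2 * e ^ 16 ≤ f ^ e := by
  rcases h with ⟨he, hf⟩ | ⟨he, hf⟩
  · have h1 : 16 * e ^ 16 ≤ f ^ (e - 2) := by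
      have h2 := ind_pow (a := 2) (b := 25) (k := 16) (c := 16) (e₀ := 25) le_rfl (by norm_num) (g := 11) (by norm_num)
        (s := 23) (by norm_num) he
      refine h2.trans ((Nat.pow_le_pow_left hf _).trans (le_of_eq ?_))
      congr 1
      omega
    calc 16 * f ^ 2 * e ^ 16 = f ^ 2 * (16 * e ^ 16) := by ring
      _ ≤ f ^ 2 * f ^ (e - 2) := Nat.mul_le_mul_left _ h1
      _ = f ^ e := by rw [← pow_add]; congr 1; omega
  · have h1 : 16 * e ^ 16 ≤ f ^ (e - 2) := by
      have h2 := ind_pow (a := 2) (b := 25) (k := 16) (c := 16) (e₀ := 49) (by norm_num) (by norm_num) (g := 5)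
        (by norm_num) (s := 47) (by norm_num) he
      refine h2.trans ((Nat.pow_le_pow_left hf _).trans (le_of_eq ?_))
      congr 1
      omega
    calc 16 * f ^ 2 * e ^ 16 = f ^ 2 * (16 * e ^ 16) := by ring
      _ ≤ f ^ 2 * f ^ (e - 2) := Nat.mul_le_mul_left _ h1
      _ = f ^ e := by rw [← pow_add]; congr 1; omega

theorem num_b {e f : ℕ} (h : (25 ≤ e ∧ 11 ≤ f) ∨ (49 ≤ e ∧ 5 ≤ f)) : 64 * f ^ 6 * e ^ 24 ≤ (f ^ e) ^ 2 := by
  have key : 64 * e ^ 24 ≤ f ^ (2 * e - 6) := by
    rcases h with ⟨he, hf⟩ | ⟨he, hf⟩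
    · have h2 := ind_pow (a := 3) (b := 25) (k := 24) (c := 64) (e₀ := 25) le_rfl (by norm_num) (g := 11) (by norm_num)
        (s := 44) (by norm_num) he
      refine h2.trans ((Nat.pow_le_pow_left hf _).trans (Nat.pow_le_pow_right (by omega) ?_))
      omega
    · have h2 := ind_pow (a := 3) (b := 25) (k := 24) (c := 64) (e₀ := 49) (by norm_num) (by norm_num) (g := 5)
        (by norm_num) (s := 92) (by norm_num) he
      refine h2.trans ((Nat.pow_le_pow_left hf _).trans (Nat.pow_le_pow_right (by omega) ?_))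
      omega
  have he3 : 3 ≤ e := by rcases h with h | h <;> omega
  calc 64 * f ^ 6 * e ^ 24 = f ^ 6 * (64 * e ^ 24) := by ring
    _ ≤ f ^ 6 * f ^ (2 * e - 6) := Nat.mul_le_mul_left _ key
    _ = (f ^ e) ^ 2 := by rw [← pow_add, ← pow_mul]; congr 1; omega

/-- the final count -/
theorem count_main {V N₁ N₂ c₁ c₂ b : ℕ} (hV : 0 < V) (h1 : 16 * N₁ ^ 2 ≤ V) (h2 : 64 * N₂ ^ 3 ≤ V ^ 2) (h3 : 8 * N₂ ≤ V)
    (hc1 : c₁ ^ 2 ≤ V) (hc2 : c₂ ^ 3 ≤ V) (hb : b ≤ N₁ * c₁ + N₂ * c₂) : b + 2 * N₂ < V := by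
  have h4 : 4 * (N₁ * c₁) ≤ V := by
    have : (4 * (N₁ * c₁)) ^ 2 ≤ V ^ 2 := by
      calc (4 * (N₁ * c₁)) ^ 2 = (16 * N₁ ^ 2) * c₁ ^ 2 := by ring
        _ ≤ V * V := Nat.mul_le_mul h1 hc1
        _ = V ^ 2 := by ring
    exact (Nat.pow_le_pow_iff_left two_ne_zero).1 this
  have h5 : 4 * (N₂ * c₂) ≤ V := by
    have : (4 * (N₂ * c₂)) ^ 3 ≤ V ^ 3 := by
      calc (4 * (N₂ * c₂)) ^ 3 = (64 * N₂ ^ 3) * c₂ ^ 3 := by ring
        _ ≤ V ^ 2 * V := Nat.mul_le_mul h2 hc2
        _ = V ^ 3 := by ring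
    exact (Nat.pow_le_pow_iff_left three_ne_zero).1 this
  omega

end Cfsg.Agent.H675.RC
end

-- part: H675/RC/PrThree
section
/-!
# S4191, PR3 : primitive linear groups, `p = 3` (helper675)
-/

set_option autoImplicit false
set_option linter.unusedSectionVars false
set_option linter.style.haveILetI false

namespace Cfsg.Agent.H675.RC

open Cfsg.Agent.H527.RC Cfsg.Agent.H822.Cls Cfsg.Agent.H668.Dim
open scoped Pointwise commutatorElement

universe u

/-- metabelian groups -/
theorem fh_two_of_comm {G : Type u} [Group G] (h : ∀ a ∈ _root_.commutator G, ∀ b ∈ _root_.commutator G, a * b = b * a) :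
    FH 2 G := by
  refine ⟨_root_.commutator G, inferInstance, ?_, ?_⟩
  · let _ : CommGroup (_root_.commutator G) :=
      { (inferInstance : Group (_root_.commutator G)) with mul_comm := fun a b => Subtype.ext (h a a.2 b b.2) }
    infer_instance
  · rw [FH.one_iff]
    have : Group.IsNilpotent (Abelianization G) := inferInstance
    exact this

/-- semilinear groups of dimension one are metabelian -/
theorem fh_two_of_semilinear {H W : Type u} [Group H] [AddCommGroup W] [DistribMulAction H W]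
    (hf : ∀ h : H, (∀ w : W, h • w = w) → h = 1) {K : Type} [Field K] [Finite K] (e : W ≃+ K)
    (hs : ∀ g : H, ∃ (a : K) (σ : K ≃+* K), ∀ v : W, e (g • v) = a * σ (e v)) : FH 2 H := by
  have key : ∀ x ∈ _root_.commutator H, ∃ c : K, ∀ v : W, e (x • v) = c * e v := by
    let T : Subgroup H :=
      { carrier := {x | ∃ c : K, ∀ v : W, e (x • v) = c * e v}
        one_mem' := ⟨1, fun v => by rw [one_smul, one_mul]⟩
        mul_mem' := by
          rintro a b ⟨c, hc⟩ ⟨d, hd⟩
          exact ⟨c * d, fun v => by rw [mul_smul, hc, hd, mul_assoc]⟩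
        inv_mem' := by
          rintro a ⟨c, hc⟩
          refine ⟨c⁻¹, fun v => ?_⟩
          by_cases hc0 : c = 0
          · have h1 : e v = 0 := by
              have := hc (a⁻¹ • v)
              rw [smul_inv_smul, hc0, zero_mul] at this
              exact this
            have h2 : v = 0 := by
              apply e.injective
              rw [h1, map_zero]
            rw [h2, smul_zero, map_zero, mul_zero]
          · have := hc (a⁻¹ • v)
            rw [smul_inv_smul] at this
            rw [this, inv_mul_cancel_left₀ hc0] }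
    have hT : _root_.commutator H ≤ T := by
      rw [_root_.commutator_def, Subgroup.commutator_le]
      intro x _ y _
      obtain ⟨a, σ, h1⟩ := hs x
      obtain ⟨b, τ, h2⟩ := hs y
      refine ⟨a * σ b * (b * τ a)⁻¹, fun v => ?_⟩
      have h3 : ∀ w : W, e ((x * y) • w) = a * σ b * σ (τ (e w)) := by
        intro w
        rw [mul_smul, h1, h2, map_mul, mul_assoc]
      have h4 : ∀ w : W, e ((y * x) • w) = b * τ a * σ (τ (e w)) := by
        intro w
        rw [mul_smul, h2, h1, map_mul, mul_assoc]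
        congr 2
        exact DFunLike.congr_fun (ringEquiv_comm τ σ) (e w)
      have h5 : ⁅x, y⁆ • v = (x * y) • ((y * x)⁻¹ • v) := by
        rw [smul_smul, commutatorElement_def, mul_inv_rev]
        group
      have h6 := h4 ((y * x)⁻¹ • v)
      rw [smul_inv_smul] at h6
      rw [h5, h3, h6]
      by_cases hz : b * τ a = 0
      · rw [hz, zero_mul, mul_zero]
        have h7 : e v = 0 := by rw [h6, hz, zero_mul]
        have h8 : v = 0 := by
          apply e.injective
          rw [h7, map_zero]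
        rw [h8, smul_zero, map_zero, map_zero, map_zero, mul_zero]
      · rw [mul_assoc (a * σ b), inv_mul_cancel_left₀ hz]
    intro x hx
    exact hT hx
  apply fh_two_of_comm
  intro a ha b hb
  obtain ⟨c, hc⟩ := key a ha
  obtain ⟨d, hd⟩ := key b hb
  have h1 : ∀ v : W, (a * b) • v = (b * a) • v := by
    intro v
    apply e.injective
    rw [mul_smul, mul_smul, hc, hd, hd, hc]
    ring
  have h6 : (b * a)⁻¹ * (a * b) = 1 := hf _ fun w => by rw [mul_smul, h1, inv_smul_smul]
  exact (inv_mul_eq_one.1 h6).symm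

/-- transitive solvable linear groups of large dimension over a subfield -/
theorem fh_two_of_transitive {H W F : Type u} [Group H] [Finite H] [Group.IsSolvable H] [AddCommGroup W] [Finite W]
    [Nontrivial W] [DistribMulAction H W] [Field F] [Finite F] [Module F W] (r : ℕ) (hr : r.Prime) (hr3 : r ≠ 3)
    (hrW : ∀ w : W, r • w = 0) (hf : ∀ h : H, (∀ w : W, h • w = w) → h = 1) (hd : 4 ≤ Module.finrank F W)
    (htr : ∀ v w : W, v ≠ 0 → w ≠ 0 → ∃ h : H, h • v = w) : FH 2 H := by
  have hrf : Fact r.Prime := ⟨hr⟩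
  letI hmod : Module (ZMod r) W := AddCommGroup.zmodModule (n := r) hrW
  have hcomm : SMulCommClass H (ZMod r) W :=
    ⟨fun h c w => ZMod.map_smul (DistribSMul.toAddMonoidHom W h) c w⟩
  let ρ : H →* (W ≃ₗ[ZMod r] W) := DistribMulAction.toModuleAut (ZMod r) W
  have hρ : Function.Injective ρ := by
    intro a b hab
    have h1 : ∀ w : W, a • w = b • w := fun w => LinearEquiv.congr_fun hab w
    have h2 : b⁻¹ * a = 1 := hf _ fun w => by rw [mul_smul, h1, inv_smul_smul]
    exact (inv_mul_eq_one.1 h2).symm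
  have htr' : ∀ v w : W, v ≠ 0 → w ≠ 0 → ∃ h : H, ρ h v = w := htr
  rcases S3360.result r (V := W) (G := H) inferInstance ρ hρ htr' with ⟨K, hK1, hK2, e, he⟩ | hcard
  · exact fh_two_of_semilinear hf e he
  · exfalso
    have hfin : Module.Finite F W := Module.Finite.of_finite
    have hW : Nat.card W = Nat.card F ^ Module.finrank F W := Module.natCard_eq_pow_finrank (K := F) (V := W)
    have hfin' : Module.Finite (ZMod r) W := Module.Finite.of_finite
    have hW' : Nat.card W = r ^ Module.finrank (ZMod r) W := by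
      have := Module.natCard_eq_pow_finrank (K := ZMod r) (V := W)
      rwa [Nat.card_zmod] at this
    have h3 : ¬ 3 ∣ Nat.card W := by
      intro h
      rw [hW'] at h
      exact hr3 ((Nat.prime_dvd_prime_iff_eq Nat.prime_three hr).1 (Nat.prime_three.dvd_of_dvd_pow h)).symm
    have hf2 : 2 ≤ Nat.card F := Finite.one_lt_card
    have h4 : Nat.card F ^ 4 ≤ Nat.card W := by
      rw [hW]
      exact Nat.pow_le_pow_right (by omega) hd
    have h5 : Nat.card F ∣ Nat.card W := by
      rw [hW]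
      exact dvd_pow_self _ (by omega)
    have h6 : Nat.card W ≤ 529 := by
      simp only [Set.mem_insert_iff, Set.mem_singleton_iff] at hcard
      omega
    have h7 : Nat.card F < 5 := by
      by_contra hcon
      have : 5 ^ 4 ≤ Nat.card F ^ 4 := Nat.pow_le_pow_left (by omega) 4
      omega
    simp only [Set.mem_insert_iff, Set.mem_singleton_iff] at hcard
    generalize Nat.card F = f at *
    generalize Nat.card W = w at *
    have h8 : f = 2 ∨ f = 3 ∨ f = 4 := by omega
    rcases h8 with rfl | rfl | rfl <;> (clear * - hcard h5 hrW hrf hW' h3 hW; omega)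

/-- the field of scalars -/
theorem card_F {W F : Type u} [AddCommGroup W] [Nontrivial W] [Field F] [Finite F] [Module F W] (r : ℕ)
    (hr : r.Prime) (hrW : ∀ w : W, r • w = 0) : ∃ n : ℕ, 1 ≤ n ∧ Nat.card F = r ^ n := by
  have : Fintype F := Fintype.ofFinite F
  obtain ⟨p, hpc, n, hp, hF⟩ := FiniteField.card' F
  have hrp : p = r := by
    by_contra hne
    obtain ⟨w, hw⟩ := exists_ne (0 : W)
    have h1 : p • w = 0 := by
      rw [← Nat.cast_smul_eq_nsmul F, CharP.cast_eq_zero, zero_smul]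
    have h2 : addOrderOf w ∣ 1 := by
      have h3 : Nat.Coprime p r := (Nat.coprime_primes hp hr).2 hne
      rw [← h3.gcd_eq_one]
      exact Nat.dvd_gcd (addOrderOf_dvd_of_nsmul_eq_zero h1) (addOrderOf_dvd_of_nsmul_eq_zero (hrW w))
    exact hw (AddMonoid.addOrderOf_eq_one_iff.1 (Nat.dvd_one.1 h2))
  refine ⟨n, n.pos, ?_⟩
  rw [Nat.card_eq_fintype_card, hF, hrp]

theorem ge_five {f r n : ℕ} (hr : r.Prime) (hr3 : r ≠ 3) (hn : 1 ≤ n) (hf : f = r ^ n) (h2 : 2 ∣ f - 1) (hf2 : 2 ≤ f) :
    5 ≤ f := by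
  by_contra hcon
  have h3 : f = 3 := by omega
  rw [h3] at hf
  have : r ∣ 3 := by rw [hf]; exact dvd_pow_self r (by omega)
  exact hr3 ((Nat.prime_dvd_prime_iff_eq hr Nat.prime_three).1 this)

theorem ge_eleven {f r n : ℕ} (hr : r.Prime) (hf : f = r ^ n) (h5 : 5 ∣ f - 1) (hf2 : 2 ≤ f) :
    11 ≤ f := by
  by_contra hcon
  have h6 : f = 6 := by omega
  rw [h6] at hf
  have h2 : 2 ∣ r ^ n := by rw [← hf]; norm_num
  have h3 : 3 ∣ r ^ n := by rw [← hf]; norm_num
  have h2' := (Nat.prime_dvd_prime_iff_eq Nat.prime_two hr).1 (Nat.prime_two.dvd_of_dvd_pow h2)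
  have h3' := (Nat.prime_dvd_prime_iff_eq Nat.prime_three hr).1 (Nat.prime_three.dvd_of_dvd_pow h3)
  omega

section Main

variable {H W F : Type u} [Group H] [Finite H] [Group.IsSolvable H] [AddCommGroup W] [Finite W] [Nontrivial W]
  [DistribMulAction H W] [Field F] [Finite F] [Module F W] (D : Prim H W F)

/-- the image of `L ∩ C(A)` on a small `X_q` has Fitting height at most three -/
theorem fh_three_im {L : Subgroup H} (hL : LP 3 L) {Q : Finset ℕ} {m : ℕ → ℕ} (hD : D.Num Q m) {q : ℕ} (hq : q ∈ Q)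
    (h : (q = 2 ∧ 2 * m q ≤ 12) ∨ 2 * m q = 2) :
    FH 3 ((L ⊓ Subgroup.centralizer (D.A : Set H)).map (rho D q).rangeRestrict) := by
  classical
  have hn := LA_normal D hL.normal
  set LA : Subgroup H := L ⊓ Subgroup.centralizer (D.A : Set H) with hLA
  let K : Subgroup (rho D q).range := LA.map (rho D q).rangeRestrict
  let f : K →* MulAut (XQ D q) := (rho D q).range.subtype.comp K.subtype
  letI := act f
  have hsol : Group.IsSolvable K := by
    have : Group.IsSolvable (rho D q).range := Group.isSolvable_of_surjective (rho D q).rangeRestrict_surjective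
    infer_instance
  refine H273.RC.fhs_three (D := K) (X := Additive (XQ D q)) hsol ?_ (hD.prime q hq) ?_ (n := 2 * m q) ?_ ?_ ?_ (by omega)
  · intro h3
    apply hL.cop
    exact h3.trans ((Subgroup.card_map_dvd LA _).trans (Subgroup.card_dvd_of_le inf_le_left))
  · intro x
    have := cl_pow D q x.toMul
    exact congrArg Additive.ofMul this
  · exact card_XQ D hD hq
  · intro g hg
    apply Subtype.ext
    apply Subtype.ext
    ext x
    have := hg (Additive.ofMul x)
    exact congrArg (fun z : XQ D q => (z : H ⧸ D.A)) (congrArg Additive.toMul this)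
  · intro N hN hNq
    exact no_q D (hD.prime q hq) hn N hN hNq

/-- `L ∩ C(A)` acts trivially on `X_2` if it has order four -/
theorem triv_two {L : Subgroup H} (hL : LP 3 L) {Q : Finset ℕ} {m : ℕ → ℕ} (hD : D.Num Q m) (hq : 2 ∈ Q)
    (h : m 2 = 1) : ∀ x ∈ (L ⊓ Subgroup.centralizer (D.A : Set H) : Subgroup H), D.Triv 2 x := by
  have hn := LA_normal D hL.normal
  refine D.ss 2 Nat.prime_two _ hn ?_
  intro x hx
  refine ⟨3, (rho_eq_one_iff D (x ^ 2 ^ 3)).1 ?_⟩
  rw [map_pow, ← orderOf_dvd_iff_pow_eq_one]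
  have h4 : Nat.card (XQ D 2) = 4 := by
    rw [card_XQ D hD hq, h]
    norm_num
  have hfin : Finite (XQ D 2) := Nat.finite_of_card_ne_zero (by omega)
  have h1 : orderOf (rho D 2 x) ∣ 24 := by
    have h5 : orderOf ((MulAut.toPerm (XQ D 2)) (rho D 2 x)) = orderOf (rho D 2 x) :=
      orderOf_injective (MulAut.toPerm (XQ D 2)) (fun a b hab => MulEquiv.toEquiv_injective hab) _
    rw [← h5]
    have h6 : Nat.card (Equiv.Perm (XQ D 2)) = 24 := by
      rw [Nat.card_perm, h4]
      rfl
    rw [← h6]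
    exact orderOf_dvd_natCard _
  have h2 : orderOf (rho D 2 x) ∣ Nat.card L := (orderOf_map_dvd _ x).trans (Subgroup.orderOf_dvd_natCard L hx.1)
  have h3 : Nat.Coprime (orderOf (rho D 2 x)) 3 := by
    rw [Nat.coprime_comm, Nat.Prime.coprime_iff_not_dvd Nat.prime_three]
    intro h
    exact hL.cop (h.trans h2)
  have h7 : orderOf (rho D 2 x) ∣ 8 * 3 := h1
  exact h3.dvd_of_dvd_mul_right h7

theorem le_prod {Q : Finset ℕ} {m : ℕ → ℕ} (hD : D.Num Q m) {q : ℕ} (hq : q ∈ Q) :
    q ^ m q ≤ ∏ q ∈ Q, q ^ m q :=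
  Finset.single_le_prod' (f := fun q => q ^ m q) (fun i hi => Nat.one_le_pow _ _ (hD.prime i hi).pos) hq

end Main

/-- **PR3** -/
theorem corePrim_three : CorePrim.{u} 3 4 2 3 := by
  intro H W _ _ _ _ _ _ _ L r hL hr hr3 hrW hf hirr hprim
  classical
  by_contra hcon
  push Not at hcon
  obtain ⟨hFH, hO⟩ := hcon
  have hIrr : Irr H W := fun X hX => hirr X fun g _ => hX g
  obtain ⟨F, _, _, _, ⟨D⟩⟩ := existsPrim H W r hr hrW hf hIrr hprim
  obtain ⟨Q, m, hD⟩ := H308.ClsNum.exists_num H W F D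
  have h3Q : 3 ∉ Q := not_mem_Q D Nat.prime_three hL hf hirr hD
  have hfin : Module.Finite F W := Module.Finite.of_finite
  have hW : Nat.card W = Nat.card F ^ Module.finrank F W := Module.natCard_eq_pow_finrank (K := F) (V := W)
  have hf2 : 2 ≤ Nat.card F := Finite.one_lt_card
  obtain ⟨n, hn, hFr⟩ := card_F (F := F) (W := W) r hr hrW
  -- a nontrivial part
  have hpart : 4 ≤ ∏ q ∈ Q, q ^ m q := by
    have h1 : ∃ q ∈ Q, ∃ x ∈ (L ⊓ Subgroup.centralizer (D.A : Set H) : Subgroup H), ¬ D.Triv q x := by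
      by_contra hc
      push Not at hc
      exact hFH (fh_two_of_le D fun x hx => mem_of_triv D hD hx.2 fun q hq => hc q hq x hx)
    obtain ⟨q, hq, x, hx, hqx⟩ := h1
    refine le_trans ?_ (le_prod D hD hq)
    have hqp := hD.prime q hq
    have hm1 := hD.one_le q hq
    have hq3 : q ≠ 3 := by rintro rfl; exact h3Q hq
    by_cases hq2 : q = 2
    · subst hq2
      have hm2 : m 2 ≠ 1 := fun h => hqx (triv_two D hL hD hq h x hx)
      calc 4 = 2 ^ 2 := rfl
        _ ≤ 2 ^ m 2 := Nat.pow_le_pow_right (by norm_num) (by omega)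
    · have := hqp.two_le
      calc 4 ≤ q := by omega
        _ = q ^ 1 := (pow_one q).symm
        _ ≤ q ^ m q := Nat.pow_le_pow_right hqp.pos hm1
  by_cases hbad : ∃ y : H, PEl 3 y ∧ ¬ FH 4 (⁅L, Subgroup.zpowers y⁆ : Subgroup H)
  · -- counting
    obtain ⟨y, hy, hyL⟩ := hbad
    obtain ⟨q, hq, hqim⟩ := exists_q D (t := 3) L hD (not_fh_LA D hL hyL)
    have hqp := hD.prime q hq
    have hm1 := hD.one_le q hq
    have hq3 : q ≠ 3 := by rintro rfl; exact h3Q hq
    have hnot : ¬ ((q = 2 ∧ 2 * m q ≤ 12) ∨ 2 * m q = 2) := fun h => hqim (fh_three_im D hL hD hq h)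
    have hqe := le_prod D hD hq
    have hqf := hD.dvd q hq
    have hnum : (25 ≤ ∏ q ∈ Q, q ^ m q ∧ 11 ≤ Nat.card F) ∨ (49 ≤ ∏ q ∈ Q, q ^ m q ∧ 5 ≤ Nat.card F) := by
      by_cases hq2 : q = 2
      · subst hq2
        right
        refine ⟨le_trans ?_ hqe, ge_five hr hr3 hn hFr hqf hf2⟩
        calc 49 ≤ 2 ^ 7 := by norm_num
          _ ≤ 2 ^ m 2 := Nat.pow_le_pow_right (by norm_num) (by omega)
      · have hm2 : 2 ≤ m q := by omega
        have hqm : q ^ 2 ≤ ∏ q ∈ Q, q ^ m q := le_trans (Nat.pow_le_pow_right hqp.pos hm2) hqe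
        by_cases hq5 : q = 5
        · subst hq5
          left
          exact ⟨hqm, ge_eleven hr hFr hqf hf2⟩
        · right
          have hq7 : 7 ≤ q := by
            by_contra hc
            have := hqp.two_le
            have h6 : q = 4 ∨ q = 6 := by (clear * - hq3 hq2 hq5 hc this; omega)
            rcases h6 with rfl | rfl
            · revert hqp; norm_num
            · revert hqp; norm_num
          refine ⟨le_trans (by nlinarith only [hq7]) hqm, ?_⟩
          have := Nat.le_of_dvd (by omega) hqf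
          omega
    set e := ∏ q ∈ Q, q ^ m q with he
    set f := Nat.card F with hfdef
    have hV : f ^ e ≤ Nat.card W := by
      rw [hW]
      exact Nat.pow_le_pow_right (by omega) hD.le_finrank
    have hN1 : Nat.card (Subgroup.centralizer (D.A : Set H)) ≤ f * e ^ 8 :=
      (card_cent_le D hD).trans (Nat.mul_le_mul_right _ (Nat.sub_le _ _))
    have hN2 : Nat.card H ≤ f ^ 2 * e ^ 8 := by
      refine (H120.RC.card_le_log D hD).trans (Nat.mul_le_mul_right _ ?_)
      rw [pow_two]
      exact Nat.mul_le_mul (Nat.log_le_self 2 _) (Nat.sub_le _ _)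
    have na := num_a hnum
    have nb := num_b hnum
    have hVpos : 0 < Nat.card W := Nat.card_pos
    have g1 : 16 * Nat.card (Subgroup.centralizer (D.A : Set H)) ^ 2 ≤ Nat.card W := by
      calc 16 * Nat.card (Subgroup.centralizer (D.A : Set H)) ^ 2 ≤ 16 * (f * e ^ 8) ^ 2 :=
            Nat.mul_le_mul_left _ (Nat.pow_le_pow_left hN1 2)
        _ = 16 * f ^ 2 * e ^ 16 := by ring
        _ ≤ f ^ e := na
        _ ≤ _ := hV
    have g2 : 64 * Nat.card H ^ 3 ≤ Nat.card W ^ 2 := by
      calc 64 * Nat.card H ^ 3 ≤ 64 * (f ^ 2 * e ^ 8) ^ 3 :=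
            Nat.mul_le_mul_left _ (Nat.pow_le_pow_left hN2 3)
        _ = 64 * f ^ 6 * e ^ 24 := by ring
        _ ≤ (f ^ e) ^ 2 := nb
        _ ≤ _ := Nat.pow_le_pow_left hV 2
    have g3 : 8 * Nat.card H ≤ Nat.card W := by
      have h1 : 1 ≤ e ^ 8 := Nat.one_le_pow _ _ (by omega)
      calc 8 * Nat.card H ≤ 8 * (f ^ 2 * e ^ 8) := Nat.mul_le_mul_left _ hN2
        _ ≤ 16 * (f ^ 2 * (e ^ 8 * e ^ 8)) :=
            Nat.mul_le_mul (by norm_num) (Nat.mul_le_mul_left _ (Nat.le_mul_of_pos_right _ h1))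
        _ = 16 * f ^ 2 * e ^ 16 := by ring
        _ ≤ f ^ e := na
        _ ≤ _ := hV
    have hc2 : Nat.findGreatest (fun c => c ^ 3 ≤ Nat.card W) (Nat.card W) ^ 3 ≤ Nat.card W :=
      Nat.findGreatest_spec (P := fun c => c ^ 3 ≤ Nat.card W) (m := 0) (Nat.zero_le _) (by simp)
    have hb := card_bad_le D Nat.prime_three (by norm_num) (t := 4) (by norm_num) hL hf hirr hD
      (Nat.sqrt (Nat.card W)) (Nat.findGreatest (fun c => c ^ 3 ≤ Nat.card W) (Nat.card W))
      (fun c hc => Nat.le_sqrt'.2 hc)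
      (fun c hc => Nat.le_findGreatest (le_trans (Nat.le_self_pow (by norm_num) c) hc) hc)
    have hcount := count_main hVpos g1 g2 g3 (Nat.sqrt_le' _) hc2 hb
    apply hO
    apply orbs_of_card 2
    have h9 : Nat.card {w : W // Gd (V := W) 3 4 L w} + Nat.card {w : W // ¬ Gd (V := W) 3 4 L w} = Nat.card W := by
      rw [← Nat.card_sum]
      exact Nat.card_congr (Equiv.sumCompl _)
    omega
  · -- all vectors are good
    push Not at hbad
    have hgood : ∀ w : W, Gd (V := W) 3 4 L w := fun w y hy _ => hbad y hy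
    by_cases htr : ∀ v w : W, v ≠ 0 → w ≠ 0 → ∃ h : H, h • v = w
    · apply hFH
      exact (fh_two_of_transitive (F := F) r hr hr3 hrW hf (hpart.trans hD.le_finrank) htr).subgroup L
    · push Not at htr
      obtain ⟨v, w, hv, hw, hvw⟩ := htr
      apply hO
      refine ⟨![0, v, w], fun i => hgood _, ?_⟩
      intro i j h hij
      fin_cases i <;> fin_cases j
      · rfl
      · exfalso
        simp only [Fin.zero_eta, Matrix.cons_val_zero, smul_zero, Fin.mk_one, Matrix.cons_val_one] at hij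
        exact hv hij.symm
      · exfalso
        have hij' : h • (0 : W) = w := hij
        rw [smul_zero] at hij'
        exact hw hij'.symm
      · exfalso
        have hij' : h • v = 0 := hij
        exact hv ((smul_eq_zero_iff_eq h).1 hij')
      · rfl
      · exact absurd hij (hvw h)
      · exfalso
        have hij' : h • w = 0 := hij
        exact hw ((smul_eq_zero_iff_eq h).1 hij')
      · exfalso
        have hij' : h • w = v := hij
        exact hvw h⁻¹ (by rw [← hij', inv_smul_smul])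
      · rfl

end Cfsg.Agent.H675.RC
end
end

-- part: H478/RC/Col
section
prune_inst 0xf01079047500002010180590f1003e22b4000092006b0400f58007460f4f5d42854327214b801d11182aa28000050040000800c000000000000004000004002090a212003174ad04360091803083180c00000000000000000000000000041004000000000
set_option linter.all false
open scoped Cfsg.Agent.FastGrp

/-!
# Rigid colourings for `p`-groups (S4191, piece `lin_of_core`)

A group acting as a `p`-group on a finite set: colourings preserved only by the elements acting trivially, with two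
colours (`p` odd), one of them used on less than `1/(p-1)` of the points, or three colours (`p = 2`).
-/

set_option autoImplicit false
set_option linter.unusedSectionVars false
set_option linter.style.haveILetI false

namespace Cfsg.Agent.H478.RC

open MulAction

universe u v

/-- `K` acts on `Ω` through a `p`-group -/
def PAct (p : ℕ) (K : Type*) (Ω : Type*) [Group K] [MulAction K Ω] : Prop :=
  ∀ h : K, ∃ k : ℕ, ∀ x : Ω, h ^ p ^ k • x = x

theorem PAct.sub {p : ℕ} {K Ω : Type*} [Group K] [MulAction K Ω] (h : PAct p K Ω) (N : Subgroup K) : PAct p N Ω := by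
  intro n
  obtain ⟨k, hk⟩ := h n
  exact ⟨k, hk⟩

theorem exists_index {K Ω : Type*} [Group K] [Finite K] [MulAction K Ω] {p : ℕ} [Fact p.Prime] (h : PAct p K Ω) (x : Ω)
    (hx : stabilizer K x ≠ ⊤) : ∃ N : Subgroup K, N.Normal ∧ N.index = p ∧ stabilizer K x ≤ N := by
  classical
  set C : Subgroup K := (toPermHom K Ω).ker with hC
  have hCx : C ≤ stabilizer K x := by
    intro g hg
    rw [hC, MonoidHom.mem_ker] at hg
    rw [mem_stabilizer_iff]
    have := congrArg (fun f : Equiv.Perm Ω => f x) hg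
    simpa using this
  have hP : IsPGroup p (K ⧸ C) := by
    intro q
    induction q using QuotientGroup.induction_on with
    | H g =>
      obtain ⟨k, hk⟩ := h g
      refine ⟨k, ?_⟩
      rw [← QuotientGroup.mk_pow, QuotientGroup.eq_one_iff, hC, MonoidHom.mem_ker]
      ext y
      simpa using hk y
  set S : Subgroup (K ⧸ C) := (stabilizer K x).map (QuotientGroup.mk' C) with hS
  have hS1 : S ≠ ⊤ := by
    intro h1
    apply hx
    have h2 := congrArg (Subgroup.comap (QuotientGroup.mk' C)) h1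
    rw [hS, Subgroup.comap_map_eq, QuotientGroup.ker_mk', Subgroup.comap_top, sup_eq_left.2 hCx] at h2
    exact h2
  obtain ⟨M, hM, hSM⟩ := (eq_top_or_exists_le_coatom S).resolve_left hS1
  obtain ⟨h1, h2⟩ := S0014.coatom_normal_index hP hM
  refine ⟨M.comap (QuotientGroup.mk' C), h1.comap _, ?_, ?_⟩
  · rw [Subgroup.index_comap_of_surjective _ (QuotientGroup.mk'_surjective C), h2]
  · rw [← Subgroup.map_le_iff_le_comap]
    exact hSM

section step

variable {K : Type u} {Ω : Type v} [Group K] [Finite K] [Finite Ω] [MulAction K Ω] {p : ℕ} [Fact p.Prime]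
  (N : Subgroup K) [N.Normal] (x : Ω)

/-- the block of the coset `q` -/
def blk (q : K ⧸ N) : Set Ω := {o | ∃ k : K, (k : K ⧸ N) = q ∧ k • x = o}

variable {N x}

theorem blk_inj (hs : stabilizer K x ≤ N) {q q' : K ⧸ N} {o : Ω} (h : o ∈ blk N x q) (h' : o ∈ blk N x q') : q = q' := by
  obtain ⟨k, rfl, rfl⟩ := h
  obtain ⟨k', rfl, hk⟩ := h'
  rw [QuotientGroup.eq]
  apply hs
  rw [mem_stabilizer_iff, mul_smul, hk, inv_smul_smul]

theorem smul_blk {q : K ⧸ N} {o : Ω} (y : K) (h : o ∈ blk N x q) : y • o ∈ blk N x ((y : K ⧸ N) * q) := by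
  obtain ⟨k, rfl, rfl⟩ := h
  exact ⟨y * k, rfl, mul_smul _ _ _⟩

theorem blk_eq (q : K ⧸ N) : blk N x q = orbit N (q.out • x) := by
  ext o
  constructor
  · rintro ⟨k, hk, rfl⟩
    have h1 : (q.out : K ⧸ N) = q := QuotientGroup.out_eq' q
    rw [← hk] at h1
    have h2 : k * (k⁻¹ * ((k : K ⧸ N).out)) = (k : K ⧸ N).out := by group
    rw [QuotientGroup.eq] at h1
    refine ⟨⟨k * (((k : K ⧸ N).out)⁻¹ * k) * k⁻¹, (inferInstance : N.Normal).conj_mem _ h1 _⟩, ?_⟩
    subst hk
    change (k * (((k : K ⧸ N).out)⁻¹ * k) * k⁻¹) • ((k : K ⧸ N).out • x) = k • x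
    rw [← mul_smul]
    congr 1
    group
  · rintro ⟨n, rfl⟩
    refine ⟨(n : K) * q.out, ?_, mul_smul _ _ _⟩
    rw [QuotientGroup.mk_mul, (QuotientGroup.eq_one_iff _).2 n.2, one_mul, QuotientGroup.out_eq']

theorem mem_orbit_iff_blk {o : Ω} : o ∈ orbit K x ↔ ∃ q : K ⧸ N, o ∈ blk N x q := by
  constructor
  · rintro ⟨k, rfl⟩
    exact ⟨k, k, rfl, rfl⟩
  · rintro ⟨q, k, -, rfl⟩
    exact ⟨k, rfl⟩

/-- the block of a point of the orbit -/
noncomputable def bof (N : Subgroup K) [N.Normal] (x : Ω) (o : Ω) : K ⧸ N := by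
  classical
  exact if h : ∃ q : K ⧸ N, o ∈ blk N x q then h.choose else 1

theorem bof_eq (hs : stabilizer K x ≤ N) {q : K ⧸ N} {o : Ω} (h : o ∈ blk N x q) : bof N x o = q := by
  have h1 : ∃ q : K ⧸ N, o ∈ blk N x q := ⟨q, h⟩
  rw [bof, dif_pos h1]
  exact blk_inj hs h1.choose_spec h

/-- weight of a colouring on a set -/
noncomputable def wt (c : Ω → ℕ) (S : Set Ω) : ℕ := ∑ᶠ o ∈ S, c o

theorem wt_union (hs : stabilizer K x ≤ N) (c : K ⧸ N → Ω → ℕ) :
    wt (fun o => c (bof N x o) o) (orbit K x) = ∑ᶠ q : K ⧸ N, wt (c q) (blk N x q) := by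
  have h1 : orbit K x = ⋃ q : K ⧸ N, blk N x q := by
    ext o
    rw [Set.mem_iUnion]
    exact mem_orbit_iff_blk
  rw [wt, h1, finsum_mem_iUnion]
  · apply finsum_congr
    intro q
    apply finsum_mem_congr rfl
    intro o ho
    rw [bof_eq hs ho]
  · intro q q' hq
    rw [Function.onFun, Set.disjoint_left]
    intro o h1 h2
    exact hq (blk_inj hs h1 h2)
  · intro q
    exact Set.toFinite _

/-- `c` is rigid on the orbit -/
def RigOn (K : Type*) {Ω : Type*} [Group K] [MulAction K Ω] (c : Ω → ℕ) (S : Set Ω) : Prop :=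
  ∀ y : K, (∀ o ∈ S, c (y • o) = c o) → ∀ o ∈ S, y • o = o

theorem exists_pow (hN : N.index = p) {y : K} (hy : y ∉ N) (q q' : K ⧸ N) : ∃ m : ℕ, (y : K ⧸ N) ^ m * q = q' := by
  have h1 : (y : K ⧸ N) ≠ 1 := by
    rw [Ne, QuotientGroup.eq_one_iff]
    exact hy
  have h2 : Subgroup.zpowers (y : K ⧸ N) = ⊤ := zpowers_eq_top_of_prime_card (p := p) hN h1
  have h3 : q' * q⁻¹ ∈ Subgroup.zpowers (y : K ⧸ N) := by rw [h2]; trivial
  rw [← mem_powers_iff_mem_zpowers] at h3
  obtain ⟨m, hm⟩ := h3
  exact ⟨m, by simp only at hm; rw [hm, inv_mul_cancel_right]⟩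

/-- **The step.** -/
theorem rig_step (hs : stabilizer K x ≤ N) (hN : N.index = p) (c : K ⧸ N → Ω → ℕ)
    (hr : ∀ q, RigOn N (c q) (blk N x q)) (hne : ∃ q q' : K ⧸ N, wt (c q) (blk N x q) ≠ wt (c q') (blk N x q')) :
    RigOn K (fun o => c (bof N x o) o) (orbit K x) := by
  intro y hy
  have hyo : ∀ q : K ⧸ N, ∀ o ∈ blk N x q, c ((y : K ⧸ N) * q) (y • o) = c q o := by
    intro q o ho
    have h1 := hy o (mem_orbit_iff_blk (N := N).2 ⟨q, ho⟩)
    simp only at h1
    rwa [bof_eq hs ho, bof_eq hs (smul_blk y ho)] at h1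
  by_cases hyN : y ∈ N
  · intro o ho
    obtain ⟨q, hq⟩ := mem_orbit_iff_blk (N := N).1 ho
    have h2 : ((y : K ⧸ N) * q) = q := by rw [(QuotientGroup.eq_one_iff _).2 hyN, one_mul]
    refine hr q ⟨y, hyN⟩ ?_ o hq
    intro o' ho'
    have h3 := hyo q o' ho'
    rwa [h2] at h3
  · exfalso
    have h1 : ∀ q : K ⧸ N, wt (c ((y : K ⧸ N) * q)) (blk N x ((y : K ⧸ N) * q)) = wt (c q) (blk N x q) := by
      intro q
      -- transport
      have h4 : blk N x ((y : K ⧸ N) * q) = (fun o => y • o) '' blk N x q := by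
        ext o
        constructor
        · intro h
          refine ⟨y⁻¹ • o, ?_, smul_inv_smul y o⟩
          have h5 := smul_blk y⁻¹ h
          rwa [QuotientGroup.mk_inv, inv_mul_cancel_left] at h5
        · rintro ⟨o', ho', rfl⟩
          exact smul_blk y ho'
      rw [wt, h4, finsum_mem_image (MulAction.injective y).injOn]
      exact finsum_mem_congr rfl (hyo q)
    have h2 : ∀ m : ℕ, ∀ q : K ⧸ N, wt (c ((y : K ⧸ N) ^ m * q)) (blk N x ((y : K ⧸ N) ^ m * q)) = wt (c q) (blk N x q) := by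
      intro m
      induction m with
      | zero => intro q; rw [pow_zero, one_mul]
      | succ m ih =>
        intro q
        rw [pow_succ, mul_assoc, ih, h1]
    obtain ⟨q, q', hqq⟩ := hne
    obtain ⟨m, hm⟩ := exists_pow hN hyN q q'
    have h3 := h2 m q
    rw [hm] at h3
    exact hqq h3.symm

end step

/-- **Rigid colourings of the orbits of a `p`-group.** -/
theorem gen_col {p : ℕ} [Fact p.Prime] {J : Type*} (W : ℕ → J → ℕ)
    (hW : ∀ s j, ∃ τ : Fin p → J, ∑ i, W s (τ i) = W (s + 1) j ∧ ∃ i i', W s (τ i) ≠ W s (τ i')) :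
    ∀ (s : ℕ) (K : Type u) (Ω : Type v) [Group K] [Finite K] [Finite Ω] [MulAction K Ω], PAct p K Ω →
      ∀ x : Ω, (orbit K x).ncard = p ^ s → ∀ j : J, ∃ c : Ω → ℕ, (∀ o ∈ orbit K x, ∃ j', c o = W 0 j') ∧
        wt c (orbit K x) = W s j ∧ RigOn K c (orbit K x) := by
  intro s
  induction s with
  | zero =>
    intro K Ω _ _ _ _ hP x hx j
    rw [pow_zero, Set.ncard_eq_one] at hx
    obtain ⟨a, ha⟩ := hx
    refine ⟨fun _ => W 0 j, fun _ _ => ⟨j, rfl⟩, ?_, ?_⟩
    · rw [wt, ha, finsum_mem_singleton]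
    · intro y _ o ho
      have h1 : y • o ∈ orbit K x := by
        obtain ⟨k, rfl⟩ := ho
        exact ⟨y * k, mul_smul _ _ _⟩
      rw [ha, Set.mem_singleton_iff] at h1 ho
      rw [h1, ho]
  | succ s ih =>
    intro K Ω _ _ _ _ hP x hx j
    have hp : p.Prime := Fact.out
    have hst : stabilizer K x ≠ ⊤ := by
      intro h
      have h1 : (orbit K x).ncard = 1 := by
        rw [Set.ncard_eq_one]
        refine ⟨x, ?_⟩
        ext o
        constructor
        · rintro ⟨k, rfl⟩
          have : k ∈ stabilizer K x := by rw [h]; trivial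
          exact this
        · rintro rfl
          exact mem_orbit_self _
      rw [h1] at hx
      have h2 : 1 < p ^ (s + 1) := Nat.one_lt_pow (Nat.succ_ne_zero s) hp.one_lt
      omega
    obtain ⟨N, hNn, hNi, hNs⟩ := exists_index hP x hst
    haveI := hNn
    -- sizes of the blocks
    have hsz : ∀ q : K ⧸ N, (blk N x q).ncard = (blk N x 1).ncard := by
      intro q
      induction q using QuotientGroup.induction_on with
      | H k =>
        have h1 : blk N x (k : K ⧸ N) = (fun o => k • o) '' blk N x 1 := by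
          ext o
          constructor
          · rintro ⟨k', hk', rfl⟩
            refine ⟨k⁻¹ • k' • x, ⟨k⁻¹ * k', ?_, mul_smul _ _ _⟩, smul_inv_smul _ _⟩
            rw [QuotientGroup.mk_mul, hk', QuotientGroup.mk_inv, inv_mul_cancel]
          · rintro ⟨o', ⟨k', hk', rfl⟩, rfl⟩
            refine ⟨k * k', ?_, mul_smul _ _ _⟩
            rw [QuotientGroup.mk_mul, hk', mul_one]
        rw [h1, Set.ncard_image_of_injective _ (MulAction.injective k)]
    have hcard : Nat.card (K ⧸ N) = p := hNi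
    haveI : Fintype (K ⧸ N) := Fintype.ofFinite _
    have hsum : (orbit K x).ncard = p * (blk N x (1 : K ⧸ N)).ncard := by
      have h1 := wt_union (N := N) hNs (fun _ _ => 1) (x := x)
      have h2 : ∀ S : Set Ω, wt (fun _ => 1) S = S.ncard := by
        intro S
        rw [wt]
        exact finsum_one
      rw [h2] at h1
      rw [h1, finsum_congr (fun q => (h2 _).trans (hsz q)), finsum_eq_sum_of_fintype, Finset.sum_const, Finset.card_univ,
        ← Nat.card_eq_fintype_card, hcard, smul_eq_mul]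
    have hblk : ∀ q : K ⧸ N, (orbit N (q.out • x)).ncard = p ^ s := by
      intro q
      rw [← blk_eq, hsz q]
      rw [hx, pow_succ'] at hsum
      exact (Nat.eq_of_mul_eq_mul_left hp.pos hsum).symm
    obtain ⟨τ, hτ, i, i', hii⟩ := hW s j
    have e : (K ⧸ N) ≃ Fin p := Finite.equivFinOfCardEq hcard
    have hex : ∀ q : K ⧸ N, ∃ c : Ω → ℕ, (∀ o ∈ orbit N (q.out • x), ∃ j', c o = W 0 j') ∧
        wt c (orbit N (q.out • x)) = W s (τ (e q)) ∧ RigOn N c (orbit N (q.out • x)) :=
      fun q => ih N Ω (hP.sub N) (q.out • x) (hblk q) (τ (e q))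
    choose c hc1 hc2 hc3 using hex
    refine ⟨fun o => c (bof N x o) o, ?_, ?_, ?_⟩
    · intro o ho
      obtain ⟨q, hq⟩ := mem_orbit_iff_blk (N := N).1 ho
      simp only
      rw [bof_eq hNs hq]
      exact hc1 q o (by rw [← blk_eq]; exact hq)
    · rw [wt_union hNs, ← hτ]
      have h1 : ∀ q : K ⧸ N, wt (c q) (blk N x q) = W s (τ (e q)) := by
        intro q
        rw [blk_eq]
        exact hc2 q
      rw [finsum_congr h1, finsum_eq_sum_of_fintype]
      exact Equiv.sum_comp e (fun i => W s (τ i))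
    · apply rig_step hNs hNi
      · intro q
        rw [blk_eq]
        exact hc3 q
      · refine ⟨e.symm i, e.symm i', ?_⟩
        rw [blk_eq, blk_eq, hc2, hc2, Equiv.apply_symm_apply, Equiv.apply_symm_apply]
        exact hii


theorem orbit_pow {K Ω : Type*} [Group K] [Finite K] [MulAction K Ω] {p : ℕ} [Fact p.Prime] (h : PAct p K Ω) (x : Ω) :
    ∃ s : ℕ, (orbit K x).ncard = p ^ s := by
  classical
  set C : Subgroup K := (toPermHom K Ω).ker with hC
  have hCx : C ≤ stabilizer K x := by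
    intro g hg
    rw [hC, MonoidHom.mem_ker] at hg
    rw [mem_stabilizer_iff]
    have := congrArg (fun f : Equiv.Perm Ω => f x) hg
    simpa using this
  have hP : IsPGroup p (K ⧸ C) := by
    intro q
    induction q using QuotientGroup.induction_on with
    | H g =>
      obtain ⟨k, hk⟩ := h g
      refine ⟨k, ?_⟩
      rw [← QuotientGroup.mk_pow, QuotientGroup.eq_one_iff, hC, MonoidHom.mem_ker]
      ext y
      simpa using hk y
  obtain ⟨n, hn⟩ := hP.index ((stabilizer K x).map (QuotientGroup.mk' C))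
  rw [Subgroup.index_map_eq _ (QuotientGroup.mk'_surjective C) (by rw [QuotientGroup.ker_mk']; exact hCx)] at hn
  exact ⟨n, by rw [← index_stabilizer, hn]⟩

/-- the weights for odd `p` -/
def wOdd (p : ℕ) (s : ℕ) (j : Fin 2) : ℕ := (∑ i ∈ Finset.range s, p ^ i) + j

theorem wOdd_step {p : ℕ} (hp : 3 ≤ p) (s : ℕ) (j : Fin 2) :
    ∃ τ : Fin p → Fin 2, ∑ i, wOdd p s (τ i) = wOdd p (s + 1) j ∧ ∃ i i', wOdd p s (τ i) ≠ wOdd p s (τ i') := by
  refine ⟨fun i => if (i : ℕ) < j + 1 then 1 else 0, ?_, ⟨0, by omega⟩, ⟨2, by omega⟩, ?_⟩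
  · have h1 : ∀ i : Fin p, wOdd p s (if (i : ℕ) < j + 1 then 1 else 0) =
        (∑ i ∈ Finset.range s, p ^ i) + if (i : ℕ) < j + 1 then 1 else 0 := by
      intro i
      rw [wOdd]
      congr 1
      split_ifs <;> rfl
    rw [Finset.sum_congr rfl (fun i _ => h1 i), Finset.sum_add_distrib, Finset.sum_const, Finset.card_univ,
      Fintype.card_fin, wOdd, Finset.sum_range_succ', smul_eq_mul, Finset.mul_sum]
    have h2 : ∑ i : Fin p, (if (i : ℕ) < j + 1 then 1 else 0) = (j : ℕ) + 1 := by
      rw [Fin.sum_univ_eq_sum_range (fun i => if i < (j : ℕ) + 1 then 1 else 0) p, Finset.sum_ite, Finset.sum_const_zero,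
        Finset.sum_const, smul_eq_mul, mul_one, add_zero]
      have h3 : Finset.filter (fun x => x < (j : ℕ) + 1) (Finset.range p) = Finset.range (j + 1) := by
        ext x
        simp only [Finset.mem_filter, Finset.mem_range]
        have := j.2
        omega
      rw [h3, Finset.card_range]
    rw [h2]
    have h3 : ∑ i ∈ Finset.range s, p * p ^ i = ∑ i ∈ Finset.range s, p ^ (i + 1) :=
      Finset.sum_congr rfl (fun i _ => (pow_succ' p i).symm)
    rw [h3, pow_zero]
    ring
  · have := j.2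
    simp only [wOdd]
    rw [if_pos (by omega), if_neg (by omega)]
    simp

/-- the weights for `p = 2` -/
def wTwo : ℕ → Fin 3 → ℕ
  | 0 => fun j => j
  | s + 1 => ![wTwo s 0 + wTwo s 1, wTwo s 0 + wTwo s 2, wTwo s 1 + wTwo s 2]

theorem wTwo_lt (s : ℕ) : wTwo s 0 < wTwo s 1 ∧ wTwo s 1 < wTwo s 2 := by
  induction s with
  | zero => decide
  | succ s ih =>
    change wTwo s 0 + wTwo s 1 < wTwo s 0 + wTwo s 2 ∧ wTwo s 0 + wTwo s 2 < wTwo s 1 + wTwo s 2
    omega

theorem wTwo_step (s : ℕ) (j : Fin 3) :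
    ∃ τ : Fin 2 → Fin 3, ∑ i, wTwo s (τ i) = wTwo (s + 1) j ∧ ∃ i i', wTwo s (τ i) ≠ wTwo s (τ i') := by
  have h := wTwo_lt s
  fin_cases j
  · exact ⟨![0, 1], by simp [Fin.sum_univ_two, wTwo], 0, 1, h.1.ne⟩
  · exact ⟨![0, 2], by simp [Fin.sum_univ_two, wTwo], 0, 1, (h.1.trans h.2).ne⟩
  · exact ⟨![1, 2], by simp [Fin.sum_univ_two, wTwo], 0, 1, h.2.ne⟩

/-- **Rigid colourings of a finite set.** -/
theorem rig_glue {p : ℕ} [Fact p.Prime] {J : Type*} (W : ℕ → J → ℕ)
    (hW : ∀ s j, ∃ τ : Fin p → J, ∑ i, W s (τ i) = W (s + 1) j ∧ ∃ i i', W s (τ i) ≠ W s (τ i'))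
    {H I : Type*} [Group H] [Finite H] [Finite I] [MulAction H I] (hP : PAct p H I) (j : J) :
    ∃ κ : I → ℕ, (∀ i, ∃ j', κ i = W 0 j') ∧ (∀ i, ∃ s, (orbit H i).ncard = p ^ s ∧ wt κ (orbit H i) = W s j) ∧
      ∀ (y : H) (i : I), (∀ o ∈ orbit H i, κ (y • o) = κ o) → y • i = i := by
  classical
  have h1 : ∀ ω : orbitRel.Quotient H I, ∃ c : I → ℕ, (∀ o ∈ orbit H (Quotient.out ω), ∃ j', c o = W 0 j') ∧
      (∃ s, (orbit H (Quotient.out ω)).ncard = p ^ s ∧ wt c (orbit H (Quotient.out ω)) = W s j) ∧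
      RigOn H c (orbit H (Quotient.out ω)) := by
    intro ω
    obtain ⟨s, hs⟩ := orbit_pow hP (Quotient.out ω)
    obtain ⟨c, hc1, hc2, hc3⟩ := gen_col W hW s H I hP (Quotient.out ω) hs j
    exact ⟨c, hc1, ⟨s, hs, hc2⟩, hc3⟩
  choose c hc1 hc2 hc3 using h1
  have h2 : ∀ i : I, orbit H (Quotient.out (⟦i⟧ : orbitRel.Quotient H I)) = orbit H i := by
    intro i
    rw [orbit_eq_iff]
    exact Quotient.mk_out (s := orbitRel H I) i
  have h3 : ∀ i, i ∈ orbit H (Quotient.out (⟦i⟧ : orbitRel.Quotient H I)) := by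
    intro i
    rw [h2]
    exact mem_orbit_self i
  have h4 : ∀ i i' : I, i' ∈ orbit H i → (⟦i'⟧ : orbitRel.Quotient H I) = ⟦i⟧ := fun i i' h => Quotient.sound h
  refine ⟨fun i => c ⟦i⟧ i, fun i => hc1 ⟦i⟧ i (h3 i), ?_, ?_⟩
  · intro i
    obtain ⟨s, hs1, hs2⟩ := hc2 ⟦i⟧
    rw [h2] at hs1 hs2
    refine ⟨s, hs1, ?_⟩
    rw [← hs2, wt, wt]
    apply finsum_mem_congr rfl
    intro o ho
    rw [h4 i o ho]
  · intro y i hy
    apply hc3 ⟦i⟧ y ?_ i (h3 i)
    intro o ho
    rw [h2] at ho
    have h5 := hy o ho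
    have h6 : y • o ∈ orbit H i := by
      obtain ⟨g, rfl⟩ := ho
      exact ⟨y * g, mul_smul _ _ _⟩
    simp only at h5
    rwa [h4 i _ h6, h4 i _ ho] at h5

theorem sum_smul {H I : Type*} [Group H] [Fintype H] [Finite I] [MulAction H I] (κ : I → ℕ) (i : I) :
    (orbit H i).ncard * ∑ t : H, κ (t • i) = Nat.card H * wt κ (orbit H i) := by
  classical
  haveI : Fintype I := Fintype.ofFinite I
  set S : ℕ := (Finset.univ.filter fun t : H => t • i = i).card with hS
  have h1 : ∀ o ∈ (orbit H i).toFinset, (Finset.univ.filter fun t : H => t • i = o).card = S := by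
    intro o ho
    rw [Set.mem_toFinset] at ho
    obtain ⟨g, rfl⟩ := ho
    refine Finset.card_bij' (fun t _ => g⁻¹ * t) (fun t _ => g * t) ?_ ?_ ?_ ?_
    · intro t ht
      simp only [Finset.mem_filter, Finset.mem_univ, true_and] at ht ⊢
      rw [mul_smul, ht]
      exact inv_smul_smul g i
    · intro t ht
      simp only [Finset.mem_filter, Finset.mem_univ, true_and] at ht ⊢
      rw [mul_smul, ht]
    · intro t _
      exact mul_inv_cancel_left g t
    · intro t _
      exact inv_mul_cancel_left g t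
  have h2 : ∀ κ : I → ℕ, ∑ t : H, κ (t • i) = S * wt κ (orbit H i) := by
    intro κ
    have h3 : ∑ t : H, κ (t • i) = ∑ o ∈ (orbit H i).toFinset, ∑ t ∈ Finset.univ.filter (fun t : H => t • i = o), κ (t • i) := by
      refine (Finset.sum_fiberwise_of_maps_to ?_ _).symm
      intro t _
      rw [Set.mem_toFinset]
      exact mem_orbit i t
    rw [h3, wt, finsum_mem_eq_toFinset_sum, Finset.mul_sum]
    apply Finset.sum_congr rfl
    intro o ho
    rw [← h1 o ho, ← smul_eq_mul, ← Finset.sum_const]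
    apply Finset.sum_congr rfl
    intro t ht
    rw [(Finset.mem_filter.1 ht).2]
  have h4 := h2 (fun _ => 1)
  rw [Finset.sum_const, Finset.card_univ, smul_eq_mul, mul_one, ← Nat.card_eq_fintype_card, wt, finsum_one] at h4
  rw [h2 κ, h4]
  ring

/-- **Odd `p`**: a rigid colouring with colours `0, 1` and the average of the colour `1`. -/
theorem exists_odd {p : ℕ} [Fact p.Prime] (hp : 3 ≤ p) {H I : Type*} [Group H] [Fintype H] [Finite I] [MulAction H I]
    (hP : PAct p H I) : ∃ κ : I → ℕ, (∀ i, κ i < 2) ∧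
      (∀ (y : H) (i : I), (∀ o ∈ orbit H i, κ (y • o) = κ o) → y • i = i) ∧
      ∀ i : I, (p - 1) * ∑ t : H, κ (t • i) ≤ Nat.card H := by
  obtain ⟨κ, h1, h2, h3⟩ := rig_glue (wOdd p) (wOdd_step hp) hP 0
  refine ⟨κ, ?_, h3, ?_⟩
  · intro i
    obtain ⟨j, hj⟩ := h1 i
    rw [hj, wOdd, Finset.range_zero, Finset.sum_empty, zero_add]
    exact j.2
  · intro i
    obtain ⟨s, hs1, hs2⟩ := h2 i
    have h4 := sum_smul (H := H) κ i
    rw [hs1, hs2] at h4
    have h5 : wOdd p s 0 = ∑ i ∈ Finset.range s, p ^ i := by rw [wOdd]; rfl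
    have h6 : (p - 1) * ∑ i ∈ Finset.range s, p ^ i = p ^ s - 1 := by
      have h61 : ∀ s : ℕ, (p - 1) * ∑ i ∈ Finset.range s, p ^ i + 1 = p ^ s := by
        intro s
        induction s with
        | zero => simp
        | succ s ih =>
          obtain ⟨q, rfl⟩ : ∃ q, p = q + 1 := ⟨p - 1, by omega⟩
          rw [Nat.add_sub_cancel] at ih ⊢
          rw [Finset.sum_range_succ, mul_add, pow_succ]
          linarith only [ih]
      have := h61 s
      omega
    have h7 : 0 < p ^ s := pow_pos (by omega) s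
    have h8 : p ^ s * ((p - 1) * ∑ t : H, κ (t • i)) = Nat.card H * (p ^ s - 1) := by
      rw [← h6, ← h5]
      calc p ^ s * ((p - 1) * ∑ t : H, κ (t • i)) = (p - 1) * (p ^ s * ∑ t : H, κ (t • i)) := by ring
        _ = _ := by rw [h4]; ring
    have h9 : p ^ s * ((p - 1) * ∑ t : H, κ (t • i)) ≤ p ^ s * Nat.card H := by
      rw [h8, mul_comm (p ^ s)]
      exact Nat.mul_le_mul_left _ (Nat.sub_le _ _)
    exact Nat.le_of_mul_le_mul_left h9 h7

/-- **`p = 2`**: a rigid colouring with colours `0, 1, 2`. -/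
theorem exists_two {H I : Type*} [Group H] [Finite H] [Finite I] [MulAction H I] (hP : PAct 2 H I) :
    ∃ κ : I → ℕ, (∀ i, κ i < 3) ∧ (∀ (y : H) (i : I), (∀ o ∈ orbit H i, κ (y • o) = κ o) → y • i = i) := by
  haveI : Fact (Nat.Prime 2) := ⟨Nat.prime_two⟩
  obtain ⟨κ, h1, -, h3⟩ := rig_glue wTwo wTwo_step hP 0
  refine ⟨κ, ?_, h3⟩
  intro i
  obtain ⟨j, hj⟩ := h1 i
  rw [hj]
  exact j.2

end Cfsg.Agent.H478.RC

private theorem dce_07a909f04407 : _root_.True := by
  try have : _root_.True := by simp only [_root_.Cfsg.Agent.H478.RC.wt.eq_1]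
  try have : _root_.True := by simp only [_root_.Cfsg.Agent.H478.RC.wTwo.eq_def]
  try have : _root_.True := by simp only [_root_.Cfsg.Agent.H478.RC.bof.eq_1]
  try have : _root_.True := by simp only [_root_.Cfsg.Agent.H478.RC.wOdd.eq_1]
  try have : _root_.True := by simp only [_root_.Cfsg.Agent.H478.RC.bof.congr_simp]
  try have : _root_.True := by simp only [_root_.Cfsg.Agent.H478.RC.wTwo.eq_1]
  try have : _root_.True := by simp only [_root_.Cfsg.Agent.H478.RC.wTwo.eq_2]
  exact _root_.True.intro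
end

-- part: H478/RC/LinCore
section
prune_inst 0xf0105d007500002010000590f1001e62a6000092004b0400f5c007460f8f544385422e21fb500f1018b288c4003d8068105804304010000020008600411c06a994a172e2b37cbd04360001807883180c00000000000000000000000000041000000000000
set_option linter.all false
open scoped Cfsg.Agent.FastGrp

-- part: H478/RC/Sub
section
/-!
# Submodularity of the index for `p`-groups (S4191, piece `lin_of_core`)
-/

set_option autoImplicit false
set_option linter.unusedSectionVars false

namespace Cfsg.Agent.H478.RC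

variable {B : Type*} [Group B] [Finite B] {p : ℕ} [Fact p.Prime]

theorem relIndex_pow (hB : IsPGroup p B) (S Y : Subgroup B) : ∃ n : ℕ, S.relIndex Y = p ^ n :=
  (hB.to_subgroup Y).index (S.subgroupOf Y)

theorem nu_inf (Y S : Subgroup B) :
    (Y ⊓ S).index.factorization p = (S.relIndex Y).factorization p + Y.index.factorization p := by
  have h1 : (Y ⊓ S).relIndex Y * Y.index = (Y ⊓ S).index := Subgroup.relIndex_mul_index inf_le_left
  rw [Subgroup.inf_relIndex_left] at h1
  have h2 : S.relIndex Y ≠ 0 := by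
    intro h
    rw [h, zero_mul] at h1
    exact Subgroup.index_ne_zero_of_finite h1.symm
  rw [← h1, Nat.factorization_mul h2 Subgroup.index_ne_zero_of_finite, Finsupp.add_apply]

theorem nu_mono (hB : IsPGroup p B) (S : Subgroup B) {X Y : Subgroup B} (h : X ≤ Y) :
    (S.relIndex X).factorization p ≤ (S.relIndex Y).factorization p := by
  have hp : p.Prime := Fact.out
  obtain ⟨a, ha⟩ := relIndex_pow hB S X
  obtain ⟨b, hb⟩ := relIndex_pow hB S Y
  have h1 : S.relIndex X ≤ S.relIndex Y := by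
    apply Subgroup.relIndex_le_of_le_right h
    rw [hb]
    exact pow_ne_zero _ hp.ne_zero
  rw [ha, hb] at h1 ⊢
  rw [hp.factorization_pow, hp.factorization_pow, Finsupp.single_eq_same, Finsupp.single_eq_same]
  exact (Nat.pow_le_pow_iff_right hp.one_lt).1 h1

/-- **Covering inequality.** -/
theorem shearer (hB : IsPGroup p B) {I T : Type*} [Finite I] [Fintype T] (S : I → Subgroup B) (A : T → Set I) (m : ℕ)
    (hm : ∀ i, m ≤ Nat.card {t // i ∈ A t}) :
    m * ((⨅ i, S i).index.factorization p) ≤ ∑ t, (⨅ i ∈ A t, S i).index.factorization p := by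
  classical
  haveI : Fintype I := Fintype.ofFinite I
  have key : ∀ J : Finset I, m * ((⨅ i ∈ J, S i).index.factorization p) ≤
      ∑ t, (⨅ i ∈ J, ⨅ (_ : i ∈ A t), S i).index.factorization p := by
    intro J
    induction J using Finset.induction_on with
    | empty => simp only [_root_.Finset.notMem_empty, _root_.not_false_eq_true, _root_.iInf_neg, _root_.iInf_top, _root_.Subgroup.index_top, _root_.Nat.factorization_one, _root_.Finsupp.coe_zero, _root_.Pi.zero_apply, _root_.MulZeroClass.mul_zero, _root_.Finset.sum_const_zero, _root_.Std.le_refl]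
    | insert i J hi ih =>
      have h1 : (⨅ j ∈ insert i J, S j) = (⨅ j ∈ J, S j) ⊓ S i := by
        rw [Finset.iInf_insert, inf_comm]
      rw [h1, nu_inf, mul_add]
      have h2 : ∀ t, (⨅ j ∈ J, ⨅ (_ : j ∈ A t), S j).index.factorization p +
          (if i ∈ A t then ((S i).relIndex (⨅ j ∈ J, S j)).factorization p else 0) ≤
          (⨅ j ∈ insert i J, ⨅ (_ : j ∈ A t), S j).index.factorization p := by
        intro t
        rw [Finset.iInf_insert]
        by_cases hit : i ∈ A t
        · rw [if_pos hit]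
          have h3 : (⨅ (_ : i ∈ A t), S i) = S i := by simp [hit]
          rw [h3, inf_comm, nu_inf, add_comm]
          apply Nat.add_le_add_right
          apply nu_mono hB
          apply le_iInf₂
          intro j hj
          apply le_iInf
          intro _
          exact iInf₂_le j hj
        · rw [if_neg hit, add_zero]
          have h3 : (⨅ (_ : i ∈ A t), S i) = ⊤ := by simp [hit]
          rw [h3, top_inf_eq]
      refine le_trans ?_ (Finset.sum_le_sum (fun t _ => h2 t))
      rw [Finset.sum_add_distrib, add_comm]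
      apply Nat.add_le_add ih
      rw [← Finset.sum_filter, Finset.sum_const, smul_eq_mul]
      apply Nat.mul_le_mul_right
      refine (hm i).trans ?_
      rw [Nat.card_eq_fintype_card, Fintype.card_subtype]
  have h1 := key Finset.univ
  simpa only [_root_.ge_iff_le, _root_.Finset.mem_univ, _root_.iInf_pos] using h1

end Cfsg.Agent.H478.RC
end

-- part: H478/RC/LinCore
section
/-!
# `Lin` from `Core` and `Rat` (S4191)
-/

set_option autoImplicit false
set_option linter.unusedSectionVars false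
set_option linter.style.haveILetI false

namespace Cfsg.Agent.H478.RC

open Cfsg.Agent.H527.RC Cfsg.Agent.Omega.EH3.Clif MulAction
open scoped commutatorElement

universe u

variable {H V : Type u} [Group H] [AddCommGroup V] [DistribMulAction H V] {L : Subgroup H}

/-- labels on a simple submodule -/
def Lab (p t q : ℕ) [Fact p.Prime] (Z : Set ℕ) [Finite V] [L.Normal] (U : (Submodule (RL V L) V :))
    (hU : IsSimpleModule (RL V L) U) : Prop :=
  ∃ g : ℕ → U, (∀ j, j ∉ Z → g j ≠ 0) ∧ (FH t (Lt U p hU) ∨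
    ((∀ j < q, Gd (V := U) p t (Lt U p hU) (g j)) ∧ ∀ i < q, ∀ j < q, ∀ γ : Gam U, γ • g i = g j → i = j))

section labels

variable [Finite V] [L.Normal] {p t m : ℕ} [Fact p.Prime] (U : (Submodule (RL V L) V :)) (hU : IsSimpleModule (RL V L) U)

theorem lab_odd {k : ℕ} (hmt : m ≤ t) (hk : 2 ≤ k)
    (h : FH m (Lt U p hU) ∨ Orbs (Gam U) k (Gd (V := U) p t (Lt U p hU))) : Lab p t 2 {1} U hU := by
  classical
  haveI := hU
  haveI : Nontrivial U := IsSimpleModule.nontrivial (RL V L) U
  rcases h with h | ⟨f, hf1, hf2⟩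
  · obtain ⟨u, hu⟩ := exists_ne (0 : U)
    exact ⟨fun _ => u, fun _ _ => hu, Or.inl (FH.mono hmt h)⟩
  · set i0 : Fin k := ⟨0, by omega⟩ with hi0
    set i1 : Fin k := ⟨1, by omega⟩ with hi1
    have h01 : i0 ≠ i1 := by
      intro h
      have := congrArg Fin.val h
      simp [hi0, hi1] at this
    -- a labelling from two indices
    have key : ∀ a b : Fin k, a ≠ b → f a ≠ 0 → Lab p t 2 {1} U hU := by
      intro a b hab ha
      refine ⟨fun j => if j = 1 then f b else f a, ?_, Or.inr ⟨?_, ?_⟩⟩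
      · intro j hj
        simp only [Set.mem_singleton_iff] at hj
        change (if j = 1 then f b else f a) ≠ 0; rw [if_neg hj]
        exact ha
      · intro j _
        simp only
        split_ifs
        · exact hf1 b
        · exact hf1 a
      · intro i hi j hj γ hγ
        have h1 : i = 0 ∨ i = 1 := by omega
        have h2 : j = 0 ∨ j = 1 := by omega
        rcases h1 with rfl | rfl <;> rcases h2 with rfl | rfl
        · rfl
        · exact absurd (hf2 _ _ γ hγ) hab
        · exact absurd (hf2 _ _ γ hγ) hab.symm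
        · rfl
    by_cases h0 : f i0 = 0
    · refine key i1 i0 h01.symm ?_
      intro h1
      apply h01
      apply hf2 _ _ (1 : Gam U)
      rw [one_smul, h0, h1]
    · exact key i0 i1 h01 h0

theorem lab_two (hmt : m ≤ t)
    (h : FH m (Lt U p hU) ∨ Orbs (Gam U) 4 (Gd (V := U) p t (Lt U p hU))) : Lab p t 3 ∅ U hU := by
  classical
  haveI := hU
  haveI : Nontrivial U := IsSimpleModule.nontrivial (RL V L) U
  obtain ⟨u, hu⟩ := exists_ne (0 : U)
  rcases h with h | ⟨f, hf1, hf2⟩
  · exact ⟨fun _ => u, fun _ _ => hu, Or.inl (FH.mono hmt h)⟩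
  · obtain ⟨i0, hi0⟩ : ∃ i0 : Fin 4, ∀ i, f i = 0 → i = i0 := by
      by_cases h : ∃ i, f i = 0
      · obtain ⟨i0, hi0⟩ := h
        refine ⟨i0, fun i hi => ?_⟩
        apply hf2 _ _ (1 : Gam U)
        rw [one_smul, hi, hi0]
      · push Not at h
        exact ⟨0, fun i hi => absurd hi (h i)⟩
    refine ⟨fun j => if h : j < 3 then f (i0.succAbove ⟨j, h⟩) else u, ?_, Or.inr ⟨?_, ?_⟩⟩
    · intro j _
      simp only
      split_ifs with h
      · intro h1
        exact Fin.succAbove_ne i0 _ (hi0 _ h1)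
      · exact hu
    · intro j hj
      simp only [dif_pos hj]
      exact hf1 _
    · intro i hi j hj γ hγ
      simp only [dif_pos hi, dif_pos hj] at hγ
      have h1 := hf2 _ _ γ hγ
      have h2 := Fin.succAbove_right_injective h1
      exact congrArg Fin.val h2

end labels

section fix

variable {B : Subgroup H}

/-- the stabilizer of an embedding -/
def St (B : Subgroup H) {W : (Submodule (RL V L) V :)} (f : W →ₗ[RL V L] V) : Subgroup B where
  carrier := {b | ∀ w, (b : H) • f w = f w}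
  one_mem' w := one_smul H _
  mul_mem' := by
    intro a b ha hb w
    change ((a : H) * (b : H)) • f w = f w
    rw [mul_smul, hb w, ha w]
  inv_mem' := by
    intro a ha w
    change (a : H)⁻¹ • f w = f w
    rw [inv_smul_eq_iff, ha w]

theorem mem_St {W : (Submodule (RL V L) V :)} {f : W →ₗ[RL V L] V} {b : B} : b ∈ St B f ↔ ∀ w, (b : H) • f w = f w := Iff.rfl

theorem nu_le_of_le [Finite H] {p : ℕ} {X Y : Subgroup B} (h : X ≤ Y) :
    (Nat.card X).factorization p ≤ (Nat.card Y).factorization p :=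
  (Nat.factorization_le_iff_dvd Nat.card_pos.ne' Nat.card_pos.ne').2 (Subgroup.card_dvd_of_le h) p

theorem nu_add [Finite H] {p : ℕ} (X : Subgroup B) :
    (Nat.card B).factorization p = (Nat.card X).factorization p + X.index.factorization p := by
  rw [← X.card_mul_index, Nat.factorization_mul Nat.card_pos.ne' Subgroup.index_ne_zero_of_finite, Finsupp.add_apply]

seal _root_.AddMonoid.End in
theorem exists_f [Finite V] [Finite H] [L.Normal] {p a b : ℕ} [Fact p.Prime] (hRat : Cfsg.Agent.H527.RC.Rat.{u} p a b) (hBp : IsPGroup p B)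
    (hBL : ∀ x ∈ B, ∀ y ∈ L, x * y = y * x) (hpV : ¬ p ∣ Nat.card V) (hf : ∀ h : H, (∀ v : V, h • v = v) → h = 1)
    (hss : (IsSemisimpleModule (RL V L) V :)) (W : CI V L → (Submodule (RL V L) V :)) (hW : ∀ c, IsSimpleModule (RL V L) (W c))
    (hWc : ∀ c : CI V L, (c : (Submodule (RL V L) V :)) = isotypicComponent (RL V L) V (W c)) :
    ∃ f : ∀ c, W c →ₗ[RL V L] V, (∀ c, f c ≠ 0) ∧
      b * (Nat.card (⨅ c, St B (f c) : Subgroup B)).factorization p ≤ a * (Nat.card B).factorization p := by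
  classical
  haveI : (SMulCommClass (RL V L) B V :) := ⟨fun r b v => comm_smul (fun l hl => hBL b b.2 l hl) r v⟩
  haveI : (Finite (∀ c : CI V L, (W c →ₗ[RL V L] V)) :) := inferInstance
  have hp : p.Prime := Fact.out
  have h1 : ¬ p ∣ (Nat.card (∀ c : CI V L, (W c →ₗ[RL V L] V)) :) := by
    intro hd
    obtain ⟨x, hx⟩ := exists_prime_addOrderOf_dvd_card' p hd
    have hx0 : x ≠ 0 := by
      rintro rfl
      rw [addOrderOf_zero] at hx
      exact hp.one_lt.ne hx
    have hpx : p • x = 0 := by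
      rw [← hx]
      exact addOrderOf_nsmul_eq_zero x
    obtain ⟨c, hc⟩ := Function.ne_iff.1 hx0
    have hc' : x c ≠ 0 := hc
    obtain ⟨w, hw⟩ : ∃ w, x c w ≠ 0 := by
      by_contra h
      push Not at h
      exact hc' ((LinearMap.ext h : _))
    have hpw : p • (x c w) = 0 := by
      have h2 := congrFun hpx c
      have h3 := (congrArg (fun φ : W c →ₗ[RL V L] V => φ w) h2 :)
      exact h3
    have h4 : addOrderOf (x c w) = p := addOrderOf_eq_prime hpw hw
    exact hpV (by rw [← h4]; exact addOrderOf_dvd_natCard _)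
  have h2 : ∀ g : B, (∀ v : (∀ c : CI V L, (W c →ₗ[RL V L] V)), g • v = v) → g = 1 := by
    intro g hg
    apply Subtype.ext
    apply hf
    apply all_of_simple hss
    · exact smul_zero _
    · intro v w hv hw
      rw [smul_add, hv, hw]
    · intro m hm v hv
      let c : CI V L := ⟨(isotypicComponent (RL V L) V m :), m, hm, rfl⟩
      haveI := hm
      haveI := hW c
      have h1 : m ≤ isotypicComponent (RL V L) V (W c) := by
        rw [← hWc c]
        exact m.le_isotypicComponent
      obtain ⟨e⟩ := isIsotypicOfType_submodule_iff.1 (IsIsotypicOfType.isotypicComponent (RL V L) V (W c)) _ h1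
      have h3 := congrFun ((hg (Function.update 0 c (m.subtype.comp e.symm.toLinearMap)) :)) c
      have h4 := (congrArg (fun φ : W c →ₗ[RL V L] V => φ (e ⟨v, hv⟩)) h3 :)
      simp only [Pi.smul_apply, Function.update_self, LinearMap.smul_apply] at h4
      have h5 : (m.subtype.comp e.symm.toLinearMap) (e ⟨v, hv⟩) = v := by simp
      rw [h5] at h4
      exact h4
  obtain ⟨f0, hf0⟩ := hRat B (∀ c : CI V L, (W c →ₗ[RL V L] V)) hBp h1 (h2 :)
  refine ⟨fun c => if f0 c = 0 then (W c).subtype else f0 c, ?_, ?_⟩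
  · intro c
    simp only
    split_ifs with h
    · intro h3
      haveI := hW c
      haveI : Nontrivial (W c) := IsSimpleModule.nontrivial (RL V L) (W c)
      obtain ⟨w, hw⟩ := exists_ne (0 : W c)
      apply hw
      apply Subtype.ext
      exact (congrArg (fun φ : W c →ₗ[RL V L] V => φ w) h3 :)
    · exact h
  · refine le_trans (Nat.mul_le_mul_left b (nu_le_of_le ?_)) hf0
    intro g hg
    rw [Subgroup.mem_iInf] at hg
    rw [mem_stabilizer_iff]
    funext c
    ext w
    have h3 := hg c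
    rw [mem_St] at h3
    change (g : H) • f0 c w = f0 c w
    by_cases h : f0 c = 0
    · rw [h]
      exact smul_zero _
    · have h4 := h3 w
      simp only [if_neg h] at h4
      exact h4

end fix

theorem smul_of_mem [Finite V] [hL : L.Normal] {l : H} (hl : l ∈ L) (c : CI V L) : l • c = c := by
  apply Subtype.ext
  ext v
  rw [mem_smul_comp]
  constructor
  · intro h
    have := inv_of_sub _ hl h
    rwa [smul_inv_smul] at this
  · intro h
    exact inv_of_sub _ (L.inv_mem hl) h

theorem pact [Finite V] {p : ℕ} (hLP : LP p L) [L.Normal] : PAct p H (CI V L) := by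
  intro h
  obtain ⟨k, hk⟩ := hLP.isP h
  exact ⟨k, fun c => smul_of_mem hk c⟩

/-- **The data exist.** -/
theorem exists_dat [Finite V] [Finite H] [L.Normal] {p t q a b : ℕ} [Fact p.Prime] {Z : Set ℕ} {B : Subgroup H}
    (hlab : ∀ (U : (Submodule (RL V L) V :)) (hU : IsSimpleModule (RL V L) U), Lab p t q Z U hU)
    (hRat : Cfsg.Agent.H527.RC.Rat.{u} p a b) (hBp : IsPGroup p B)
    (hBL : ∀ x ∈ B, ∀ y ∈ L, x * y = y * x) (hpV : ¬ p ∣ Nat.card V) (hf : ∀ h : H, (∀ v : V, h • v = v) → h = 1)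
    (hss : IsSemisimpleModule (RL V L) V) :
    ∃ D : Dat V L p t q Z, b * (Nat.card (⨅ c, St B (D.f c) : Subgroup B)).factorization p ≤ a * (Nat.card B).factorization p := by
  classical
  choose S hS1 hS2 using fun c : CI V L => c.2
  let o : CI V L → CI V L := fun c => Quotient.out (⟦c⟧ : orbitRel.Quotient H (CI V L))
  have ho : ∀ c, ∃ h : H, h • o c = c := by
    intro c
    have h1 : (orbitRel H (CI V L)) (o c) c := Quotient.mk_out (s := orbitRel H (CI V L)) c
    obtain ⟨h, hh⟩ := h1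
    exact ⟨h⁻¹, by rw [inv_smul_eq_iff]; exact hh.symm⟩
  choose hh ho using ho
  have hinv : ∀ (y : H) c, o (y • c) = o c := by
    intro y c
    have h1 : (⟦y • c⟧ : orbitRel.Quotient H (CI V L)) = ⟦c⟧ := Quotient.sound ⟨y, rfl⟩
    change Quotient.out (⟦y • c⟧ : orbitRel.Quotient H (CI V L)) = _
    rw [h1]
  choose g hg1 hg2 using fun c => hlab (S c) (hS1 c)
  have hWc : ∀ c : CI V L, (c : (Submodule (RL V L) V :)) = isotypicComponent (RL V L) V (cj (hh c) (S (o c))) := by
    intro c
    have h1 := congrArg (fun c : CI V L => (c : Submodule (RL V L) V)) (ho c)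
    rw [← cj_comp, ← hS2]
    exact h1.symm
  obtain ⟨f, hf1, hf2⟩ := exists_f hRat hBp hBL hpV hf hss (fun c => cj (hh c) (S (o c)))
    (fun c => cj_simple _ (hS1 _)) hWc
  exact ⟨⟨S, hS1, hS2, o, hh, ho, hinv, g, hg1, f, hf1, hg2⟩, hf2⟩

end Cfsg.Agent.H478.RC
end

private theorem dce_9245b542f19c : _root_.True := by
  try have : _root_.True := by simp only [_root_.Cfsg.Agent.H478.RC.Lt.congr_simp]
  exact _root_.True.intro
end
end
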